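import Cfsg.Agent.Half51.PermChar

/-!
# A character outside a permutation character sums to zero on the fibres of the action
-/

set_option autoImplicit false
set_option linter.style.haveILetI false
set_option linter.unusedSectionVars false

open Module

namespace Cfsg.Agent.Half51

universe u v

variable {G : Type u} [Group G] [Fintype G]

theorem twistedSum_eq_zero_of_orth (χ : Cfsg.IrrCharacter G) {V : Type v} [AddCommGroup V]
    [Module ℂ V] [FiniteDimensional ℂ V] (ρ : Representation ℂ G V)
    (h : Cfsg.classInner (χ : G → ℂ) ρ.character = 0) :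
    CharCore.twistedSum (χ : G → ℂ) ρ = 0 := by
  revert h
  refine CharCore.rep_induction (motive := fun V _ _ ρ =>
    Cfsg.classInner (χ : G → ℂ) ρ.character = 0 → CharCore.twistedSum (χ : G → ℂ) ρ = 0) ?_ ?_ ?_ V ρ
  · intro V _ _ _ ρ hV _
    exact Subsingleton.elim _ _
  · intro V _ _ _ ρ hρ h
    let T : Representation.IntertwiningMap ρ ρ :=
      ⟨CharCore.twistedSum (χ : G → ℂ) ρ, fun g =>
        CharCore.twistedSum_commute (CharCore.irr_isClassFunction χ) ρ g⟩
    obtain ⟨c, hc⟩ :=
      (Representation.IsIrreducible.algebraMap_intertwiningMap_bijective_of_isAlgClosed (k := ℂ)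
        (ρ := ρ)).2 T
    have hc' : CharCore.twistedSum (χ : G → ℂ) ρ = c • (1 : Module.End ℂ V) := by
      have h := congrArg Representation.IntertwiningMap.toLinearMap hc.symm
      simpa [T, Representation.IntertwiningMap.toLinearMap_smul] using! h
    have htr := CharCore.trace_twistedSum (χ : G → ℂ) ρ
    rw [h, mul_zero, hc', map_smul, LinearMap.trace_one] at htr
    rcases smul_eq_zero.mp htr with h' | h'
    · rw [hc', h', zero_smul]
    · exact absurd h' (by exact_mod_cast (CharCore.finrank_pos_of_irreducible ρ).ne')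
  · intro V _ _ _ ρ S T hST _ _ hS hT h
    rw [CharCore.character_eq_add_of_isCompl ρ S T hST, CharCore.classInner_add_right] at h
    obtain ⟨a, ha⟩ := CharCore.IsCharacter.exists_classInner_eq_natCast
      (CharCore.irr_isCharacter χ) (CharCore.isCharacter_character S.toRepresentation)
    obtain ⟨b, hb⟩ := CharCore.IsCharacter.exists_classInner_eq_natCast
      (CharCore.irr_isCharacter χ) (CharCore.isCharacter_character T.toRepresentation)
    rw [ha, hb] at h
    have hab : a + b = 0 := by exact_mod_cast h
    have hS' := hS (by rw [ha, show a = 0 by omega, Nat.cast_zero])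
    have hT' := hT (by rw [hb, show b = 0 by omega, Nat.cast_zero])
    refine LinearMap.ext fun v => ?_
    obtain ⟨x, hx, y, hy, rfl⟩ :=
      Submodule.mem_sup.mp (hST.sup_eq_top ▸ Submodule.mem_top : v ∈ S.toSubmodule ⊔ T.toSubmodule)
    have key : ∀ (U : Subrepresentation ρ) (u : V) (hu : u ∈ U.toSubmodule),
        CharCore.twistedSum (χ : G → ℂ) U.toRepresentation = 0 →
          CharCore.twistedSum (χ : G → ℂ) ρ u = 0 := by
      intro U u hu h
      have h' := congrArg (U.toSubmodule.subtype) (LinearMap.congr_fun h ⟨u, hu⟩)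
      simpa [CharCore.twistedSum, LinearMap.sum_apply, Subrepresentation.toRepresentation] using! h'
    simp [map_add, key S x hx hS', key T y hy hT']

theorem sum_fiber_eq_zero {X : Type v} [MulAction G X] [Fintype X] [DecidableEq X]
    (χ : Cfsg.IrrCharacter G) (h : Cfsg.classInner (χ : G → ℂ) (permC X) = 0) (a b : X) :
    ∑ g ∈ Finset.univ.filter (fun g : G => g • a = b), (χ : G → ℂ) g = 0 := by
  classical
  have h' : Cfsg.classInner (χ : G → ℂ) (Cfsg.permRep ℂ G X).character = 0 := by
    rw [funext (permRep_character (G := G) (X := X))]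
    exact h
  have h0 := congrFun (LinearMap.congr_fun (twistedSum_eq_zero_of_orth χ (Cfsg.permRep ℂ G X) h')
    (Pi.single b (1 : ℂ))) a
  simp only [CharCore.twistedSum, LinearMap.sum_apply, LinearMap.smul_apply, LinearMap.zero_apply,
    Finset.sum_apply, Pi.smul_apply, smul_eq_mul, Pi.zero_apply] at h0
  rw [Finset.sum_filter]
  refine Eq.trans (Finset.sum_congr rfl fun g _ => ?_) h0
  have e : Cfsg.permRep ℂ G X g⁻¹ (Pi.single b (1 : ℂ)) a =
      (Pi.single b (1 : ℂ) : X → ℂ) (g⁻¹⁻¹ • a) := rfl
  rw [e, inv_inv, Pi.single_apply, mul_ite, mul_one, mul_zero]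

end Cfsg.Agent.Half51
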