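import Cfsg.Agent.Half51.Defs
import Cfsg.Agent.PermB.JordanPrime
import Cfsg.Agent.S1013
import Cfsg.Agent.OddLocal44.HalfNormalizer
import Mathlib.GroupTheory.SpecificGroups.Alternating
import Mathlib.NumberTheory.LegendreSymbol.Basic
import Mathlib.RingTheory.RootsOfUnity.PrimitiveRoots
import Mathlib.RingTheory.IntegralDomain

/-!
# Basic consequences: the squares as powers of one element, parity, simplicity
-/

set_option autoImplicit false
set_option linter.style.haveILetI false
set_option linter.unusedSectionVars false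

open MulAction

namespace Cfsg.Agent.Half51

variable {p q : ℕ} [hp : Fact p.Prime] {G : Subgroup (Equiv.Perm (ZMod p))}

namespace Setup

variable (hS : Setup p q G)
include hS

theorem qpos : 0 < q := hS.prime_q.pos

theorem p_ge : 23 ≤ p := by have := hS.hpq; have := hS.eleven_le; omega

theorem p_odd : p ≠ 2 := by have := hS.p_ge; omega

theorem q_odd : Odd q := hS.prime_q.odd_of_ne_two (by have := hS.eleven_le; omega)

theorem q_lt : q < p := by have := hS.hpq; omega

theorem exists_omega : ∃ w : ZMod p, orderOf w = q := by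
  obtain ⟨g, hg⟩ := IsCyclic.exists_generator (α := (ZMod p)ˣ)
  have h : orderOf g = 2 * q := by
    rw [orderOf_eq_card_of_forall_mem_zpowers hg, Nat.card_eq_fintype_card, ZMod.card_units]
    have := hS.hpq; omega
  refine ⟨((g ^ 2 : (ZMod p)ˣ) : ZMod p), ?_⟩
  rw [orderOf_units, orderOf_pow' g (by norm_num), h, Nat.gcd_comm, Nat.gcd_mul_right_right,
    Nat.mul_div_cancel_left _ (by norm_num)]

/-- An element of multiplicative order `q`. -/
noncomputable def omega : ZMod p := hS.exists_omega.choose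

theorem orderOf_omega : orderOf hS.omega = q := hS.exists_omega.choose_spec

theorem omega_pow_q : hS.omega ^ q = 1 := by
  have := pow_orderOf_eq_one hS.omega
  rwa [hS.orderOf_omega] at this

theorem omega_ne_zero : hS.omega ≠ 0 := fun h => by
  have := hS.omega_pow_q
  rw [h, zero_pow hS.qpos.ne'] at this
  exact zero_ne_one this

/-- The square with logarithm `i`. -/
noncomputable def sq (i : ZMod q) : ZMod p := hS.omega ^ i.val

theorem sq_natCast (n : ℕ) : hS.sq (n : ZMod q) = hS.omega ^ n := by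
  rw [sq, ZMod.val_natCast]
  conv_rhs => rw [← pow_mod_orderOf, hS.orderOf_omega]

theorem sq_zero : hS.sq 0 = 1 := by
  have := hS.sq_natCast 0
  simpa using this

theorem sq_one : hS.sq 1 = hS.omega := by
  have := hS.sq_natCast 1
  simpa using this

theorem sq_add (i j : ZMod q) : hS.sq (i + j) = hS.sq i * hS.sq j := by
  haveI : NeZero q := ⟨hS.qpos.ne'⟩
  conv_lhs => rw [← ZMod.natCast_zmod_val i, ← ZMod.natCast_zmod_val j, ← Nat.cast_add]
  rw [hS.sq_natCast, pow_add]
  rfl

theorem sq_ne_zero (i : ZMod q) : hS.sq i ≠ 0 := pow_ne_zero _ hS.omega_ne_zero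

theorem sq_inj : Function.Injective hS.sq := by
  haveI : NeZero q := ⟨hS.qpos.ne'⟩
  intro i j h
  apply ZMod.val_injective q
  exact pow_injOn_Iio_orderOf (by rw [Set.mem_Iio, hS.orderOf_omega]; exact i.val_lt)
    (by rw [Set.mem_Iio, hS.orderOf_omega]; exact j.val_lt) h

theorem sq_pow_q (i : ZMod q) : hS.sq i ^ q = 1 := by
  rw [sq, ← pow_mul, mul_comm, pow_mul, hS.omega_pow_q, one_pow]

theorem neg_one_pow_q : (-1 : ZMod p) ^ q = -1 := hS.q_odd.neg_one_pow

theorem one_ne_neg_one : (1 : ZMod p) ≠ -1 := by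
  haveI : Fact (2 < p) := ⟨by have := hS.p_ge; omega⟩
  exact (ZMod.neg_one_ne_one).symm

theorem sq_ne_neg_sq (i j : ZMod q) : hS.sq i ≠ -hS.sq j := fun h => by
  have := congrArg (· ^ q) h
  simp only [hS.sq_pow_q] at this
  rw [neg_pow, hS.sq_pow_q, mul_one, hS.neg_one_pow_q] at this
  exact hS.one_ne_neg_one this

theorem isSquare_sq (i : ZMod q) : IsSquare (hS.sq i) := by
  obtain ⟨k, hk⟩ := hS.q_odd
  refine ⟨hS.sq i ^ (k + 1), ?_⟩
  rw [← pow_add, show k + 1 + (k + 1) = q + 1 by omega, pow_succ, hS.sq_pow_q, one_mul]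

theorem eq_sq_of_pow {x : ZMod p} (h : x ^ q = 1) : ∃ i, x = hS.sq i := by
  haveI : NeZero q := ⟨hS.qpos.ne'⟩
  obtain ⟨k, -, hk⟩ :=
    (IsPrimitiveRoot.iff_orderOf.mpr hS.orderOf_omega).eq_pow_of_pow_eq_one h
  exact ⟨k, by rw [hS.sq_natCast, hk]⟩

theorem exists_sq_or_neg {x : ZMod p} (hx : x ≠ 0) :
    (∃ i, x = hS.sq i) ∨ ∃ i, x = -hS.sq i := by
  have h1 : (x ^ q) * (x ^ q) = 1 := by
    rw [← pow_add, show q + q = p - 1 by have := hS.hpq; omega]
    exact ZMod.pow_card_sub_one_eq_one hx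
  rcases mul_self_eq_one_iff.mp h1 with h | h
  · exact Or.inl (hS.eq_sq_of_pow h)
  · obtain ⟨i, hi⟩ := hS.eq_sq_of_pow (x := -x)
      (by rw [neg_pow, hS.neg_one_pow_q, h, neg_mul_neg, one_mul])
    exact Or.inr ⟨i, by rw [← hi, neg_neg]⟩

theorem exists_eq_sq {s : ZMod p} (hs : s ≠ 0) (h : IsSquare s) : ∃ i, s = hS.sq i := by
  refine hS.eq_sq_of_pow ?_
  obtain ⟨r, rfl⟩ := h
  rw [← pow_two, ← pow_mul, show 2 * q = p - 1 by have := hS.hpq; omega]
  exact ZMod.pow_card_sub_one_eq_one (fun h => hs (by simp [h]))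

theorem not_isSquare_neg_one : ¬ IsSquare (-1 : ZMod p) := fun h => by
  obtain ⟨i, hi⟩ := hS.exists_eq_sq (neg_ne_zero.mpr one_ne_zero) h
  exact hS.sq_ne_neg_sq i 0 (by rw [hS.sq_zero, ← hi])

/-- Coordinates on the points: `0`, squares, negatives of squares. -/
noncomputable def pt : Option (ZMod q ⊕ ZMod q) → ZMod p
  | none => 0
  | some (Sum.inl i) => hS.sq i
  | some (Sum.inr i) => -hS.sq i

theorem pt_bijective : Function.Bijective hS.pt := by
  constructor
  · rintro (_ | i | i) (_ | j | j) h <;> simp only [pt] at h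
    · rfl
    · exact absurd h.symm (hS.sq_ne_zero j)
    · exact absurd h.symm (neg_ne_zero.mpr (hS.sq_ne_zero j))
    · exact absurd h (hS.sq_ne_zero i)
    · rw [hS.sq_inj h]
    · exact absurd h (hS.sq_ne_neg_sq i j)
    · exact absurd h (neg_ne_zero.mpr (hS.sq_ne_zero i))
    · exact absurd h.symm (hS.sq_ne_neg_sq j i)
    · rw [hS.sq_inj (neg_injective h)]
  · intro x
    by_cases hx : x = 0
    · exact ⟨none, hx.symm⟩
    · rcases hS.exists_sq_or_neg hx with ⟨i, hi⟩ | ⟨i, hi⟩
      · exact ⟨some (Sum.inl i), hi.symm⟩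
      · exact ⟨some (Sum.inr i), hi.symm⟩

/-- The coordinates, as an equivalence. -/
noncomputable def ptEquiv : Option (ZMod q ⊕ ZMod q) ≃ ZMod p := Equiv.ofBijective _ hS.pt_bijective

/-- Induction on points. -/
theorem pt_cases {P : ZMod p → Prop} (h0 : P 0) (h1 : ∀ i, P (hS.sq i)) (h2 : ∀ i, P (-hS.sq i))
    (x : ZMod p) : P x := by
  obtain ⟨(_ | i | i), rfl⟩ := hS.pt_bijective.2 x
  exacts [h0, h1 i, h2 i]

/-! ### The group -/

theorem isPretransitive : IsPretransitive G (ZMod p) := ⟨fun x y => by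
  obtain ⟨g, hg, hgx⟩ := hS.exists_aff 1 (y - x) one_ne_zero IsSquare.one
  exact ⟨⟨g, hg⟩, by show g x = y; rw [hgx]; ring⟩⟩

theorem isPreprimitive : IsPreprimitive G (ZMod p) := by
  haveI := hS.isPretransitive
  exact IsPreprimitive.of_prime_card (by rw [Nat.card_zmod]; exact hp.out)

theorem setup44 : IsMultiplyPretransitive G (ZMod p) 2 ∧
    ∀ {a b : ZMod p}, a ≠ b → ∀ c : Fin 3 → ZMod p, (∀ i, c i ≠ a) → (∀ i, c i ≠ b) →
      (∀ i j, i ≠ j → ∀ g : G, g • a = a → g • b = b → g • c i ≠ c j) → False := by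
  classical
  haveI := hS.isPretransitive
  let P : Sylow p G := default
  obtain ⟨-, h2, -, -, h3⟩ :=
    OddLocal44.half_normalizer_setup (ZMod.card p) hS.not_solvable P (hS.card_normalizer P)
  exact ⟨h2, fun hab c hca hcb hd => h3 hab c hca hcb hd⟩

theorem two_trans : IsMultiplyPretransitive G (ZMod p) 2 := hS.setup44.1

theorem three_orbits {a b : ZMod p} (hab : a ≠ b) (c : Fin 3 → ZMod p) (hca : ∀ i, c i ≠ a)
    (hcb : ∀ i, c i ≠ b) (hd : ∀ i j, i ≠ j → ∀ g : G, g • a = a → g • b = b → g • c i ≠ c j) :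
    False := hS.setup44.2 hab c hca hcb hd

theorem isSimpleGroup : IsSimpleGroup G := by
  classical
  haveI := hS.isPretransitive
  let P : Sylow p G := default
  have hP : Nat.card (P : Subgroup G) = p :=
    Cfsg.Agent.Perm.PrimeDeg.card_sylow (ZMod.card p) P
  set N := Subgroup.normalizer ((P : Subgroup G) : Set G) with hN'
  have hN : Nat.card N = p * q := by
    have := hS.card_normalizer P
    rw [show p - 1 = 2 * q by have := hS.hpq; omega, mul_left_comm] at this
    exact Nat.eq_of_mul_eq_mul_left (by norm_num : 0 < 2) this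
  have hidx : ((P : Subgroup G).subgroupOf N).index = q := by
    have h := Subgroup.card_mul_index ((P : Subgroup G).subgroupOf N)
    rw [Nat.card_congr (Subgroup.subgroupOfEquivOfLe Subgroup.le_normalizer).toEquiv, hP, hN] at h
    exact Nat.eq_of_mul_eq_mul_left hp.out.pos h
  refine Cfsg.Agent.S1013.result (ZMod.card p) G P ?_ (by rw [hidx]; exact hS.prime_q)
  by_contra hle
  have h1 : Nat.card (Sylow p G) = 1 := le_antisymm (not_lt.mp hle) Nat.card_pos
  have htop : N = ⊤ := by
    rw [← Subgroup.index_eq_one]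
    exact P.card_eq_index_normalizer ▸ h1
  haveI : (P : Subgroup G).Normal := Subgroup.normalizer_eq_top_iff.mp htop
  refine hS.not_solvable ?_
  haveI : IsCyclic (P : Subgroup G) := isCyclic_of_prime_card hP
  have hq : Nat.card (G ⧸ (P : Subgroup G)) = q := by
    have h := Subgroup.card_mul_index (P : Subgroup G)
    rw [hP, ← Subgroup.card_top (G := G), ← htop, hN] at h
    exact Nat.eq_of_mul_eq_mul_left hp.out.pos h
  haveI : Fact q.Prime := ⟨hS.prime_q⟩
  haveI : IsCyclic (G ⧸ (P : Subgroup G)) := isCyclic_of_prime_card hq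
  exact Group.isSolvable_of_ker_le_range (P : Subgroup G).subtype
    (QuotientGroup.mk' (P : Subgroup G))
    (by rw [QuotientGroup.ker_mk', Subgroup.range_subtype])

theorem le_alternating : G ≤ alternatingGroup (ZMod p) := by
  classical
  haveI := hS.isSimpleGroup
  let f : G →* ℤˣ := Equiv.Perm.sign.comp G.subtype
  rcases IsSimpleGroup.eq_bot_or_eq_top_of_normal f.ker inferInstance with h | h
  · refine absurd ?_ hS.not_solvable
    exact Group.isSolvable_of_isSolvable_injective (f := f) ((MonoidHom.ker_eq_bot_iff f).mp h)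
  · intro g hg
    have : (⟨g, hg⟩ : G) ∈ f.ker := h ▸ Subgroup.mem_top _
    exact Equiv.Perm.mem_alternatingGroup.mpr this

theorem sign_eq_one {g : Equiv.Perm (ZMod p)} (hg : g ∈ G) : Equiv.Perm.sign g = 1 :=
  Equiv.Perm.mem_alternatingGroup.mp (hS.le_alternating hg)

theorem not_alternating_le : ¬ alternatingGroup (ZMod p) ≤ G := fun hle => by
  refine hS.not_four ?_
  haveI := alternatingGroup.isMultiplyPretransitive (ZMod p)
  haveI : IsMultiplyPretransitive (alternatingGroup (ZMod p)) (ZMod p) 4 :=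
    isMultiplyPretransitive_of_le (n := Nat.card (ZMod p) - 2)
      (by rw [Nat.card_zmod]; have := hS.p_ge; omega) (Nat.sub_le _ _)
  exact ⟨fun x y => by
    obtain ⟨g, hg⟩ := exists_smul_eq (alternatingGroup (ZMod p)) x y
    exact ⟨⟨g, hle g.2⟩, hg⟩⟩

theorem no_q_cycle {g : Equiv.Perm (ZMod p)} (hg : g ∈ G) (hc : g.IsCycle)
    (hs : g.support.card = q) : False :=
  hS.not_alternating_le (Cfsg.Agent.PermB.jordan_prime_cycle G hS.isPreprimitive hS.prime_q
    (by rw [ZMod.card]; have := hS.hpq; have := hS.eleven_le; omega) hc hs hg)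

end Setup

end Cfsg.Agent.Half51
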