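import Cfsg.Agent.Half51.Moments

/-!
# The moments for the group under study
-/

set_option autoImplicit false
set_option linter.style.haveILetI false
set_option linter.unusedSectionVars false

open MulAction

namespace Cfsg.Agent.Half51

variable {p q : ℕ} [hp : Fact p.Prime] {G : Subgroup (Equiv.Perm (ZMod p))} [Fintype G]

namespace Setup

variable (hS : Setup p q G)
include hS

theorem orb_one : orbN G (ZMod p) 1 = 1 := by
  haveI := hS.isPretransitive
  exact orbN_eq_one (by rw [ZMod.card]; exact hp.out.one_le) (is_one_pretransitive_iff.mpr inferInstance)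

theorem orb_two : orbN G (ZMod p) 2 = 1 :=
  orbN_eq_one (by rw [ZMod.card]; exact hp.out.two_le) hS.two_trans

theorem vals_of (k : ℤ) (h3 : (orbN G (ZMod p) 3 : ℤ) = k)
    (hτ : ∀ v : Fin 3 ↪ ZMod p, ∃ g : G, g • v = relab (Equiv.swap 0 1) v) :
    Vals G (ZMod p) k := by
  classical
  have h1 := hS.orb_one
  have h2 := hS.orb_two
  haveI : IsPretransitive G (Fin 2 ↪ ZMod p) := hS.two_trans
  haveI : Nonempty (Fin 2 ↪ ZMod p) :=
    Function.Embedding.nonempty_of_card_le (by rw [Fintype.card_fin, ZMod.card]; exact hp.out.two_le)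
  refine ⟨sum_fZ h1, sum_fZ_sq h1 h2, ?_, ?_, sum_sZ h1 h2, ?_⟩
  · have h := sum_descFactorial (G := G) (Ω := ZMod p) 3
    simp only [cast_descFactorial_three] at h
    rw [h3] at h
    exact h
  · have h := sum_descFactorial (G := G) (Ω := ZMod p) 4
    simp only [cast_descFactorial_four] at h
    exact h
  · have h := sum_card_move_eq (G := G) (relab (Equiv.swap 0 1)) hτ
    have h' := sum_descFactorial (G := G) (Ω := ZMod p) 3
    rw [← h3, ← h']
    simp only [sZ, fZ, ← Nat.cast_mul]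
    rw [← Nat.cast_sum, ← Nat.cast_sum]
    congr 1
    refine Eq.trans ?_ (h.trans ?_) <;> refine Finset.sum_congr rfl fun g _ => ?_
    · exact (move_three g).symm
    · exact fixNum_emb 3 g

theorem vals_three (h3 : IsMultiplyPretransitive G (ZMod p) 3) : Vals G (ZMod p) 1 := by
  refine hS.vals_of 1 ?_ fun v => h3.exists_smul_eq v _
  rw [orbN_eq_one (by rw [ZMod.card]; have := hS.p_ge; omega) h3, Nat.cast_one]

theorem exists_class (h3 : ¬ IsMultiplyPretransitive G (ZMod p) 3) :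
    ∃ B : ZMod p → ZMod p → ZMod p → Prop,
      (∀ x y w, B y x w ↔ B x y w) ∧
      (∀ v w : Fin 3 ↪ ZMod p, (B (v 0) (v 1) (v 2) ↔ B (w 0) (w 1) (w 2)) ↔ ∃ g : G, g • v = w) ∧
      (∃ c, c ≠ 0 ∧ c ≠ 1 ∧ B 0 1 c) ∧ (∃ c, c ≠ 0 ∧ c ≠ 1 ∧ ¬ B 0 1 c) := by
  classical
  have hmod : p % 4 = 3 := by
    have : q % 2 = 1 := Nat.odd_iff.mp hS.q_odd
    have := hS.hpq
    omega
  obtain ⟨B, hBG, ⟨c, hc0, hc1, hc⟩, ⟨c', hc'0, hc'1, hc'⟩, hsw, -, -⟩ :=
    exists_rel (by have := hS.p_ge; omega) hmod hS.not_solvable hS.exists_aff h3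
  refine ⟨B, hsw, fun v w => ⟨fun hiff => ?_, ?_⟩, ⟨c, hc0, hc1, hc⟩, ⟨c', hc'0, hc'1, hc'⟩⟩
  · have hnorm : ∀ u : Fin 3 ↪ ZMod p, ∃ g : G, g • u 0 = 0 ∧ g • u 1 = 1 := fun u =>
      is_two_pretransitive_iff.mp hS.two_trans (u.injective.ne (by decide)) zero_ne_one
    obtain ⟨a, ha0, ha1⟩ := hnorm v
    obtain ⟨b, hb0, hb1⟩ := hnorm w
    have hBv : B 0 1 (a • v 2) ↔ B (v 0) (v 1) (v 2) := by
      rw [← ha0, ← ha1]
      exact hBG a a.2 _ _ _
    have hBw : B 0 1 (b • w 2) ↔ B (w 0) (w 1) (w 2) := by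
      rw [← hb0, ← hb1]
      exact hBG b b.2 _ _ _
    by_contra hno
    push Not at hno
    have key : ∀ g : G, g • (0 : ZMod p) = 0 → g • (1 : ZMod p) = 1 → g • (a • v 2) ≠ b • w 2 := by
      intro g g0 g1 he
      refine hno (b⁻¹ * g * a) (Function.Embedding.ext fun i => ?_)
      show (b⁻¹ * g * a) • v i = w i
      rw [mul_smul, mul_smul, inv_smul_eq_iff]
      fin_cases i
      · show g • a • v 0 = b • w 0
        rw [ha0, g0, hb0]
      · show g • a • v 1 = b • w 1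
        rw [ha1, g1, hb1]
      · exact he
    obtain ⟨x, hx0, hx1, hxB⟩ : ∃ x : ZMod p, x ≠ 0 ∧ x ≠ 1 ∧ (B 0 1 x ↔ ¬ B 0 1 (a • v 2)) := by
      by_cases h : B 0 1 (a • v 2)
      · exact ⟨c', hc'0, hc'1, iff_of_false hc' (not_not_intro h)⟩
      · exact ⟨c, hc0, hc1, iff_of_true hc h⟩
    have hne : ∀ g : G, g • (0 : ZMod p) = 0 → g • (1 : ZMod p) = 1 → ∀ y z,
        (B 0 1 y ↔ ¬ B 0 1 z) → g • y ≠ z := by
      intro g g0 g1 y z hyz he
      have h := hBG g g.2 0 1 y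
      have h' : B (g • (0 : ZMod p)) (g • (1 : ZMod p)) (g • y) ↔ B 0 1 y := h
      rw [g0, g1, he] at h'
      tauto
    have hvw : B 0 1 (a • v 2) ↔ B 0 1 (b • w 2) := hBv.trans (hiff.trans hBw.symm)
    have hxw : B 0 1 x ↔ ¬ B 0 1 (b • w 2) := hxB.trans (not_congr hvw)
    have hvx : B 0 1 (a • v 2) ↔ ¬ B 0 1 x := ((not_congr hxB).trans not_not).symm
    have hwx : B 0 1 (b • w 2) ↔ ¬ B 0 1 x := hvw.symm.trans hvx
    refine hS.three_orbits zero_ne_one ![a • v 2, b • w 2, x] (fun i => ?_) (fun i => ?_)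
      fun i j hij g g0 g1 => ?_
    · fin_cases i
      · show a • v 2 ≠ 0
        rw [← ha0]; exact fun h => v.injective.ne (by decide : (2 : Fin 3) ≠ 0) (smul_left_cancel a h)
      · show b • w 2 ≠ 0
        rw [← hb0]; exact fun h => w.injective.ne (by decide : (2 : Fin 3) ≠ 0) (smul_left_cancel b h)
      · exact hx0
    · fin_cases i
      · show a • v 2 ≠ 1
        rw [← ha1]; exact fun h => v.injective.ne (by decide : (2 : Fin 3) ≠ 1) (smul_left_cancel a h)
      · show b • w 2 ≠ 1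
        rw [← hb1]; exact fun h => w.injective.ne (by decide : (2 : Fin 3) ≠ 1) (smul_left_cancel b h)
      · exact hx1
    · fin_cases i <;> fin_cases j
      · exact absurd rfl hij
      · exact key g g0 g1
      · exact hne g g0 g1 _ _ hvx
      · intro he
        exact key g⁻¹ (by rw [inv_smul_eq_iff, g0]) (by rw [inv_smul_eq_iff, g1])
          (by rw [inv_smul_eq_iff]; exact he.symm)
      · exact absurd rfl hij
      · exact hne g g0 g1 _ _ hwx
      · exact hne g g0 g1 _ _ hxB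
      · exact hne g g0 g1 _ _ hxw
      · exact absurd rfl hij
  · rintro ⟨g, rfl⟩
    exact (hBG g g.2 _ _ _).symm

theorem vals_two (h3 : ¬ IsMultiplyPretransitive G (ZMod p) 3) : Vals G (ZMod p) 2 := by
  classical
  obtain ⟨B, hsw, hcl, ⟨c, hc0, hc1, hc⟩, ⟨c', hc'0, hc'1, hc'⟩⟩ := hS.exists_class h3
  let Φ : orbitRel.Quotient G (Fin 3 ↪ ZMod p) → Prop :=
    Quotient.lift (fun v : Fin 3 ↪ ZMod p => B (v 0) (v 1) (v 2)) fun v w h => by
      obtain ⟨g, hg⟩ := orbitRel_apply.mp h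
      exact propext ((hcl v w).mpr ⟨g⁻¹, by rw [← hg]; exact inv_smul_smul g w⟩)
  have hmk : ∀ a : ZMod p, a ≠ 0 → a ≠ 1 → ∃ v : Fin 3 ↪ ZMod p, v 0 = 0 ∧ v 1 = 1 ∧ v 2 = a := by
    intro a a0 a1
    refine ⟨⟨![0, 1, a], fun i j h => ?_⟩, rfl, rfl, rfl⟩
    fin_cases i <;> fin_cases j <;> (first | rfl | exact absurd h zero_ne_one | exact absurd h one_ne_zero | exact absurd h a0 | exact absurd h.symm a0 | exact absurd h a1 | exact absurd h.symm a1)
  have hbij : Function.Bijective Φ := by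
    constructor
    · refine Quotient.ind fun v => Quotient.ind fun w h => Quotient.sound ?_
      obtain ⟨g, hg⟩ := (hcl w v).mp (Iff.of_eq h).symm
      exact orbitRel_apply.mpr ⟨g, hg⟩
    · intro P
      by_cases hP : P
      · obtain ⟨v, v0, v1, v2⟩ := hmk c hc0 hc1
        exact ⟨Quotient.mk'' v, propext (iff_of_true (show B (v 0) (v 1) (v 2) by rw [v0, v1, v2]; exact hc) hP)⟩
      · obtain ⟨v, v0, v1, v2⟩ := hmk c' hc'0 hc'1
        exact ⟨Quotient.mk'' v, propext (iff_of_false (show ¬ B (v 0) (v 1) (v 2) by rw [v0, v1, v2]; exact hc') hP)⟩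
  refine hS.vals_of 2 ?_ fun v => (hcl v _).mp (hsw (v 0) (v 1) (v 2)).symm
  have h : orbN G (ZMod p) 3 = Nat.card Prop := Nat.card_eq_of_bijective Φ hbij
  rw [h, Nat.card_eq_fintype_card, Fintype.card_prop]
  rfl

end Setup

end Cfsg.Agent.Half51
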