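import Cfsg.Agent.Half51.Weights
import Cfsg.Agent.Half51.Values
import Cfsg.Agent.Lib.CharInd.Char

/-!
# The characters `θ`, `W` and `M`, and their constituents
-/

set_option autoImplicit false
set_option linter.style.haveILetI false
set_option linter.unusedSectionVars false

open scoped ComplexConjugate

namespace Cfsg.Agent.Half51

open SmallGroups

theorem classInner_int {G : Type*} [Group G] [Fintype G] (a b : G → ℤ) :
    Cfsg.classInner (fun g => (a g : ℂ)) (fun g => (b g : ℂ)) =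
      ((∑ g, a g * b g : ℤ) : ℂ) / (Fintype.card G : ℂ) := by
  simp only [Cfsg.classInner, map_intCast, Int.cast_sum, Int.cast_mul, Nat.card_eq_fintype_card]
  rw [div_eq_inv_mul]

theorem classInner_int_eq {G : Type*} [Group G] [Fintype G] (a b : G → ℤ) (k : ℤ)
    (h : ∑ g, a g * b g = k * Fintype.card G) :
    Cfsg.classInner (fun g => (a g : ℂ)) (fun g => (b g : ℂ)) = (k : ℂ) := by
  rw [classInner_int, h, Int.cast_mul, Int.cast_natCast,
    mul_div_assoc, div_self (Nat.cast_ne_zero.mpr Fintype.card_ne_zero), mul_one]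

theorem exists_mult {G : Type*} [Group G] [Fintype G] {f : G → ℂ} (hf : Cfsg.IsCharacter G f) :
    ∃ m : Cfsg.IrrCharacter G → ℕ, f = ∑ χ, (m χ : ℂ) • (χ : G → ℂ) ∧
      ∀ χ : Cfsg.IrrCharacter G, Cfsg.classInner f (χ : G → ℂ) = m χ := by
  choose m hm using fun χ : Cfsg.IrrCharacter G =>
    CharCore.IsCharacter.exists_classInner_irr_eq_natCast hf χ
  refine ⟨m, ?_, hm⟩
  conv_lhs => rw [CharCore.IsCharacter.eq_sum_classInner hf]
  simp only [hm]

theorem deg_sum_eq {G : Type*} [Group G] [Fintype G] {f : G → ℂ} {m : Cfsg.IrrCharacter G → ℕ}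
    (hf : f = ∑ χ, (m χ : ℂ) • (χ : G → ℂ)) {a : ℤ} (ha : f 1 = (a : ℂ)) :
    ∑ χ, (m χ : ℤ) * SelfCent.Setup.deg χ = a := by
  apply Int.cast_injective (α := ℂ)
  rw [← ha, hf]
  push_cast
  simp only [Finset.sum_apply, Pi.smul_apply, smul_eq_mul, (SelfCent.Setup.deg_spec _).2.2]

variable {p q : ℕ} [hp : Fact p.Prime] [hqf : Fact q.Prime] {G : Subgroup (Equiv.Perm (ZMod p))}
  [Fintype G]

/-- The permutation character minus one. -/
noncomputable def thetaC (G : Subgroup (Equiv.Perm (ZMod p))) : G → ℂ :=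
  fun g => ((fZ (ZMod p) g - 1 : ℤ) : ℂ)

/-- Fixed pairs minus fixed points. -/
noncomputable def wC (G : Subgroup (Equiv.Perm (ZMod p))) : G → ℂ :=
  fun g => ((yZ (ZMod p) g : ℤ) : ℂ)

/-- Fixed ordered pairs minus fixed pairs. -/
noncomputable def mC (G : Subgroup (Equiv.Perm (ZMod p))) : G → ℂ :=
  fun g => ((fZ (ZMod p) g * (fZ (ZMod p) g - 1) - fZ (ZMod p) g - yZ (ZMod p) g : ℤ) : ℂ)

namespace Setup

variable (hS : Setup p q G)
include hS

theorem isCharacter_wC : Cfsg.IsCharacter G (wC G) := by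
  have h := isCharacter_pair_sub (G := G) (Ω := ZMod p)
    (by rw [ZMod.card]; have := hS.p_ge; omega)
  convert h using 1
  funext g
  simp [wC, yZ, permC]

theorem isCharacter_mC : Cfsg.IsCharacter G (mC G) := by
  have h := isCharacter_emb_sub_pair (G := G) (Ω := ZMod p)
  refine (iff_of_eq (congrArg (Cfsg.IsCharacter G) ?_)).mpr h
  funext g
  simp only [mC, Pi.sub_apply, permC]
  have h2 := cast_descFactorial_two (fixNum (ZMod p) g)
  erw [fixNum_emb 2 g]
  rw [← Int.cast_natCast (R := ℂ) ((fixNum (ZMod p) g).descFactorial 2), h2]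
  simp only [yZ, fZ]
  push_cast
  ring

theorem classInner_thetaC_self : Cfsg.classInner (thetaC G) (thetaC G) = 1 := by
  have h1 := sum_fZ hS.orb_one
  have h2 := sum_fZ_sq hS.orb_one hS.orb_two
  unfold thetaC
  rw [classInner_int_eq _ _ 1 ?_, Int.cast_one]
  rw [Finset.sum_congr rfl (g := fun g : G => fZ (ZMod p) g * (fZ (ZMod p) g - 1) - fZ (ZMod p) g + 1)
    fun g _ => by ring]
  simp only [Finset.sum_sub_distrib, Finset.sum_add_distrib, h1, h2, Finset.sum_const,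
    Finset.card_univ, nsmul_one]
  ring

theorem thetaC_one : thetaC G 1 = ((2 * q : ℕ) : ℂ) := by
  rw [thetaC, fZ, fixNum_one, ZMod.card, hS.hpq]
  push_cast
  ring

theorem isIrr_thetaC : Cfsg.IsIrrCharacter G (thetaC G) := by
  refine CharCore.IsGeneralizedCharacter.isIrr_of_norm_one ?_ hS.classInner_thetaC_self ?_
  · refine ⟨permC (ZMod p), 1, isCharacter_permC, CharCore.isCharacter_one, ?_⟩
    funext g
    simp [thetaC, fZ, permC]
  · rw [hS.thetaC_one, Complex.natCast_re]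
    exact_mod_cast Nat.mul_pos two_pos hS.qpos

/-- `θ` as an irreducible character. -/
noncomputable def theta : Cfsg.IrrCharacter G := ⟨thetaC G, hS.isIrr_thetaC⟩

theorem fix_tau {u : ZMod p} (hu : u ≠ 0) :
    fixNum (ZMod p) (hS.ps.zp u) = 0 ∧ swp (ZMod p) (hS.ps.zp u) = 0 := by
  have hsmul : ∀ x : ZMod p, hS.ps.zp u • x = u + x := fun x => hS.ps_zp_apply u x
  constructor
  · rw [fixNum, Finset.card_eq_zero, Finset.filter_eq_empty_iff]
    intro x _ h
    rw [hsmul] at h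
    exact hu (add_eq_right.mp h)
  · rw [swp, Finset.card_eq_zero, Finset.filter_eq_empty_iff]
    rintro x _ ⟨-, h⟩
    rw [hsmul, hsmul, ← add_assoc, add_eq_right, ← two_mul, mul_eq_zero] at h
    rcases h with h | h
    · have h' : ((2 : ℕ) : ZMod p) = 0 := by exact_mod_cast h
      rw [ZMod.natCast_eq_zero_iff] at h'
      have := Nat.le_of_dvd two_pos h'
      have := hS.p_ge
      omega
    · exact hu h

theorem fix_cyc {k : ZMod q} (hk : k ≠ 0) :
    fixNum (ZMod p) (hS.qs.zp k) = 1 ∧ swp (ZMod p) (hS.qs.zp k) = 0 := by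
  have hsmul : ∀ x : ZMod p, hS.qs.zp k • x = hS.sq k * x := fun x => hS.qs_zp_apply k x
  have hne : ∀ j : ZMod q, j ≠ 0 → ∀ x : ZMod p, hS.sq j * x = x → x = 0 := fun j hj x h => by
    by_contra hx
    exact hj (hS.sq_inj (by rw [hS.sq_zero]; exact mul_right_cancel₀ hx (by rw [h, one_mul])))
  constructor
  · rw [fixNum, Finset.card_eq_one]
    refine ⟨0, Finset.ext fun x => ?_⟩
    simp only [Finset.mem_filter, Finset.mem_univ, true_and, Finset.mem_singleton, hsmul]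
    exact ⟨hne k hk x, fun h => by rw [h, mul_zero]⟩
  · rw [swp, Finset.card_eq_zero, Finset.filter_eq_empty_iff]
    rintro x _ ⟨h1, h2⟩
    rw [hsmul, hsmul, ← mul_assoc, ← hS.sq_add] at h2
    refine h1 ?_
    have hk2 : k + k ≠ 0 := by
      rw [← two_mul]
      refine mul_ne_zero (fun h => ?_) hk
      have h' : ((2 : ℕ) : ZMod q) = 0 := by exact_mod_cast h
      rw [ZMod.natCast_eq_zero_iff] at h'
      have := Nat.le_of_dvd two_pos h'
      have := hS.eleven_le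
      omega
    rw [hsmul, hne _ hk2 x h2, mul_zero]

theorem y_one : yZ (ZMod p) (1 : G) = (p : ℤ) * ((q : ℤ) - 1) := by
  have h := two_mul_yZ (Ω := ZMod p) (1 : G)
  simp only [fZ, sZ, fixNum_one, swp_one, ZMod.card] at h
  have hp' : (p : ℤ) = 2 * q + 1 := by exact_mod_cast hS.hpq
  push_cast at h
  rw [hp'] at h ⊢
  linarith

theorem y_tau {u : ZMod p} (hu : u ≠ 0) : yZ (ZMod p) (hS.ps.zp u) = 0 := by
  have h := two_mul_yZ (Ω := ZMod p) (hS.ps.zp u)
  simp only [fZ, sZ, (hS.fix_tau hu).1, (hS.fix_tau hu).2] at h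
  push_cast at h
  linarith

theorem y_cyc {k : ZMod q} (hk : k ≠ 0) : yZ (ZMod p) (hS.qs.zp k) = -1 := by
  have h := two_mul_yZ (Ω := ZMod p) (hS.qs.zp k)
  simp only [fZ, sZ, (hS.fix_cyc hk).1, (hS.fix_cyc hk).2] at h
  push_cast at h
  linarith

theorem wtC_of_values (f : G → ℂ) (v w : ℂ) (hv : ∀ u, u ≠ 0 → f (hS.ps.zp u) = v)
    (hw : ∀ k, k ≠ 0 → f (hS.qs.zp k) = w) (i : ZMod q) :
    hS.wtC f i = ((f 1 + ((p : ℂ) - 1) * v) / p + (if i = 0 then (q : ℂ) - 1 else -1) * w) / q := by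
  classical
  rw [wtC, SelfCent.Setup.mult, SelfCent.Setup.mult]
  simp only [phi_eq_apply hS.qs rfl, phi_eq_apply hS.ps rfl, zero_mul, neg_zero,
    AddChar.map_zero_eq_one, mul_one]
  rw [← Finset.add_sum_erase _ (fun x => f (hS.ps.zp x)) (Finset.mem_univ (0 : ZMod p)),
    Finset.sum_congr rfl (fun x hx => hv x (Finset.ne_of_mem_erase hx)), Finset.sum_const,
    Finset.card_erase_of_mem (Finset.mem_univ _), Finset.card_univ, ZMod.card, hS.ps.zp_zero,
    nsmul_eq_mul, Nat.cast_sub hp.out.one_le, Nat.cast_one]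
  rw [← Finset.add_sum_erase _ _ (Finset.mem_univ (0 : ZMod q)),
    Finset.sum_congr rfl (g := fun x => w * (ZMod.stdAddChar (-(i * x)) : ℂ))
      (fun x hx => by rw [hw x (Finset.ne_of_mem_erase hx)]), ← Finset.mul_sum, hS.qs.zp_zero,
    mul_zero, neg_zero, AddChar.map_zero_eq_one, mul_one]
  have hsum : ∑ x ∈ Finset.univ.erase (0 : ZMod q), (ZMod.stdAddChar (-(i * x)) : ℂ) =
      if i = 0 then (q : ℂ) - 1 else -1 := by
    by_cases hi : i = 0
    · simp [hi, Finset.card_erase_of_mem, Nat.cast_sub hqf.out.one_le]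
    · rw [if_neg hi]
      have h := SelfCent.stdAddChar_sum_erase (p := q) (k := -i) (neg_ne_zero.mpr hi)
      rw [← h]
      exact Finset.sum_congr rfl fun x _ => by congr 1; ring
  rw [hsum]
  have hp0 : (p : ℂ) ≠ 0 := Nat.cast_ne_zero.mpr hp.out.ne_zero
  have hq0 : (q : ℂ) ≠ 0 := Nat.cast_ne_zero.mpr hS.qpos.ne'
  field_simp
  ring

theorem wtC_wC (i : ZMod q) : hS.wtC (wC G) i = if i = 0 then 0 else 1 := by
  rw [hS.wtC_of_values (wC G) 0 (-1) (fun u hu => by rw [wC, hS.y_tau hu]; simp)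
    (fun k hk => by rw [wC, hS.y_cyc hk]; simp), wC, hS.y_one]
  have hp0 : (p : ℂ) ≠ 0 := Nat.cast_ne_zero.mpr hp.out.ne_zero
  have hq0 : (q : ℂ) ≠ 0 := Nat.cast_ne_zero.mpr hS.qpos.ne'
  split_ifs <;> push_cast <;> field_simp <;> ring

theorem wtC_mC (i : ZMod q) : hS.wtC (mC G) i = 1 := by
  rw [hS.wtC_of_values (mC G) 0 0
    (fun u hu => by rw [mC, fZ, hS.y_tau hu, (hS.fix_tau hu).1]; simp)
    (fun k hk => by rw [mC, fZ, hS.y_cyc hk, (hS.fix_cyc hk).1]; simp), mC, fZ, fixNum_one,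
    ZMod.card, hS.y_one]
  have hp' : (p : ℂ) = 2 * q + 1 := by exact_mod_cast hS.hpq
  have hp0 : (p : ℂ) ≠ 0 := Nat.cast_ne_zero.mpr hp.out.ne_zero
  have hq0 : (q : ℂ) ≠ 0 := Nat.cast_ne_zero.mpr hS.qpos.ne'
  push_cast
  simp only [mul_zero, add_zero, Int.cast_natCast]
  field_simp
  linear_combination hp'

theorem wt_theta (i : ZMod q) : hS.wt hS.theta i = 0 := by
  have h := hS.wt_spec hS.theta i
  rw [show ((hS.theta : Cfsg.IrrCharacter G) : G → ℂ) = thetaC G from rfl,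
    hS.wtC_of_values (thetaC G) (-1) 0
      (fun u hu => by rw [thetaC, fZ, (hS.fix_tau hu).1]; simp)
      (fun k hk => by rw [thetaC, fZ, (hS.fix_cyc hk).1]; simp), hS.thetaC_one] at h
  have hp' : (p : ℂ) = 2 * q + 1 := by exact_mod_cast hS.hpq
  rw [hp'] at h
  push_cast at h
  rw [show (2 * (q : ℂ) + ((2 * (q : ℂ) + 1) - 1) * -1) = 0 by ring, zero_div, mul_zero, add_zero,
    zero_div] at h
  exact_mod_cast h.symm

theorem vecO_eq_wt (χ : Cfsg.IrrCharacter G) (o : hS.qs.Orb) :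
    hS.qs.vecO χ o =
      (hS.wt χ ((Quotient.out o : (ZMod q)ˣ) : ZMod q) : ℤ) - hS.wt χ 0 :=
  hS.vec_eq_wt_sub χ _

theorem sum_m_wt {f : G → ℂ} {m : Cfsg.IrrCharacter G → ℕ}
    (hf : f = ∑ χ, (m χ : ℂ) • (χ : G → ℂ)) (i : ZMod q) {a : ℕ} (ha : hS.wtC f i = a) :
    ∑ χ, m χ * hS.wt χ i = a := by
  rw [hS.wtC_sum hf] at ha
  exact_mod_cast ha

/-- The multiplicities of the constituents of `W`. -/
noncomputable def mW (χ : Cfsg.IrrCharacter G) : ℕ :=
  (exists_mult hS.isCharacter_wC).choose χ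

theorem wC_eq : wC G = ∑ χ, (hS.mW χ : ℂ) • (χ : G → ℂ) :=
  (exists_mult hS.isCharacter_wC).choose_spec.1

theorem classInner_wC (χ : Cfsg.IrrCharacter G) :
    Cfsg.classInner (wC G) (χ : G → ℂ) = hS.mW χ :=
  (exists_mult hS.isCharacter_wC).choose_spec.2 χ

theorem wt_zero_of_mW {χ : Cfsg.IrrCharacter G} (hm : hS.mW χ ≠ 0) : hS.wt χ 0 = 0 := by
  have h := hS.sum_m_wt hS.wC_eq 0 (a := 0) (by rw [hS.wtC_wC, if_pos rfl]; simp)
  exact (mul_eq_zero.mp (Finset.sum_eq_zero_iff.mp h χ (Finset.mem_univ _))).resolve_left hm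

theorem sum_mW_vecO (o : hS.qs.Orb) : ∑ χ, (hS.mW χ : ℤ) * hS.qs.vecO χ o = 1 := by
  have h := hS.sum_m_wt hS.wC_eq ((Quotient.out o : (ZMod q)ˣ) : ZMod q) (a := 1)
    (by rw [hS.wtC_wC, if_neg (Units.ne_zero _)]; simp)
  rw [Finset.sum_congr rfl (g := fun χ => ((hS.mW χ * hS.wt χ
    ((Quotient.out o : (ZMod q)ˣ) : ZMod q) : ℕ) : ℤ)) fun χ _ => ?_, ← Nat.cast_sum, h, Nat.cast_one]
  rw [hS.vecO_eq_wt]
  by_cases hm : hS.mW χ = 0
  · simp [hm]
  · rw [hS.wt_zero_of_mW hm, Nat.cast_zero, sub_zero, Nat.cast_mul]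

theorem vecO_nonneg {χ : Cfsg.IrrCharacter G} (hm : hS.mW χ ≠ 0) (o : hS.qs.Orb) :
    0 ≤ hS.qs.vecO χ o := by
  rw [hS.vecO_eq_wt, hS.wt_zero_of_mW hm]
  simp

/-- The two possible shapes of `W`. -/
theorem wC_shape [Fintype hS.qs.Orb] [DecidableEq hS.qs.Orb] (D : Shape hS.qs) :
    (∃ χ₀, D.Non χ₀ ∧ D.c χ₀ = 1 ∧ hS.mW χ₀ = 1 ∧
      ∀ χ, χ ≠ χ₀ → hS.mW χ ≠ 0 → D.Non χ ∧ D.c χ = 0) ∨
    (D.ε = 1 ∧ (∀ o, hS.mW (D.exc o) = 1) ∧ ∀ χ, D.Non χ → hS.mW χ ≠ 0 → D.c χ = 0) := by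
  classical
  have o₀ : hS.qs.Orb := ((1 : (ZMod q)ˣ) : hS.qs.Orb)
  set N := Finset.univ.filter fun χ : Cfsg.IrrCharacter G => D.Non χ with hN
  have hsplit : ∀ o, (hS.mW (D.exc o) : ℤ) * D.ε + ∑ χ ∈ N, (hS.mW χ : ℤ) * D.c χ = 1 := by
    intro o
    refine Eq.trans ?_ (hS.sum_mW_vecO o)
    rw [← Finset.sum_sdiff (Finset.subset_univ N), Finset.sum_congr rfl
      (fun χ hχ => by rw [← D.vecO_non χ (Finset.mem_filter.mp hχ).2 o])]
    congr 1
    rw [Finset.sum_eq_single (D.exc o)]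
    · rw [D.vecO_exc, if_pos rfl]
    · intro χ hχ hne
      rcases D.exc_or_non χ with ⟨j, rfl⟩ | h
      · rw [D.vecO_exc, if_neg fun h => hne (by rw [h]), mul_zero]
      · exact absurd (Finset.mem_filter.mpr ⟨Finset.mem_univ _, h⟩) (Finset.mem_sdiff.mp hχ).2
    · intro h
      exact absurd (Finset.mem_sdiff.mpr ⟨Finset.mem_univ _,
        fun h' => (show D.Non (D.exc o) from (Finset.mem_filter.mp h').2) o rfl⟩) h
  have hcnn : ∀ χ, D.Non χ → hS.mW χ ≠ 0 → 0 ≤ D.c χ := fun χ hχ hm => by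
    rw [← D.vecO_non χ hχ o₀]; exact hS.vecO_nonneg hm o₀
  have hterm : ∀ χ ∈ N, 0 ≤ (hS.mW χ : ℤ) * D.c χ := fun χ hχ => by
    by_cases hm : hS.mW χ = 0
    · simp [hm]
    · exact mul_nonneg (Int.natCast_nonneg _) (hcnn χ (Finset.mem_filter.mp hχ).2 hm)
  have hexc : ∀ o, 0 ≤ (hS.mW (D.exc o) : ℤ) * D.ε := fun o => by
    by_cases hm : hS.mW (D.exc o) = 0
    · simp [hm]
    · have h := hS.vecO_nonneg hm o
      rw [D.vecO_exc, if_pos rfl] at h
      exact mul_nonneg (Int.natCast_nonneg _) h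
  by_cases hall : ∀ χ, D.Non χ → hS.mW χ ≠ 0 → D.c χ = 0
  · refine Or.inr ?_
    have hz : ∑ χ ∈ N, (hS.mW χ : ℤ) * D.c χ = 0 := Finset.sum_eq_zero fun χ hχ => by
      by_cases hm : hS.mW χ = 0
      · simp [hm]
      · rw [hall χ (Finset.mem_filter.mp hχ).2 hm, mul_zero]
    have h1 : ∀ o, (hS.mW (D.exc o) : ℤ) * D.ε = 1 := fun o => by
      have := hsplit o; rw [hz, add_zero] at this; exact this
    have hε : D.ε = 1 := by
      rcases D.hε with h | h
      · exact h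
      · have := h1 o₀; rw [h] at this
        have := Int.natCast_nonneg (hS.mW (D.exc o₀))
        omega
    refine ⟨hε, fun o => ?_, hall⟩
    have := h1 o; rw [hε, mul_one] at this
    exact_mod_cast this
  · push Not at hall
    obtain ⟨χ₀, hχ₀, hm₀, hc₀⟩ := hall
    have hc1 : D.c χ₀ = 1 := by
      have := hcnn χ₀ hχ₀ hm₀
      rcases D.c_range χ₀ with h | h | h <;> omega
    have hmem : χ₀ ∈ N := Finset.mem_filter.mpr ⟨Finset.mem_univ _, hχ₀⟩
    have hge : (hS.mW χ₀ : ℤ) ≤ ∑ χ ∈ N, (hS.mW χ : ℤ) * D.c χ := by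
      have := Finset.single_le_sum hterm hmem
      rwa [hc1, mul_one] at this
    have hpos : 0 < hS.mW χ₀ := Nat.pos_of_ne_zero hm₀
    have h0 := hsplit o₀
    have h0' := hexc o₀
    have hone : hS.mW χ₀ = 1 := by omega
    have hrest : ∑ χ ∈ N.erase χ₀, (hS.mW χ : ℤ) * D.c χ = 0 := by
      have h := Finset.add_sum_erase N (fun χ => (hS.mW χ : ℤ) * D.c χ) hmem
      simp only [hc1, hone, Nat.cast_one, mul_one] at h
      have : 0 ≤ ∑ χ ∈ N.erase χ₀, (hS.mW χ : ℤ) * D.c χ :=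
        Finset.sum_nonneg fun χ hχ => hterm χ (Finset.mem_of_mem_erase hχ)
      omega
    refine Or.inl ⟨χ₀, hχ₀, hc1, hone, fun χ hne hm => ?_⟩
    rcases D.exc_or_non χ with ⟨o, rfl⟩ | h
    · exfalso
      have h1 := hsplit o
      have h2 : 0 ≤ D.ε := by
        have := hS.vecO_nonneg hm o
        rwa [D.vecO_exc, if_pos rfl] at this
      have hε : D.ε = 1 := by rcases D.hε with h | h <;> omega
      rw [hε, mul_one] at h1
      omega
    · refine ⟨h, ?_⟩
      have := (Finset.sum_eq_zero_iff_of_nonneg fun χ hχ => hterm χ (Finset.mem_of_mem_erase hχ)).mp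
        hrest χ (Finset.mem_erase.mpr ⟨hne, Finset.mem_filter.mpr ⟨Finset.mem_univ _, h⟩⟩)
      rcases mul_eq_zero.mp this with h' | h'
      · exact absurd (by exact_mod_cast h') hm
      · exact h'

theorem mu_zero_of_vec_zero [Fintype hS.qs.Orb] [DecidableEq hS.qs.Orb] (D : Shape hS.qs)
    {χ : Cfsg.IrrCharacter G} (hχ : D.Non χ) (hc : D.c χ = 0) (h0 : hS.wt χ 0 = 0) :
    mu hS.ps χ 0 = 0 := by
  have h : ∀ i : ZMod q, hS.wt χ i = 0 := fun i => by
    by_cases hi : i = 0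
    · rw [hi, h0]
    · have h1 := hS.qs.vec_eq_vecO χ (Units.mk0 i hi)
      rw [Units.val_mk0, D.vecO_non χ hχ, hc, hS.vec_eq_wt_sub, h0] at h1
      omega
  have := hS.sum_wt χ
  simp only [h, Nat.cast_zero, Finset.sum_const_zero] at this
  exact_mod_cast this.symm

theorem deg_of_mu_zero [Fintype hS.ps.Orb] [DecidableEq hS.ps.Orb] (Dp : Shape hS.ps)
    {χ : Cfsg.IrrCharacter G} (h : mu hS.ps χ 0 = 0) :
    SelfCent.Setup.deg χ = 2 * q ∨ (SelfCent.Setup.deg χ = q ∧ Dp.ε = 1) := by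
  have hpos := (SelfCent.Setup.deg_spec χ).1
  have hp' : (p : ℤ) = 2 * q + 1 := by exact_mod_cast hS.hpq
  rcases Dp.exc_or_non χ with ⟨o, rfl⟩ | hn
  · have hd := Dp.deg_exc rfl o
    rw [h, hS.card_auto_ps] at hd
    rcases Dp.hε with he | he
    · rw [he] at hd; right; exact ⟨by omega, he⟩
    · rw [he] at hd; omega
  · have hd := Dp.deg_non rfl hn
    rw [h] at hd
    rcases Dp.c_range χ with hc | hc | hc <;> rw [hc] at hd
    · omega
    · left; omega
    · omega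

theorem not_comm : ¬ IsMulCommutative G := fun h => hS.not_solvable (by
  exact Group.isSolvable_of_comm fun a b => h.is_comm.comm a b)

theorem deg_one_eq_triv {χ : Cfsg.IrrCharacter G} (h : SelfCent.Setup.deg χ = 1) :
    χ = SelfCent.Setup.triv := by
  haveI := hS.isSimpleGroup
  exact (SelfCent.deg_eq_one_iff hS.not_comm χ).mp h

theorem mW_triv {k : ℤ} (hV : Vals G (ZMod p) k) : hS.mW SelfCent.Setup.triv = 0 := by
  have h := hS.classInner_wC SelfCent.Setup.triv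
  rw [show ((SelfCent.Setup.triv : Cfsg.IrrCharacter G) : G → ℂ) = fun _ => ((1 : ℤ) : ℂ) from
    funext fun _ => Int.cast_one.symm] at h
  unfold wC at h
  rw [classInner_int_eq _ _ 0 (by simpa using hV.sum_y)] at h
  exact_mod_cast h.symm

theorem mW_theta {k : ℤ} (hV : Vals G (ZMod p) k) : (hS.mW hS.theta : ℤ) = k - 1 := by
  have h := hS.classInner_wC hS.theta
  rw [show ((hS.theta : Cfsg.IrrCharacter G) : G → ℂ) = thetaC G from rfl] at h
  unfold wC thetaC at h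
  rw [classInner_int_eq _ _ (k - 1) ?_] at h
  · exact_mod_cast h.symm
  · rw [Finset.sum_congr rfl (g := fun g : G => fZ (ZMod p) g * yZ (ZMod p) g - yZ (ZMod p) g)
      fun g _ => by ring, Finset.sum_sub_distrib, hV.sum_fy, hV.sum_y, sub_zero]

end Setup

end Cfsg.Agent.Half51
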