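import Mathlib.Data.ZMod.Basic
import Mathlib.GroupTheory.Sylow
import Mathlib.GroupTheory.Solvable
import Mathlib.GroupTheory.GroupAction.MultipleTransitivity

/-!
# Prime degree `p = 2q + 1` with half-size Sylow normalizer: the hypotheses
-/

set_option autoImplicit false

namespace Cfsg.Agent.Half51

/-- An insoluble group on `ZMod p`, `p = 2q + 1` with `q ≥ 11` prime, having all square affine
maps and Sylow `p`-normalizers of order `p * q`, which is not 4-fold transitive. -/
structure Setup (p q : ℕ) [Fact p.Prime] (G : Subgroup (Equiv.Perm (ZMod p))) : Prop where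
  prime_q : q.Prime
  eleven_le : 11 ≤ q
  hpq : p = 2 * q + 1
  not_solvable : ¬ Group.IsSolvable G
  card_normalizer : ∀ P : Sylow p G,
    2 * Nat.card ↥(Subgroup.normalizer ((P : Subgroup G) : Set G)) = p * (p - 1)
  exists_aff : ∀ s c : ZMod p, s ≠ 0 → IsSquare s → ∃ g ∈ G, ∀ x, g x = c + s * x
  not_four : ¬ MulAction.IsMultiplyPretransitive G (ZMod p) 4

end Cfsg.Agent.Half51
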