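import Cfsg.Agent.Half51.Weights
import Cfsg.Agent.S4724

/-!
# Elements of order divisible by `q`; the case of a single character of degree `p`
-/

set_option autoImplicit false
set_option linter.style.haveILetI false
set_option linter.unusedSectionVars false

namespace Cfsg.Agent.Half51

open SmallGroups

theorem mem_zpowers_iff_exists_zp {G : Type*} [Group G] [Finite G] {r : ℕ} [Fact r.Prime]
    (s : SelfCent.Setup G r) {h : G} : h ∈ Subgroup.zpowers s.z ↔ ∃ a, h = s.zp a := by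
  constructor
  · intro hh
    obtain ⟨n, hn⟩ := (isOfFinOrder_of_finite _).mem_powers_iff_mem_zpowers.mpr hh
    exact ⟨(n : ZMod r), by rw [s.zp_natCast]; exact hn.symm⟩
  · rintro ⟨a, rfl⟩
    exact Subgroup.pow_mem _ (Subgroup.mem_zpowers _) _

theorem mem_normalizer_zpowers {G : Type*} [Group G] [Finite G] {r : ℕ} [Fact r.Prime]
    (s : SelfCent.Setup G r) {g : G} {j k : ZMod r} (hj : j ≠ 0) (hk : k ≠ 0)
    (h : g * s.zp j * g⁻¹ = s.zp k) :
    g ∈ Subgroup.normalizer ((Subgroup.zpowers s.z : Subgroup G) : Set G) := by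
  refine Subgroup.mem_normalizer_iff.mpr fun x => ?_
  constructor
  · intro hx
    obtain ⟨a, rfl⟩ := (mem_zpowers_iff_exists_zp s).mp hx
    refine (mem_zpowers_iff_exists_zp s).mpr ⟨k * (j⁻¹ * a), ?_⟩
    rw [← s.conj_zp_mul h (j⁻¹ * a), mul_inv_cancel_left₀ hj]
  · intro hx
    obtain ⟨a, ha⟩ := (mem_zpowers_iff_exists_zp s).mp hx
    refine (mem_zpowers_iff_exists_zp s).mpr ⟨j * (k⁻¹ * a), ?_⟩
    have h1 := s.conj_zp_mul h (k⁻¹ * a)
    rw [mul_inv_cancel_left₀ hk, ← ha] at h1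
    exact (mul_left_cancel (mul_right_cancel h1)).symm

variable {p q : ℕ} [hp : Fact p.Prime] [hqf : Fact q.Prime] {G : Subgroup (Equiv.Perm (ZMod p))}

namespace Setup

variable [Fintype G] (hS : Setup p q G)
include hS

theorem zpowers_qs_z : Subgroup.zpowers hS.qs.z = Subgroup.zpowers hS.cyc := rfl

theorem isConj_zp_of_dvd {g : G} (hg : q ∣ orderOf g) :
    ∃ k : ZMod q, k ≠ 0 ∧ IsConj (hS.qs.zp k) g := by
  obtain ⟨Q, hQ⟩ := hS.zpowers_cyc_sylow
  have hg0 : orderOf g ≠ 0 := (orderOf_pos g).ne'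
  have hh : orderOf (g ^ (orderOf g / q)) = q := orderOf_pow_orderOf_div hg0 hg
  obtain ⟨R, hR⟩ := (IsPGroup.of_card (n := 1) (p := q)
    (by rw [pow_one, Nat.card_zpowers, hh])).exists_le_sylow
      (P := Subgroup.zpowers (g ^ (orderOf g / q)))
  obtain ⟨x, hx⟩ := MulAction.exists_smul_eq G R Q
  have hxh : x * g ^ (orderOf g / q) * x⁻¹ ∈ Subgroup.zpowers hS.qs.z := by
    rw [hS.zpowers_qs_z, ← hQ, ← hx, Sylow.coe_subgroup_smul]
    exact Subgroup.mem_pointwise_smul_iff_inv_smul_mem.mpr (by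
      rw [MulAut.smul_def, ← map_inv, MulAut.conj_apply, inv_inv, mul_assoc x, ← mul_assoc,
        ← mul_assoc, inv_mul_cancel, one_mul, inv_mul_cancel_right]
      exact hR (Subgroup.mem_zpowers _))
  obtain ⟨j, hj⟩ := (mem_zpowers_iff_exists_zp hS.qs).mp hxh
  have hj0 : j ≠ 0 := by
    rintro rfl
    rw [hS.qs.zp_zero, conj_eq_one_iff, ← orderOf_eq_one_iff, hh] at hj
    exact hS.prime_q.ne_one hj
  have hc : x * g * x⁻¹ ∈ Subgroup.centralizer ({hS.qs.zp j} : Set G) := by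
    rw [Subgroup.mem_centralizer_singleton_iff, ← hj, ← conj_pow]
    exact (Commute.self_pow _ _).eq
  rw [hS.qs.centralizer_zp hj0] at hc
  obtain ⟨k, w, hw, hkw⟩ := hS.qs.exists_of_mem_cent hc
  rw [show w = 1 from Subgroup.mem_bot.mp hw, mul_one] at hkw
  refine ⟨k, ?_, (isConj_iff.mpr ⟨x, hkw⟩).symm⟩
  rintro rfl
  rw [hS.qs.zp_zero, conj_eq_one_iff] at hkw
  rw [hkw, orderOf_one, Nat.dvd_one] at hg
  exact hS.prime_q.ne_one hg

theorem card_singular :
    Nat.card hS.qs.auto * (q * Nat.card {g : G // q ∣ orderOf g}) =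
      (q - 1) * Fintype.card G := by
  classical
  have hord : ∀ k : (ZMod q)ˣ, orderOf (hS.qs.zp (k : ZMod q)) = q := fun k => by
    refine orderOf_eq_prime ?_ fun h => k.ne_zero ((hS.qs.zp_eq_one_iff _).mp h)
    rw [hS.qs.zp_pow, ZMod.natCast_self, mul_zero, hS.qs.zp_zero]
  let Φ : G × (ZMod q)ˣ → {g : G // q ∣ orderOf g} := fun x =>
    ⟨x.1 * hS.qs.zp (x.2 : ZMod q) * x.1⁻¹, by
      rw [show x.1 * hS.qs.zp (x.2 : ZMod q) * x.1⁻¹ =
        MulAut.conj x.1 (hS.qs.zp (x.2 : ZMod q)) from rfl, MulEquiv.orderOf_eq, hord]⟩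
  have hfib : ∀ b, Nat.card {x // Φ x = b} =
      Nat.card (Subgroup.normalizer ((Subgroup.zpowers hS.qs.z : Subgroup G) : Set G)) := by
    rintro ⟨g, hg⟩
    obtain ⟨k₀, hk₀, hconj⟩ := hS.isConj_zp_of_dvd hg
    obtain ⟨x₀, rfl⟩ := isConj_iff.mp hconj
    have hval : ∀ x : {x // Φ x = ⟨x₀ * hS.qs.zp k₀ * x₀⁻¹, hg⟩},
        (x₀⁻¹ * x.1.1) * hS.qs.zp (x.1.2 : ZMod q) * (x₀⁻¹ * x.1.1)⁻¹ = hS.qs.zp k₀ := by
      rintro ⟨x, hx⟩
      have hx' : x.1 * hS.qs.zp (x.2 : ZMod q) * x.1⁻¹ = x₀ * hS.qs.zp k₀ * x₀⁻¹ :=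
        congrArg Subtype.val hx
      calc _ = x₀⁻¹ * (x.1 * hS.qs.zp (x.2 : ZMod q) * x.1⁻¹) * x₀ := by group
        _ = _ := by rw [hx']; group
    refine Nat.card_congr (Equiv.ofBijective (fun x => ⟨x₀⁻¹ * x.1.1,
      mem_normalizer_zpowers hS.qs x.1.2.ne_zero hk₀ (hval x)⟩) ⟨?_, ?_⟩)
    · rintro ⟨⟨x, k⟩, hx⟩ ⟨⟨y, l⟩, hy⟩ hxy
      have h1 : x = y := mul_left_cancel (congrArg Subtype.val hxy)
      subst h1
      have h2 : x * hS.qs.zp (k : ZMod q) * x⁻¹ = x * hS.qs.zp (l : ZMod q) * x⁻¹ :=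
        (congrArg Subtype.val hx).trans (congrArg Subtype.val hy).symm
      have h3 := Units.ext (hS.qs.zp_injective (mul_left_cancel (mul_right_cancel h2)))
      subst h3
      rfl
    · rintro ⟨n, hn⟩
      have hmem : n⁻¹ * hS.qs.zp k₀ * n⁻¹⁻¹ ∈ Subgroup.zpowers hS.qs.z :=
        (Subgroup.mem_normalizer_iff.mp (inv_mem hn) _).mp
          ((mem_zpowers_iff_exists_zp _).mpr ⟨k₀, rfl⟩)
      obtain ⟨l, hl⟩ := (mem_zpowers_iff_exists_zp _).mp hmem
      have hl0 : l ≠ 0 := by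
        rintro rfl
        rw [hS.qs.zp_zero, conj_eq_one_iff, hS.qs.zp_eq_one_iff] at hl
        exact hk₀ hl
      refine ⟨⟨(x₀ * n, Units.mk0 l hl0), Subtype.ext ?_⟩, Subtype.ext ?_⟩
      · show x₀ * n * hS.qs.zp l * (x₀ * n)⁻¹ = x₀ * hS.qs.zp k₀ * x₀⁻¹
        rw [← hl]; group
      · show x₀⁻¹ * (x₀ * n) = n
        group
  have hsum := Nat.card_congr (Equiv.sigmaFiberEquiv Φ)
  rw [Nat.card_sigma, Finset.sum_congr rfl fun b _ => hfib b, Finset.sum_const, Finset.card_univ,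
    smul_eq_mul, hS.qs.card_normalizer, show Nat.card hS.qs.K = 1 from Subgroup.card_bot, mul_one,
    Nat.card_prod, Nat.card_eq_fintype_card (α := (ZMod q)ˣ), ZMod.card_units,
    Nat.card_eq_fintype_card (α := G)] at hsum
  rw [Nat.card_eq_fintype_card (α := {g : G // q ∣ orderOf g}), mul_comm (q - 1), ← hsum]
  ring

theorem false_of_unique (hd : Nat.card hS.qs.auto = 2)
    (huniq : ∃! χ : Cfsg.IrrCharacter G, Cfsg.charDegree (χ : G → ℂ) = p) : False := by
  classical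
  haveI := hS.isPretransitive
  have hcardP : Nat.card (Subgroup.zpowers hS.ps.z) = p := by
    rw [Nat.card_zpowers, show orderOf hS.ps.z = p from hS.orderOf_tau]
  have hcardE : Nat.card (Subgroup.zpowers hS.cyc) = q := by
    rw [Nat.card_zpowers, hS.orderOf_cyc]
  let P : Sylow p G := (IsPGroup.of_card (n := 1) (by rw [hcardP, pow_one]) :
    IsPGroup p (Subgroup.zpowers hS.ps.z)).toSylow hS.not_dvd_index_tau
  have hcop : (Nat.card (Subgroup.zpowers hS.ps.z)).Coprime (Nat.card (Subgroup.zpowers hS.cyc)) := by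
    rw [hcardP, hcardE]
    exact (Nat.coprime_primes hp.out hS.prime_q).mpr hS.q_lt.ne'
  have hcycN : hS.cyc ∈ Subgroup.normalizer ((Subgroup.zpowers hS.ps.z : Subgroup G) : Set G) := by
    refine mem_normalizer_zpowers hS.ps one_ne_zero hS.omega_ne_zero ?_
    refine Subtype.ext (Equiv.ext fun x => ?_)
    obtain ⟨y, rfl⟩ := (hS.cyc : Equiv.Perm (ZMod p)).surjective x
    rw [Subgroup.coe_mul, Subgroup.coe_mul, Subgroup.coe_inv, Equiv.Perm.mul_apply,
      Equiv.Perm.mul_apply, Equiv.Perm.inv_def, Equiv.symm_apply_apply, hS.ps_zp_apply,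
      hS.ps_zp_apply, hS.cyc_apply, hS.cyc_apply]
    ring
  have hNP : Nat.card (Subgroup.normalizer ((Subgroup.zpowers hS.ps.z : Subgroup G) : Set G)) =
      q * p := by
    rw [hS.ps.card_normalizer, hS.card_auto_ps, show Nat.card hS.ps.K = 1 from Subgroup.card_bot,
      mul_one]
  have hPE : Subgroup.zpowers hS.ps.z ⊔ Subgroup.zpowers hS.cyc =
      Subgroup.normalizer ((Subgroup.zpowers hS.ps.z : Subgroup G) : Set G) := by
    refine Subgroup.eq_of_le_of_card_ge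
      (sup_le Subgroup.le_normalizer (Subgroup.zpowers_le.mpr hcycN)) ?_
    have hdiv := Nat.Coprime.mul_dvd_of_dvd_of_dvd hcop
      (Subgroup.card_dvd_of_le (le_sup_left (b := Subgroup.zpowers hS.cyc)))
      (Subgroup.card_dvd_of_le (le_sup_right (a := Subgroup.zpowers hS.ps.z)))
    rw [hcardP, hcardE, mul_comm] at hdiv
    rw [hNP]
    exact Nat.le_of_dvd Nat.card_pos hdiv
  have hNE : Nat.card (Subgroup.normalizer ((Subgroup.zpowers hS.cyc : Subgroup G) : Set G)) =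
      2 * Nat.card (Subgroup.zpowers hS.cyc) := by
    rw [hcardE, ← hS.zpowers_qs_z, hS.qs.card_normalizer, hd,
      show Nat.card hS.qs.K = 1 from Subgroup.card_bot, mul_one]
  have hTI : ∀ g : G, g ∉ Subgroup.normalizer ((Subgroup.zpowers hS.cyc : Subgroup G) : Set G) →
      Subgroup.zpowers hS.cyc ⊓
        (Subgroup.zpowers hS.cyc).map (MulAut.conj g).toMonoidHom = ⊥ := by
    intro g hg
    by_contra hne
    apply hg
    haveI : Fact (Nat.card (Subgroup.zpowers hS.cyc)).Prime := ⟨hcardE.symm ▸ hS.prime_q⟩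
    have hmem : g * hS.qs.z * g⁻¹ ∈
        (Subgroup.zpowers hS.cyc).map (MulAut.conj g).toMonoidHom :=
      Subgroup.mem_map_of_mem _ (Subgroup.mem_zpowers hS.cyc)
    have hle : Subgroup.zpowers hS.cyc ≤
        (Subgroup.zpowers hS.cyc).map (MulAut.conj g).toMonoidHom := by
      rcases (Subgroup.eq_bot_or_eq_top_of_prime_card
        ((Subgroup.zpowers hS.cyc ⊓ (Subgroup.zpowers hS.cyc).map
          (MulAut.conj g).toMonoidHom).subgroupOf (Subgroup.zpowers hS.cyc))) with h | h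
      · rw [Subgroup.subgroupOf_eq_bot, disjoint_iff, inf_right_comm, inf_idem] at h
        exact absurd h hne
      · rw [Subgroup.subgroupOf_eq_top, le_inf_iff] at h
        exact h.2
    have heq := Subgroup.eq_of_le_of_card_ge hle
      (le_of_eq (Subgroup.card_map_of_injective (MulAut.conj g).injective))
    rw [← heq, ← hS.zpowers_qs_z, mem_zpowers_iff_exists_zp] at hmem
    obtain ⟨k, hk⟩ := hmem
    rw [← hS.qs.zp_one] at hk
    refine mem_normalizer_zpowers hS.qs one_ne_zero (fun h0 => ?_) hk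
    rw [h0, hS.qs.zp_zero, conj_eq_one_iff, hS.qs.zp_eq_one_iff] at hk
    exact one_ne_zero hk
  have h := (Cfsg.Agent.S4724.result (ZMod.card p) G huniq P (Subgroup.zpowers hS.cyc) hPE
    (disjoint_iff.mp (Subgroup.disjoint_of_coprime_natCard hcop)) hNE hTI).1
  have := hS.p_ge
  omega

end Setup

end Cfsg.Agent.Half51
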