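import Mathlib

/-!
The numerical contradiction at the end of the half-type Sylow count: three moment
identities for `y` together with the bounds on fixed points are incompatible.
-/

namespace Cfsg.Agent.Half51

/-- Sum of a pointwise bound of the shape `A·(y + 1_Sing) + B·(f-1)·y + D·1_one`. -/
lemma numeric_sum_bound {ι : Type*} [Fintype ι] [DecidableEq ι] (one : ι) (Sing : ι → Prop)
    [DecidablePred Sing] (f y L : ι → ℤ) (h0 : ∑ g, y g = 0) (h1 : ∑ g, f g * y g = 0)
    (A B D : ℤ)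
    (hpt : ∀ g, L g ≤ A * (y g + if Sing g then 1 else 0) + B * ((f g - 1) * y g)
      + if g = one then D else 0) :
    ∑ g, L g ≤ A * ((Finset.univ.filter Sing).card : ℤ) + D := by
  refine le_trans (Finset.sum_le_sum fun g _ => hpt g) (le_of_eq ?_)
  have h1' : ∑ g, (f g - 1) * y g = 0 := by
    simp [sub_mul, Finset.sum_sub_distrib, h0, h1]
  rw [Finset.sum_add_distrib, Finset.sum_add_distrib, ← Finset.mul_sum, ← Finset.mul_sum,
    Finset.sum_add_distrib, h0, h1', Finset.sum_boole]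
  simp

lemma numeric_point_large (q f y : ℤ) (hy : 0 ≤ y) (hf : 0 ≤ f) (hfq : f ≤ q) :
    (f - 1) * (f - 1) * y ≤ (q - 1) * y + (q - 2) * ((f - 1) * y) := by
  nlinarith [mul_nonneg (mul_nonneg hf (sub_nonneg.2 hfq)) hy]

lemma numeric_point_two (m p f s y : ℤ) (hm : 0 ≤ m) (hpm : p ≤ (2 * m + 1) * (2 * m + 1) + 4)
    (hy2 : 2 * y = f * (f - 3) + s) (hy : 0 ≤ y) (hf : 0 ≤ f) (hs : 0 ≤ s) (hsf : s + f ≤ p) :
    s * ((f - 1) * (f - 2)) ≤ 2 * (m + 2) * y + 2 * m * ((f - 1) * y) := by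
  have key : 2 * (m + 2) * y + 2 * m * ((f - 1) * y) = (f * (f - 3) + s) * (m * f + 2) := by
    rw [← hy2]; ring
  rcases (by omega : f = 0 ∨ f = 1 ∨ f = 2 ∨ 3 ≤ f) with h | h | h | h
  · subst h; linarith
  · subst h; nlinarith [mul_nonneg hm hy]
  · subst h; nlinarith [mul_nonneg hm hy]
  · rw [key]
    have red : s * (f - 3 - m) ≤ (f - 3) * (m * f + 2) := by
      rcases le_total (f - 3 - m) 0 with hx | hx
      · nlinarith [mul_nonneg hs (neg_nonneg.2 hx),
          mul_nonneg (by linarith : (0 : ℤ) ≤ f - 3)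
            (by nlinarith : (0 : ℤ) ≤ m * f + 2)]
      · obtain ⟨x, rfl⟩ : ∃ x, f = x + 3 + m := ⟨f - 3 - m, by ring⟩
        have hb : s * x ≤ ((2 * m + 1) * (2 * m + 1) + 4 - (x + 3 + m)) * x :=
          mul_le_mul_of_nonneg_right (by linarith) (by linarith)
        have hsq : 0 ≤ (m + 1) * x * x - 2 * m * m * x + m * (m + 1) * (m + 2) := by
          by_contra hneg
          have hneg' := mul_neg_of_pos_of_neg (by linarith : (0 : ℤ) < m + 1) (not_le.1 hneg)
          nlinarith [mul_self_nonneg ((m + 1) * x - m * m), mul_nonneg hm hm,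
            mul_nonneg (mul_nonneg hm hm) hm]
        nlinarith
    nlinarith [mul_le_mul_of_nonneg_left red hf]

lemma numeric_point_eleven (f s y : ℤ) (hy2 : 2 * y = f * (f - 3) + s) (hy : 0 ≤ y)
    (hf : 0 ≤ f) (hf' : f ≤ 14) (hs : 0 ≤ s) (hsf : s + f ≤ 23) :
    100 * (s * ((f - 1) * (f - 2))) + 25 * ((f - 1) * (f - 1) * y) ≤
      817 * y + 392 * ((f - 1) * y) := by
  interval_cases f <;> (norm_num at hy2 hsf ⊢ <;> omega)

set_option maxHeartbeats 800000 in
theorem numeric_false {ι : Type*} [Fintype ι] [DecidableEq ι] (one : ι) (Sing : ι → Prop)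
    [DecidablePred Sing]
    (p q d t μ : ℕ) (hpq : p = 2 * q + 1) (hq : 11 ≤ q) (hqp : q.Prime) (hpp : p.Prime)
    (hdt : d * t = q - 1) (ht : 2 ≤ t)
    (f s y : ι → ℤ) (hy : ∀ g, 2 * y g = f g * (f g - 3) + s g)
    (hf0 : ∀ g, 0 ≤ f g) (hs0 : ∀ g, 0 ≤ s g) (hsf : ∀ g, s g + f g ≤ p)
    (hone : f one = p ∧ s one = 0 ∧ ¬ Sing one)
    (hsing : ∀ g, Sing g → f g = 1 ∧ s g = 0)
    (hreg : ∀ g, ¬ Sing g → 0 ≤ y g)
    (hfix : ∀ g, g ≠ one → (f g - 1) * (f g - 2) ≤ (2 * (q : ℤ) - 2) * (2 * (d : ℤ) - 1))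
    (hN : Fintype.card ι = p * (2 * q) * (2 * q - 1) * d * μ)
    (hμq : q ∣ 2 * μ + 1) (hμp : p ∣ 4 * d * μ + 1)
    (hcard : q * (Finset.univ.filter Sing).card = t * Fintype.card ι)
    (h0 : ∑ g, y g = 0) (h1 : ∑ g, f g * y g = 0)
    (h2 : (t : ℤ) * Fintype.card ι ≤ ∑ g, (f g - 1) * (f g - 1) * y g)
    (hs2 : (Fintype.card ι : ℤ) ≤ ∑ g, s g * ((f g - 1) * (f g - 2))) : False := by
  have hNpos : (0 : ℤ) < (Fintype.card ι : ℤ) := by
    exact_mod_cast Fintype.card_pos_iff.2 ⟨one⟩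
  have hsy : ∀ g, Sing g → y g = -1 := by
    intro g hg
    have := hy g
    rw [(hsing g hg).1, (hsing g hg).2] at this
    linarith
  have hcardZ : (q : ℤ) * ((Finset.univ.filter Sing).card : ℤ) = (t : ℤ) * Fintype.card ι := by
    exact_mod_cast hcard
  have hd1 : 1 ≤ d := by
    rcases Nat.eq_zero_or_pos d with h | h
    · subst h; omega
    · exact h
  have ht3 : t ≠ 3 := by
    rintro rfl
    have h3 : 3 ∣ p := ⟨2 * d + 1, by omega⟩
    have := (Nat.prime_dvd_prime_iff_eq Nat.prime_three hpp).1 h3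
    omega
  rcases (by omega : t = 2 ∨ 4 ≤ t) with rfl | ht4
  · by_cases hq23 : 23 ≤ q
    · -- `t = 2`, `23 ≤ q`
      obtain ⟨m, hm1, hm2, hm3⟩ : ∃ m : ℕ, 4 * m + 9 ≤ q ∧ q ≤ 4 * m + 11 ∧ 3 ≤ m :=
        ⟨(q - 9) / 4, by omega, by omega, by omega⟩
      have hpm : (p : ℤ) ≤ (2 * (m : ℤ) + 1) * (2 * (m : ℤ) + 1) + 4 := by
        have h3' : (3 : ℤ) ≤ m := by exact_mod_cast hm3
        have h8 : (p : ℤ) ≤ 8 * (m : ℤ) + 23 := by exact_mod_cast (by omega : p ≤ 8 * m + 23)
        nlinarith [mul_le_mul_of_nonneg_left h3' (by positivity : (0 : ℤ) ≤ (m : ℤ))]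
      have hb : ∑ g, s g * ((f g - 1) * (f g - 2)) ≤
          2 * ((m : ℤ) + 2) * ((Finset.univ.filter Sing).card : ℤ) + 0 := by
        refine numeric_sum_bound one Sing f y _ h0 h1 (2 * ((m : ℤ) + 2)) (2 * m) 0 fun g => ?_
        by_cases hg : Sing g
        · simp [hg, (hsing g hg).1, (hsing g hg).2, hsy g hg]
        · simpa [hg] using numeric_point_two m p (f g) (s g) (y g) (by positivity) hpm (hy g)
            (hreg g hg) (hf0 g) (hs0 g) (hsf g)
      have hqm : 4 * (m : ℤ) + 9 ≤ q := by exact_mod_cast hm1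
      have hle : (q : ℤ) * Fintype.card ι ≤ 4 * ((m : ℤ) + 2) * Fintype.card ι := by
        have h := mul_le_mul_of_nonneg_left (le_trans hs2 hb) (by positivity : (0 : ℤ) ≤ q)
        push_cast at hcardZ
        linear_combination h + (2 * ((m : ℤ) + 2)) * hcardZ
      nlinarith
    · -- `t = 2`, `q = 11`
      obtain rfl : q = 11 := by
        have : q < 23 := by omega
        interval_cases q <;> first | rfl | (subst hpq; revert hqp hpp; norm_num)
      obtain rfl : d = 5 := by omega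
      subst hpq
      have hb : ∑ g, (100 * (s g * ((f g - 1) * (f g - 2))) + 25 * ((f g - 1) * (f g - 1) * y g))
          ≤ 817 * ((Finset.univ.filter Sing).card : ℤ) + 2659 * 230 := by
        refine numeric_sum_bound one Sing f y _ h0 h1 817 392 (2659 * 230) fun g => ?_
        by_cases hg : Sing g
        · have hne : g ≠ one := fun h => hone.2.2 (h ▸ hg)
          simp [hg, hne, (hsing g hg).1, (hsing g hg).2, hsy g hg]
        · by_cases hg1 : g = one
          · subst hg1
            have h := hy g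
            rw [hone.1, hone.2.1] at h
            push_cast at h
            rw [hone.1, hone.2.1, if_neg hg, if_pos rfl]
            push_cast
            nlinarith
          · have hfx := hfix g hg1
            push_cast at hfx
            have hf14 : f g ≤ 14 := by
              by_contra h
              nlinarith
            simpa [hg, hg1] using numeric_point_eleven (f g) (s g) (y g) (hy g) (hreg g hg)
              (hf0 g) hf14 (hs0 g) (by have := hsf g; push_cast at this; linarith)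
      rw [Finset.sum_add_distrib, ← Finset.mul_sum, ← Finset.mul_sum] at hb
      have hμ8 : 8 ≤ μ := by
        by_contra h
        have : μ < 8 := by omega
        interval_cases μ <;> (revert hμq hμp; norm_num)
      have hNZ : (Fintype.card ι : ℤ) = 53130 * μ := by
        rw [hN]; push_cast; ring
      have hμZ : (8 : ℤ) ≤ μ := by exact_mod_cast hμ8
      push_cast at hcardZ h2
      linarith
  · -- `4 ≤ t`
    have hqZ : (11 : ℤ) ≤ q := by exact_mod_cast hq
    have h4d : 4 * (d : ℤ) ≤ (q : ℤ) - 1 := by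
      have : 4 * d ≤ q - 1 := by
        rw [← hdt, mul_comm d t]; exact Nat.mul_le_mul_right d ht4
      omega
    have hpZ : (p : ℤ) = 2 * q + 1 := by exact_mod_cast hpq
    have hb : ∑ g, (f g - 1) * (f g - 1) * y g ≤
        ((q : ℤ) - 1) * ((Finset.univ.filter Sing).card : ℤ)
          + (p : ℤ) * p * (((q : ℤ) - 1) * ((q : ℤ) + 1)) := by
      refine numeric_sum_bound one Sing f y _ h0 h1 ((q : ℤ) - 1) ((q : ℤ) - 2) _ fun g => ?_
      by_cases hg : Sing g
      · have hne : g ≠ one := fun h => hone.2.2 (h ▸ hg)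
        simp [hg, hne, (hsing g hg).1, hsy g hg]
      · by_cases hg1 : g = one
        · subst hg1
          have h := hy g
          rw [hone.1, hone.2.1, hpZ] at h
          have hy1 : y g = (2 * (q : ℤ) + 1) * ((q : ℤ) - 1) := by linarith
          rw [hone.1, if_neg hg, if_pos rfl, hy1, hpZ]
          exact le_of_eq (by ring)
        · have hfq : f g ≤ q := by
            by_contra h
            have hfx := hfix g hg1
            have hge : (q : ℤ) * ((q : ℤ) - 1) ≤ (f g - 1) * (f g - 2) :=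
              mul_le_mul (by omega) (by omega) (by linarith) (by linarith)
            have hlt : (2 * (q : ℤ) - 2) * (2 * (d : ℤ) - 1) ≤ ((q : ℤ) - 1) * ((q : ℤ) - 3) := by
              nlinarith [mul_le_mul_of_nonneg_left h4d (by linarith : (0 : ℤ) ≤ (q : ℤ) - 1)]
            nlinarith
          simpa [hg, hg1] using numeric_point_large q (f g) (y g) (hreg g hg) (hf0 g) hfq
    have hle : (t : ℤ) * Fintype.card ι ≤ (q : ℤ) * ((p : ℤ) * p * (((q : ℤ) - 1) * ((q : ℤ) + 1))) := by
      have h := mul_le_mul_of_nonneg_left (le_trans h2 hb) (by positivity : (0 : ℤ) ≤ q)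
      linear_combination h + ((q : ℤ) - 1) * hcardZ
    have hdtZ : (d : ℤ) * t = (q : ℤ) - 1 := by
      have h : ((d * t : ℕ) : ℤ) = ((q - 1 : ℕ) : ℤ) := by rw [hdt]
      push_cast [Nat.cast_sub (by omega : 1 ≤ q)] at h
      exact h
    have hNZ : (Fintype.card ι : ℤ) = p * (2 * q) * (2 * (q : ℤ) - 1) * d * μ := by
      rw [hN]; push_cast [Nat.cast_sub (by omega : 1 ≤ 2 * q)]; ring
    rw [hNZ] at hle
    have hpos : (0 : ℤ) < q * p * ((q : ℤ) - 1) := by
      have h1q : (0 : ℤ) < (q : ℤ) - 1 := by linarith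
      rw [hpZ]; positivity
    have hμle : 2 * (2 * (q : ℤ) - 1) * μ ≤ p * ((q : ℤ) + 1) := by
      refine le_of_mul_le_mul_left ?_ hpos
      linear_combination hle - (2 * (q : ℤ) * p * (2 * (q : ℤ) - 1) * μ) * hdtZ
    obtain ⟨k, hk⟩ := hμq
    rcases (by omega : k = 0 ∨ k = 1 ∨ k = 2 ∨ 3 ≤ k) with rfl | rfl | rfl | hk3
    · omega
    · -- `μ = (q-1)/2` is excluded by the congruence mod `p`
      have h2μ : 2 * μ + 1 = q := by omega
      have hdvd : (p : ℤ) ∣ 4 * (d : ℤ) * μ + 1 := by exact_mod_cast hμp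
      have h2μZ : 2 * (μ : ℤ) + 1 = q := by exact_mod_cast h2μ
      have h3d : (p : ℤ) ∣ 3 * (d : ℤ) - 1 := by
        have : (3 * (d : ℤ) - 1) = (d : ℤ) * p - (4 * (d : ℤ) * μ + 1) := by
          rw [hpZ, ← h2μZ]; ring
        rw [this]
        exact dvd_sub (dvd_mul_left _ _) hdvd
      have hd1Z : (1 : ℤ) ≤ d := by exact_mod_cast hd1
      have := Int.le_of_dvd (by linarith) h3d
      linarith
    · omega
    · have h3q : 3 * (q : ℤ) ≤ 2 * μ + 1 := by
        have : 3 * q ≤ 2 * μ + 1 := by rw [hk, mul_comm 3 q]; exact Nat.mul_le_mul_left q hk3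
        exact_mod_cast this
      rw [hpZ] at hμle
      have h3 := mul_le_mul_of_nonneg_left h3q (by linarith : (0 : ℤ) ≤ 2 * (q : ℤ) - 1)
      have h4 := mul_le_mul_of_nonneg_left hqZ (by linarith : (0 : ℤ) ≤ (q : ℤ))
      linarith

end Cfsg.Agent.Half51
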