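import Cfsg.Agent.Half51.Weights
import Cfsg.Agent.Half51.Values

/-!
# The group order in the triply transitive case
-/

set_option autoImplicit false
set_option linter.style.haveILetI false
set_option linter.unusedSectionVars false

open MulAction

namespace Cfsg.Agent.Half51

variable {p q : ℕ} [hp : Fact p.Prime] [hqf : Fact q.Prime] {G : Subgroup (Equiv.Perm (ZMod p))}
  [Fintype G]

namespace Setup

variable (hS : Setup p q G)
include hS

theorem exists_three_fixed : ∃ v : Fin 3 ↪ ZMod p, Nat.card hS.qs.auto ∣ Nat.card (stabilizer G v) := by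
  classical
  obtain ⟨⟨e, he⟩, hgen⟩ := IsCyclic.exists_generator (α := hS.qs.auto)
  have hord : orderOf e = Nat.card hS.qs.auto := by
    rw [← Subgroup.orderOf_mk e he, orderOf_eq_card_of_forall_mem_zpowers hgen]
  have he1 : (e : ZMod q) ≠ 1 := by
    intro h
    have h1 : e = 1 := Units.ext (by rw [h, Units.val_one])
    have := hS.one_lt_card_auto
    rw [← hord, h1, orderOf_one] at this
    omega
  obtain ⟨g, a, hg, g0, gsq, gneg, -⟩ := hS.exists_delta he he1
  have hne : ∀ i j : Fin 3, ![(0 : ZMod p), 1, -hS.sq a] i = ![(0 : ZMod p), 1, -hS.sq a] j → i = j := by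
    intro i j h
    have h1 : (1 : ZMod p) ≠ -hS.sq a := by rw [← hS.sq_zero]; exact hS.sq_ne_neg_sq 0 a
    have h2 : (0 : ZMod p) ≠ -hS.sq a := (neg_ne_zero.mpr (hS.sq_ne_zero a)).symm
    fin_cases i <;> fin_cases j <;> (first | rfl | exact absurd h zero_ne_one | exact absurd h one_ne_zero | exact absurd h h1 | exact absurd h.symm h1 | exact absurd h h2 | exact absurd h.symm h2)
  refine ⟨⟨![(0 : ZMod p), 1, -hS.sq a], fun i j h => hne i j h⟩, ?_⟩
  let δ : G := ⟨g, hg⟩
  have hmem : δ ∈ stabilizer G (⟨![(0 : ZMod p), 1, -hS.sq a], fun i j h => hne i j h⟩ : Fin 3 ↪ ZMod p) := by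
    refine mem_stabilizer_iff.mpr (Function.Embedding.ext fun i => ?_)
    fin_cases i
    · exact g0
    · show g 1 = 1
      have := gsq 0
      rwa [mul_zero, hS.sq_zero] at this
    · show g (-hS.sq a) = -hS.sq a
      have := gneg 0
      rwa [mul_zero, add_zero] at this
  refine dvd_trans ?_ (Subgroup.orderOf_dvd_natCard _ hmem)
  rw [← hord]
  refine orderOf_dvd_of_pow_eq_one (Units.ext ?_)
  have hpow : ∀ (n : ℕ), (g ^ n) (hS.sq 1) = hS.sq ((e : ZMod q) ^ n) := by
    intro n
    induction n with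
    | zero => simp
    | succ n ih => rw [pow_succ', Equiv.Perm.mul_apply, ih, gsq, pow_succ']
  have h1 := hpow (orderOf δ)
  have h2 : g ^ orderOf δ = 1 := by
    have := congrArg Subtype.val (pow_orderOf_eq_one δ)
    simpa [δ] using this
  rw [h2, Equiv.Perm.one_apply] at h1
  rw [Units.val_pow_eq_pow_val, Units.val_one]
  exact (hS.sq_inj h1).symm

theorem exists_order (h3 : IsMultiplyPretransitive G (ZMod p) 3) :
    ∃ μ : ℕ, Fintype.card G = p * (2 * q) * (2 * q - 1) * Nat.card hS.qs.auto * μ ∧
      q ∣ 2 * μ + 1 ∧ p ∣ 4 * Nat.card hS.qs.auto * μ + 1 := by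
  classical
  set d := Nat.card hS.qs.auto with hd
  obtain ⟨v, μ, hμ⟩ := hS.exists_three_fixed
  haveI : IsPretransitive G (Fin 3 ↪ ZMod p) := h3
  have hp' := hS.hpq
  have hN : Nat.card G = p * (2 * q) * (2 * q - 1) * d * μ := by
    have hidx : (stabilizer G v).index = Nat.card (Fin 3 ↪ ZMod p) := by
      exact (index_stabilizer G v).trans ((congrArg Set.ncard (Set.eq_univ_of_forall
        (s := orbit G v) fun w => h3.exists_smul_eq v w)).trans (Set.ncard_univ _))
    rw [← Subgroup.index_mul_card (stabilizer G v), hidx, hμ,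
      Nat.card_eq_fintype_card, Fintype.card_embedding_eq, Fintype.card_fin, ZMod.card]
    simp only [Nat.descFactorial, Nat.sub_zero, mul_one]
    rw [show p - 1 = 2 * q by omega, show p - 2 = 2 * q - 1 by omega, ← hd]
    ring
  refine ⟨μ, by rw [← Nat.card_eq_fintype_card, hN], ?_, ?_⟩
  · obtain ⟨Q, hQ⟩ := hS.zpowers_cyc_sylow
    have hNQ : Nat.card (Subgroup.normalizer ((Q : Subgroup G) : Set G)) = d * q := by
      rw [hQ]
      have h := hS.qs.card_normalizer
      rw [show Nat.card hS.qs.K = 1 from Subgroup.card_bot, mul_one] at h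
      exact h
    have h1 := Subgroup.index_mul_card (Subgroup.normalizer ((Q : Subgroup G) : Set G))
    rw [show (Subgroup.normalizer ((Q : Subgroup G) : Set G)).index = Nat.card (Sylow q G) from
      Q.card_eq_index_normalizer.symm, hNQ, hN] at h1
    have hd0 : 0 < d := lt_trans one_pos hS.one_lt_card_auto
    have h2 : Nat.card (Sylow q G) = p * 2 * (2 * q - 1) * μ := by
      refine Nat.eq_of_mul_eq_mul_right (Nat.mul_pos hd0 hS.qpos) (h1.trans ?_)
      ring
    have h3' := card_sylow_modEq_one q G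
    rw [h2] at h3'
    rw [← Int.natCast_dvd_natCast]
    have h4 := Int.natCast_modEq_iff.mpr h3'
    rw [Int.modEq_iff_dvd] at h4
    push_cast [Nat.cast_sub (show 1 ≤ 2 * q by have := hS.eleven_le; omega)] at h4 ⊢
    have hpz : (p : ℤ) = 2 * q + 1 := by exact_mod_cast hp'
    rw [hpz] at h4
    obtain ⟨k, hk⟩ := h4
    exact ⟨k + 8 * q * μ, by linear_combination hk⟩
  · have hsyl := hS.card_normalizer default
    rw [show p - 1 = 2 * q by omega, mul_left_comm] at hsyl
    have hNP := Nat.eq_of_mul_eq_mul_left (by norm_num : 0 < 2) hsyl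
    have h1 := Subgroup.index_mul_card
      (Subgroup.normalizer (((default : Sylow p G) : Subgroup G) : Set G))
    rw [show (Subgroup.normalizer (((default : Sylow p G) : Subgroup G) : Set G)).index =
      Nat.card (Sylow p G) from (default : Sylow p G).card_eq_index_normalizer.symm, hNP, hN] at h1
    have h2 : Nat.card (Sylow p G) = 2 * (2 * q - 1) * d * μ := by
      refine Nat.eq_of_mul_eq_mul_right (Nat.mul_pos hp.out.pos hS.qpos) (h1.trans ?_)
      ring
    have h3' := card_sylow_modEq_one p G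
    rw [h2] at h3'
    rw [← Int.natCast_dvd_natCast]
    have h4 := Int.natCast_modEq_iff.mpr h3'
    rw [Int.modEq_iff_dvd] at h4
    push_cast [Nat.cast_sub (show 1 ≤ 2 * q by have := hS.eleven_le; omega)] at h4 ⊢
    have hpz : (p : ℤ) = 2 * q + 1 := by exact_mod_cast hp'
    obtain ⟨k, hk⟩ := h4
    exact ⟨k + 2 * d * μ, by linear_combination hk - 2 * (d : ℤ) * μ * hpz⟩

end Setup

end Cfsg.Agent.Half51
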