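import Cfsg.Agent.Half51.ThreeCase
import Cfsg.Agent.Half51.Order
import Cfsg.Agent.Half51.Numeric
import Cfsg.Agent.Half51.Local

/-!
# No such group exists
-/

set_option autoImplicit false
set_option linter.style.haveILetI false
set_option linter.unusedSectionVars false

open MulAction

namespace Cfsg.Agent.Half51

open SmallGroups

variable {p q : ℕ} [hp : Fact p.Prime] [hqf : Fact q.Prime] {G : Subgroup (Equiv.Perm (ZMod p))}
  [Fintype G]

namespace Setup

variable (hS : Setup p q G)
include hS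

theorem three_transitive : IsMultiplyPretransitive G (ZMod p) 3 := by
  classical
  by_contra h3
  obtain ⟨⟨e, he⟩, hgen⟩ := IsCyclic.exists_generator (α := hS.qs.auto)
  have hord : orderOf e = Nat.card hS.qs.auto := by
    rw [← Subgroup.orderOf_mk e he, orderOf_eq_card_of_forall_mem_zpowers hgen]
  by_cases hd : Nat.card hS.qs.auto = 2
  · refine hS.false_of_unique hd ?_
    obtain ⟨x, hx, hu⟩ := hS.unique_of_two (hd := hd) h3
    have hdeg : ∀ χ : Cfsg.IrrCharacter G, Cfsg.charDegree (χ : G → ℂ) = SelfCent.Setup.deg χ := by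
      intro χ
      rw [Cfsg.charDegree, (SelfCent.Setup.deg_spec χ).2.2, Complex.natCast_re, Nat.floor_natCast]
    exact ⟨x, (hdeg x).trans hx, fun χ hχ => hu χ ((hdeg χ).symm.trans hχ)⟩
  · have h2 := hS.one_lt_card_auto
    haveI : NeZero q := ⟨hS.qpos.ne'⟩
    have hne1 : (e : ZMod q) ≠ 1 := fun h => by
      have h1 : e = 1 := Units.ext (by rw [h, Units.val_one])
      rw [h1, orderOf_one] at hord
      omega
    have hne2 : (e : ZMod q) ^ 2 ≠ 1 := fun h => by
      have h1 : e ^ 2 = 1 := Units.ext (by rw [Units.val_pow_eq_pow_val, h, Units.val_one])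
      have := Nat.le_of_dvd two_pos (orderOf_dvd_of_pow_eq_one h1)
      omega
    obtain ⟨g, a, hg, g0, gsq, -, hn⟩ := hS.exists_delta he hne1
    refine h3 (three_transitive_of_delta hS hg ((e : ZMod q).val) g0 ?_ (fun s x hs hsq => ?_)
      (by rw [ZMod.natCast_zmod_val]; exact e.ne_zero)
      (by rw [ZMod.natCast_zmod_val]; exact hne1) (by rw [ZMod.natCast_zmod_val]; exact hne2))
    · have := gsq 0
      rwa [mul_zero, hS.sq_zero] at this
    · obtain ⟨i, rfl⟩ := hS.exists_eq_sq hs hsq
      rw [hn.2]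
      congr 1
      rw [← ZMod.natCast_zmod_val ((e : ZMod q) * i), hS.sq_natCast]
      show hS.omega ^ _ = (hS.omega ^ i.val) ^ _
      rw [← pow_mul, ← hS.sq_natCast, ← hS.sq_natCast, ZMod.natCast_zmod_val, Nat.cast_mul,
        ZMod.natCast_zmod_val, ZMod.natCast_zmod_val, mul_comm]

theorem contradiction : False := by
  classical
  have h3 := hS.three_transitive
  have hV := hS.vals_three h3
  haveI := Fintype.ofFinite hS.qs.Orb
  obtain ⟨D⟩ := nonempty_shape hS.qs hS.not_dvd_index
  obtain ⟨hε, hexc, hnon, hnorm, ht2⟩ := hS.wC_exceptional D h3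
  set d := Nat.card hS.qs.auto with hd
  set t := Fintype.card hS.qs.Orb with ht
  have hdpos : 0 < d := lt_trans one_pos hS.one_lt_card_auto
  have hdt : d * t = q - 1 := by
    rw [hd, ht, ← Nat.card_eq_fintype_card, mul_comm]
    exact hS.qs.card_orb_mul
  have hsum := hS.sum_pair_fix_sq hV t hnorm
  have hlam : ∀ a b c y : ZMod p, a ≠ b → a ≠ c → a ≠ y → b ≠ c → b ≠ y → c ≠ y →
      lamP G a b c y = 2 * d :=
    lamP_eq h3 d t q (by rw [ZMod.card]; exact hS.hpq) hdt hdpos hsum
      (hS.dvd_lamP D hε hexc hnon h3)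
  obtain ⟨μ, hN, hμq, hμp⟩ := hS.exists_order h3
  have hycl : ∀ g h : G, yZ (ZMod p) (h * g * h⁻¹) = yZ (ZMod p) g := fun g h => by
    have := CharCore.IsCharacter.isClassFunction hS.isCharacter_wC g h
    simpa [wC] using this
  have hfcl : ∀ g h : G, fZ (ZMod p) (h * g * h⁻¹) = fZ (ZMod p) g := fun g h => by
    have := CharCore.IsCharacter.isClassFunction (isCharacter_permC (G := G) (X := ZMod p)) g h
    simp only [permC, Nat.cast_inj] at this
    simp only [fZ, this]
  have hsing : ∀ g : G, q ∣ orderOf g → fZ (ZMod p) g = 1 ∧ sZ (ZMod p) g = 0 := by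
    intro g hg
    obtain ⟨k, hk, hconj⟩ := hS.isConj_zp_of_dvd hg
    obtain ⟨h, rfl⟩ := isConj_iff.mp hconj
    have hf : fZ (ZMod p) (h * hS.qs.zp k * h⁻¹) = 1 := by
      rw [hfcl, fZ, (hS.fix_cyc hk).1]; rfl
    refine ⟨hf, ?_⟩
    have h1 := two_mul_yZ (Ω := ZMod p) (h * hS.qs.zp k * h⁻¹)
    rw [hycl, hS.y_cyc hk, hf] at h1
    linarith
  have hcardS : q * (Finset.univ.filter fun g : G => q ∣ orderOf g).card = t * Fintype.card G := by
    have h := hS.card_singular
    rw [Nat.card_eq_fintype_card (α := {g : G // q ∣ orderOf g}), Fintype.card_subtype, ← hd, ← hdt,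
      mul_assoc] at h
    exact Nat.eq_of_mul_eq_mul_left hdpos h
  refine numeric_false (1 : G) (fun g => q ∣ orderOf g) p q d t μ hS.hpq hS.eleven_le hS.prime_q
    hp.out hdt ht2 (fZ (ZMod p)) (sZ (ZMod p)) (yZ (ZMod p)) two_mul_yZ
    (fun g => Int.natCast_nonneg _) (fun g => Int.natCast_nonneg _)
    (fun g => ?_) ⟨?_, ?_, ?_⟩ hsing (fun g hg => ?_) (fun g hg => ?_) hN hμq hμp hcardS hV.sum_y
    (by rw [hV.sum_fy]; simp) ?_ ?_
  · have h := swp_add_fix_le (Ω := ZMod p) g
    rw [ZMod.card] at h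
    simp only [sZ, fZ]
    exact_mod_cast h
  · simp [fZ, fixNum_one]
  · simp [sZ, swp_one]
  · rw [orderOf_one]
    exact hS.prime_q.not_dvd_one
  · have h2 := two_mul_yZ (Ω := ZMod p) g
    obtain ⟨k, hk⟩ := hS.yZ_dvd_of_regular D hexc hnon hg
    have hs0 : (0 : ℤ) ≤ sZ (ZMod p) g := Int.natCast_nonneg _
    have hf0 : (0 : ℤ) ≤ fZ (ZMod p) g := Int.natCast_nonneg _
    by_contra hneg
    have hm1 : yZ (ZMod p) g = -1 := by
      have h1 : -2 ≤ fZ (ZMod p) g * (fZ (ZMod p) g - 3) := by
        rcases le_or_gt (fZ (ZMod p) g) 1 with h | h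
        · nlinarith
        · nlinarith
      omega
    rw [hm1] at hk
    have hdv : (t : ℤ) ∣ 1 := ⟨-k, by linarith⟩
    have := Int.le_of_dvd one_pos hdv
    omega
  · obtain ⟨u, hu⟩ : ∃ u : ZMod p, g • u ≠ u := by
      by_contra hno
      push Not at hno
      exact hg (Subtype.ext (Equiv.ext hno))
    have h := fix_bound h3 (2 * d)
      (fun a b c y hab hcy hca hcb hya hyb => hlam a b c y hab (Ne.symm hca) (Ne.symm hya)
        (Ne.symm hcb) (Ne.symm hyb) hcy) g hu
    rw [show Nat.card (fixedBy (ZMod p) g) = fixNum (ZMod p) g by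
      rw [fixNum, ← Fintype.card_subtype, ← Nat.card_eq_fintype_card]; rfl, ZMod.card] at h
    have hp' := hS.hpq
    simp only [fZ]
    rcases Nat.lt_or_ge (fixNum (ZMod p) g) 2 with hlt | hge
    · have hRHS : (2 : ℤ) ≤ (2 * (q : ℤ) - 2) * (2 * (d : ℤ) - 1) := by
        have := hS.eleven_le
        have h1 : (20 : ℤ) ≤ 2 * (q : ℤ) - 2 := by omega
        have h2 : (1 : ℤ) ≤ 2 * (d : ℤ) - 1 := by omega
        nlinarith
      interval_cases hf : fixNum (ZMod p) g
      · push_cast; linarith
      · push_cast; linarith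
    · have := hS.eleven_le
      zify [(by omega : 1 ≤ fixNum (ZMod p) g), hge, (by omega : 3 ≤ p),
        (by omega : 1 ≤ 2 * d)] at h
      have hpz : (p : ℤ) = 2 * q + 1 := by exact_mod_cast hp'
      rw [hpz] at h
      linarith
  · have h1 := hV.sum_y_sq
    have h2 := hV.sum_sq_y
    rw [hnorm] at h1
    have h3' := sumSS_le (G := G) (Ω := ZMod p)
    linarith
  · rw [hV.sum_swp_theta]
    obtain ⟨w, a, b, c, hab, hwa, hwb, hwc, hww⟩ := hS.exists_involution
    have hca : c ≠ a := fun h => hwc (by rw [h, hwa])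
    have hcb : c ≠ b := fun h => hwc (by rw [h, hwb])
    have hda : w • c ≠ a := fun h => hca (smul_left_cancel w (h.trans hwa.symm))
    have hdb : w • c ≠ b := fun h => hcb (smul_left_cancel w (h.trans hwb.symm))
    let v : Fin 4 ↪ ZMod p := ⟨![c, w • c, a, b], fun i j h => by
      fin_cases i <;> fin_cases j <;> (first | rfl | exact absurd h.symm hwc | exact absurd h hwc | exact absurd h hca | exact absurd h.symm hca | exact absurd h hcb | exact absurd h.symm hcb | exact absurd h hda | exact absurd h.symm hda | exact absurd h hdb | exact absurd h.symm hdb | exact absurd h hab | exact absurd h.symm hab)⟩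
    have h := card_le_sumSFF v w (Function.Embedding.ext fun i => by
      fin_cases i
      · rfl
      · exact hww
      · exact hwa
      · exact hwb)
    linarith

end Setup

theorem setup_false (p q : ℕ) [Fact p.Prime] (G : Subgroup (Equiv.Perm (ZMod p)))
    (hS : Setup p q G) : False := by
  haveI : Fact q.Prime := ⟨hS.prime_q⟩
  haveI := Fintype.ofFinite G
  exact hS.contradiction

end Cfsg.Agent.Half51
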