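import Cfsg.Agent.Half51.Chars

/-!
# No constituent of `W` without fixed vectors for the translations
-/

set_option autoImplicit false
set_option linter.style.haveILetI false
set_option linter.unusedSectionVars false

namespace Cfsg.Agent.Half51

open SmallGroups

theorem isCharacter_sub_constituent {G : Type*} [Group G] [Fintype G] {f : G → ℂ}
    (hf : Cfsg.IsCharacter G f) (χ : Cfsg.IrrCharacter G)
    (h : Cfsg.classInner f (χ : G → ℂ) ≠ 0) : Cfsg.IsCharacter G (f - (χ : G → ℂ)) := by
  classical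
  obtain ⟨m, hm, hmi⟩ := exists_mult hf
  have hpos : 1 ≤ m χ := Nat.one_le_iff_ne_zero.mpr fun h0 => h (by rw [hmi, h0, Nat.cast_zero])
  have : f - (χ : G → ℂ) = ∑ ψ, ((if ψ = χ then m ψ - 1 else m ψ : ℕ) : ℂ) • (ψ : G → ℂ) := by
    rw [sub_eq_iff_eq_add]
    conv_lhs => rw [hm]
    rw [← Finset.add_sum_erase _ _ (Finset.mem_univ χ), ← Finset.add_sum_erase _
      (fun ψ : Cfsg.IrrCharacter G => ((if ψ = χ then m ψ - 1 else m ψ : ℕ) : ℂ) • (ψ : G → ℂ))
      (Finset.mem_univ χ), if_pos rfl, Nat.cast_sub hpos, Nat.cast_one, sub_smul, one_smul]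
    rw [Finset.sum_congr rfl (fun ψ hψ => show ((if ψ = χ then m ψ - 1 else m ψ : ℕ) : ℂ) •
      (ψ : G → ℂ) = (m ψ : ℂ) • (ψ : G → ℂ) by rw [if_neg (Finset.ne_of_mem_erase hψ)])]
    abel
  rw [this]
  simp only [Nat.cast_smul_eq_nsmul]
  exact CharCore.isCharacter_sum _ _ fun ψ _ => CharCore.isCharacter_nsmul (CharCore.irr_isCharacter ψ) _

variable {p q : ℕ} [hp : Fact p.Prime] [hqf : Fact q.Prime] {G : Subgroup (Equiv.Perm (ZMod p))}
  [Fintype G]

namespace Setup

variable (hS : Setup p q G)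
include hS

theorem sum_fix_mul {h : G → ℂ} (hh : Cfsg.IsClassFunction G h)
    [Fintype (MulAction.stabilizer G (0 : ZMod p))] :
    ∑ g : G, (fixNum (ZMod p) g : ℂ) * h g =
      (p : ℂ) * ∑ g : MulAction.stabilizer G (0 : ZMod p), h g := by
  classical
  haveI := hS.isPretransitive
  simp only [fixNum, Finset.card_filter, Nat.cast_sum, Nat.cast_ite, Nat.cast_one, Nat.cast_zero,
    Finset.sum_mul, ite_mul, one_mul, zero_mul]
  rw [Finset.sum_comm, Finset.sum_congr rfl (g := fun _ : ZMod p =>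
    ∑ g : MulAction.stabilizer G (0 : ZMod p), h g) fun x _ => ?_]
  · rw [Finset.sum_const, Finset.card_univ, ZMod.card, nsmul_eq_mul]
  · obtain ⟨a, ha⟩ := MulAction.exists_smul_eq G (0 : ZMod p) x
    rw [← Finset.sum_filter]
    symm
    refine Finset.sum_bij (fun g _ => a * (g : G) * a⁻¹) (fun g _ => ?_) (fun g _ g' _ hgg => ?_)
      (fun g hg => ?_) fun g _ => (hh _ a).symm
    · refine Finset.mem_filter.mpr ⟨Finset.mem_univ _, ?_⟩
      rw [mul_smul, mul_smul, ← ha, inv_smul_smul]
      rw [show ((g : G) • (0 : ZMod p)) = 0 from g.2]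
    · exact Subtype.ext (mul_left_cancel (mul_right_cancel hgg))
    · have hg' : g • x = x := (Finset.mem_filter.mp hg).2
      refine ⟨⟨a⁻¹ * g * a, ?_⟩, Finset.mem_univ _, by
        show a * (a⁻¹ * g * a) * a⁻¹ = g
        group⟩
      show (a⁻¹ * g * a) • (0 : ZMod p) = 0
      rw [mul_smul, mul_smul, ha, hg', ← ha, inv_smul_smul]

theorem classInner_stab {a b : G → ℂ} (ha : Cfsg.IsClassFunction G a) (hb : Cfsg.IsClassFunction G b)
    [Fintype (MulAction.stabilizer G (0 : ZMod p))] :
    Cfsg.classInner (fun g : MulAction.stabilizer G (0 : ZMod p) => a g)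
        (fun g : MulAction.stabilizer G (0 : ZMod p) => b g) =
      Cfsg.classInner (fun g : G => (fixNum (ZMod p) g : ℂ) * a g) b := by
  haveI := hS.isPretransitive
  have hcard : Nat.card G = p * Nat.card (MulAction.stabilizer G (0 : ZMod p)) := by
    rw [← Subgroup.index_mul_card (MulAction.stabilizer G (0 : ZMod p)),
      MulAction.index_stabilizer_of_transitive, Nat.card_zmod]
  simp only [Cfsg.classInner, mul_assoc]
  rw [hS.sum_fix_mul (h := fun g => a g * (starRingEnd ℂ) (b g)) (fun g x => by simp only; rw [ha, hb]), hcard,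
    Nat.cast_mul]
  have hp0 : (p : ℂ) ≠ 0 := Nat.cast_ne_zero.mpr hp.out.ne_zero
  field_simp

theorem no_mu_zero (hV : Vals G (ZMod p) 1) {φ : Cfsg.IrrCharacter G}
    (hm : hS.mW φ ≠ 0) (hmu : mu hS.ps φ 0 = 0) : False := by
  classical
  haveI := Fintype.ofFinite hS.ps.Orb
  haveI := hS.isPretransitive
  obtain ⟨Dp⟩ := nonempty_shape hS.ps hS.not_dvd_index_tau
  set H := MulAction.stabilizer G (0 : ZMod p) with hH
  haveI : Fintype H := Fintype.ofFinite _
  have hφcl := CharCore.irr_isClassFunction φ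
  have hφt : φ ≠ SelfCent.Setup.triv := fun h => hm (h ▸ hS.mW_triv hV)
  have hφθ : φ ≠ hS.theta := fun h => by
    have h1 := hS.mW_theta hV
    rw [← h] at h1
    omega
  have hclf : ∀ a : G → ℂ, Cfsg.IsCharacter G a → Cfsg.IsClassFunction G a :=
    fun a ha => CharCore.IsCharacter.isClassFunction ha
  have hpermcl : Cfsg.IsClassFunction G (permC (ZMod p)) := hclf _ isCharacter_permC
  have hone : Cfsg.IsClassFunction G (fun _ => (1 : ℂ)) := fun _ _ => rfl
  set e : G → ℂ := fun g => (fixNum (ZMod p) g : ℂ) - 2 with he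
  have hecl : Cfsg.IsClassFunction G e := fun g x => by
    show (fixNum (ZMod p) (x * g * x⁻¹) : ℂ) - 2 = _
    rw [show (fixNum (ZMod p) (x * g * x⁻¹) : ℂ) = fixNum (ZMod p) g from hpermcl g x]
  let η : H → ℂ := fun g => e g
  have hfe : (fun g : G => (fixNum (ZMod p) g : ℂ) * e g) = mC G + wC G := by
    funext g
    simp only [he, mC, wC, Pi.add_apply, fZ]
    push_cast
    ring
  have hηnorm : Cfsg.classInner η η = 1 := by
    rw [hS.classInner_stab hecl hecl,
      show (fun g : G => (fixNum (ZMod p) g : ℂ) * e g) =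
        fun g => ((fZ (ZMod p) g * (fZ (ZMod p) g - 2) : ℤ) : ℂ) from funext fun g => by
          simp [he, fZ],
      show e = fun g => ((fZ (ZMod p) g - 2 : ℤ) : ℂ) from funext fun g => by simp [he, fZ],
      classInner_int_eq _ _ 1 ?_, Int.cast_one]
    rw [Finset.sum_congr rfl (g := fun g : G =>
      fZ (ZMod p) g * (fZ (ZMod p) g - 1) * (fZ (ZMod p) g - 2)
        - fZ (ZMod p) g * (fZ (ZMod p) g - 1) + fZ (ZMod p) g) fun g _ => by ring]
    simp only [Finset.sum_sub_distrib, Finset.sum_add_distrib, hV.f1, hV.f2, hV.f3]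
    ring
  have hp23 := hS.p_ge
  have hpq : p = 2 * q + 1 := hS.hpq
  have hη1 : η 1 = ((2 * q - 1 : ℕ) : ℂ) := by
    show (fixNum (ZMod p) ((1 : H) : G) : ℂ) - 2 = _
    rw [OneMemClass.coe_one, fixNum_one, ZMod.card, Nat.cast_sub (by omega), hpq]
    push_cast; ring
  have hηirr : Cfsg.IsIrrCharacter H η := by
    refine CharCore.IsGeneralizedCharacter.isIrr_of_norm_one ?_ hηnorm ?_
    · refine ⟨fun g => permC (ZMod p) (g : G), fun _ => ((2 : ℕ) : ℂ),
        CharCore.isCharacter_restrict isCharacter_permC H, CharCore.isCharacter_natCast 2, ?_⟩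
      funext g
      simp [η, he, permC]
    · rw [hη1, Complex.natCast_re]
      exact_mod_cast (by omega : 0 < 2 * q - 1)
  obtain ⟨mM, -, hMi⟩ := exists_mult hS.isCharacter_mC
  have hφres : Cfsg.IsCharacter H (fun g : H => (φ : G → ℂ) g) :=
    CharCore.isCharacter_restrict (CharCore.irr_isCharacter φ) H
  have hηφ : Cfsg.classInner η (fun g : H => (φ : G → ℂ) g) = ((mM φ + hS.mW φ : ℕ) : ℂ) := by
    rw [hS.classInner_stab hecl hφcl, hfe, CharCore.classInner_add_left, hMi, hS.classInner_wC,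
      Nat.cast_add]
  have hne : Cfsg.classInner (fun g : H => (φ : G → ℂ) g) η ≠ 0 := by
    rw [← CharInd.classInner_swap, hηφ, map_natCast]
    exact Nat.cast_ne_zero.mpr (by omega)
  set R : H → ℂ := (fun g : H => (φ : G → ℂ) g) - η with hR
  have hRchar : Cfsg.IsCharacter H R := isCharacter_sub_constituent hφres ⟨η, hηirr⟩ hne
  obtain ⟨n, hn⟩ := CharCore.IsCharacter.exists_degree hRchar
  have hR1 : R 1 = (SelfCent.Setup.deg φ : ℂ) - ((2 * q - 1 : ℕ) : ℂ) := by
    rw [hR, Pi.sub_apply, hη1]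
    show (φ : G → ℂ) ((1 : H) : G) - _ = _
    rw [OneMemClass.coe_one, (SelfCent.Setup.deg_spec φ).2.2]
  rw [hn] at hR1
  have hle : n + (2 * q - 1) = SelfCent.Setup.deg φ := by
    have : ((n + (2 * q - 1) : ℕ) : ℂ) = (SelfCent.Setup.deg φ : ℂ) := by
      rw [Nat.cast_add, hR1, sub_add_cancel]
    exact_mod_cast this
  have h11 := hS.eleven_le
  have hdeg : SelfCent.Setup.deg φ = 2 * q := by
    rcases hS.deg_of_mu_zero Dp hmu with h | ⟨h, -⟩
    · exact h
    · omega
  have hn1 : n = 1 := by omega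
  subst hn1
  obtain ⟨ω, hω⟩ := CharCore.IsCharacter.exists_hom_of_degree_one hRchar (by simpa using hn)
  have hRirr : Cfsg.IsIrrCharacter H R := by
    rw [show R = fun g => (ω g : ℂ) from by funext g; simp [hω]]
    exact CharCore.isIrrCharacter_hom ω
  have hRη : (⟨R, hRirr⟩ : Cfsg.IrrCharacter H) ≠ ⟨η, hηirr⟩ := fun h => by
    have h' := congrArg (fun χ : Cfsg.IrrCharacter H => (χ : H → ℂ) 1) h
    simp only [hn, hη1] at h'
    have : 1 = 2 * q - 1 := by exact_mod_cast h'
    omega
  -- induce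
  set I : G → ℂ := Cfsg.indFun H R with hI
  have hIchar : Cfsg.IsCharacter G I := CharInd.isCharacter_indFun H hRchar
  obtain ⟨mI, hIeq, hIi⟩ := exists_mult hIchar
  have hIφ : mI φ = 1 := by
    have h := hIi φ
    rw [hI, CharInd.classInner_indFun_left H R hφcl,
      show (fun g : H => (φ : G → ℂ) g) = R + η by rw [hR, sub_add_cancel],
      CharCore.classInner_add_right, CharCore.classInner_irr_self ⟨R, hRirr⟩,
      CharCore.classInner_irr_of_ne hRη, add_zero] at h
    exact_mod_cast h.symm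
  have hItriv : mI SelfCent.Setup.triv = 0 := by
    have h := hIi SelfCent.Setup.triv
    rw [hI, CharInd.classInner_indFun_left H R (CharCore.irr_isClassFunction _), hR,
      CharCore.classInner_sub_left] at h
    have h1 : Cfsg.classInner (fun g : H => (φ : G → ℂ) g)
        (fun g : H => ((SelfCent.Setup.triv : Cfsg.IrrCharacter G) : G → ℂ) g) = 0 := by
      rw [hS.classInner_stab hφcl (CharCore.irr_isClassFunction _)]
      have h2 : Cfsg.classInner (φ : G → ℂ) (permC (ZMod p)) = 0 := by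
        have h3 : permC (G := G) (ZMod p) =
            ((SelfCent.Setup.triv : Cfsg.IrrCharacter G) : G → ℂ) + (hS.theta : G → ℂ) := by
          funext g
          simp [permC, SelfCent.Setup.triv, theta, thetaC, fZ]
        rw [h3, CharCore.classInner_add_right, CharCore.classInner_irr_of_ne hφt,
          CharCore.classInner_irr_of_ne hφθ, add_zero]
      rw [← h2]
      simp only [Cfsg.classInner, SelfCent.Setup.triv, Pi.one_apply, map_one, mul_one, permC,
        Complex.conj_natCast]
      exact congrArg _ (Finset.sum_congr rfl fun g _ => mul_comm _ _)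
    have h2 : Cfsg.classInner η
        (fun g : H => ((SelfCent.Setup.triv : Cfsg.IrrCharacter G) : G → ℂ) g) = 0 := by
      rw [hS.classInner_stab hecl (CharCore.irr_isClassFunction _),
        show (fun g : G => (fixNum (ZMod p) g : ℂ) * e g) =
          fun g => ((fZ (ZMod p) g * (fZ (ZMod p) g - 2) : ℤ) : ℂ) from funext fun g => by
            simp [he, fZ],
        show ((SelfCent.Setup.triv : Cfsg.IrrCharacter G) : G → ℂ) = fun _ => ((1 : ℤ) : ℂ) from
          funext fun _ => Int.cast_one.symm, classInner_int_eq _ _ 0 ?_, Int.cast_zero]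
      rw [Finset.sum_congr rfl (g := fun g : G =>
        fZ (ZMod p) g * (fZ (ZMod p) g - 1) - fZ (ZMod p) g) fun g _ => by ring]
      simp only [Finset.sum_sub_distrib, hV.f1, hV.f2]
      ring
    rw [h1, h2, sub_zero] at h
    exact_mod_cast h.symm
  have hI1 : I 1 = (((p : ℕ) : ℤ) : ℂ) := by
    rw [hI, CharInd.indFun_apply_one, hn, hH, MulAction.index_stabilizer_of_transitive,
      Nat.card_zmod]
    simp
  have hsum := deg_sum_eq hIeq hI1
  rw [← Finset.add_sum_erase _ _ (Finset.mem_univ φ), hIφ, hdeg] at hsum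
  have hrest : ∑ χ ∈ Finset.univ.erase φ, (mI χ : ℤ) * SelfCent.Setup.deg χ = 1 := by
    push_cast at hsum ⊢
    omega
  obtain ⟨χ, hχ, hχne⟩ := Finset.exists_ne_zero_of_sum_ne_zero (hrest.trans_ne one_ne_zero)
  have hle1 : (mI χ : ℤ) * SelfCent.Setup.deg χ ≤ 1 := by
    rw [← hrest]
    exact Finset.single_le_sum (f := fun χ => (mI χ : ℤ) * SelfCent.Setup.deg χ)
      (fun i _ => by positivity) hχ
  obtain ⟨hm', hd'⟩ := mul_ne_zero_iff.mp hχne
  have hd1 : SelfCent.Setup.deg χ = 1 := by
    have h1 : 1 ≤ mI χ := Nat.one_le_iff_ne_zero.mpr (by exact_mod_cast hm')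
    have h2 := (SelfCent.Setup.deg_spec χ).1
    have : mI χ * SelfCent.Setup.deg χ ≤ 1 := by exact_mod_cast hle1
    nlinarith
  exact hm' (by rw [hS.deg_one_eq_triv hd1, hItriv]; rfl)

end Setup

end Cfsg.Agent.Half51
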