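import Cfsg.Agent.Half51.Defs
import Cfsg.Agent.S3611
import Cfsg.Agent.Lib.Perm.PrimeDegreeOrders
import Mathlib.NumberTheory.LegendreSymbol.Basic

/-!
# Prime degree `p = 2q + 1`: an element normalising the square multipliers forces triple transitivity

A two-point stabiliser has at most two orbits on the remaining points; when it has two, their
sizes differ, so that the ternary orbital relations are totally symmetric.
-/

set_option autoImplicit false

namespace Cfsg.Agent.Half51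

open MulAction

section CyclicPrime

variable {q : ℕ} {S : Type*} [CommGroup S]

theorem eq_of_periodic (hq : q.Prime) (hcard : Nat.card S = q) {M : Type*} (F : S → M) {d : S}
    (hd : d ≠ 1) (h : ∀ s, F (s * d) = F s) (s t : S) : F s = F t := by
  haveI := Fact.mk hq
  obtain ⟨n, hn⟩ := mem_powers_of_prime_card hcard (g' := t⁻¹ * s) hd
  have hiter : ∀ n : ℕ, F (t * d ^ n) = F t := by
    intro n
    induction n with
    | zero => simp
    | succ n ih => rw [pow_succ, ← mul_assoc, h, ih]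
  have hn' : d ^ n = t⁻¹ * s := hn
  rw [← hiter n, hn', mul_inv_cancel_left]

theorem natCast_eq_one_of_pow_eq_self (hq : q.Prime) (hcard : Nat.card S = q) {x : S} (hx : x ≠ 1)
    {n : ℕ} (h : x ^ n = x) : (n : ZMod q) = 1 := by
  have ho : orderOf x = q := by
    rcases (Nat.dvd_prime hq).mp (hcard ▸ orderOf_dvd_natCard x) with h1 | h1
    · exact absurd (orderOf_eq_one_iff.mp h1) hx
    · exact h1
  have h2 : x ^ n = x ^ 1 := by rw [pow_one, h]
  have h3 := pow_eq_pow_iff_modEq.mp h2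
  rw [ho, ← ZMod.natCast_eq_natCast_iff] at h3
  simpa using h3

theorem inv_symm_of_sum (hq : q.Prime) (hcard : Nat.card S = q) (F : S → ℤ) (r₀ t : S)
    (hne : t ≠ r₀) (m : ℕ) (hm : t ^ m = r₀) (hF : ∀ s, F (s ^ m) = F s)
    (hH : ∀ s, F (s ^ m / r₀) + F ((s ^ m)⁻¹ / r₀) = F (s / r₀) + F (s⁻¹ / r₀)) (s : S) :
    F s = F (s⁻¹ / (r₀ * t)) := by
  have hid : ∀ s, F (s / t) + F (s⁻¹ / t) = F (s / r₀) + F (s⁻¹ / r₀) := fun s => by
    rw [← hH s, ← hF (s / t), ← hF (s⁻¹ / t), div_pow, div_pow, inv_pow, hm]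
  let D : S → ℤ := fun s => F s - F (s⁻¹ / (r₀ * t))
  have hper : ∀ s, D (s / r₀) = D (s / t) := by
    intro s
    have h1 : (s / r₀)⁻¹ / (r₀ * t) = s⁻¹ / t := by
      apply Additive.ofMul.injective
      simp only [ofMul_div, ofMul_inv, ofMul_mul]
      abel
    have h2 : (s / t)⁻¹ / (r₀ * t) = s⁻¹ / r₀ := by
      apply Additive.ofMul.injective
      simp only [ofMul_div, ofMul_inv, ofMul_mul]
      abel
    simp only [D, h1, h2]
    linarith [hid s]
  have hd : r₀ / t ≠ 1 := fun h => hne (div_eq_one.mp h).symm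
  have hconst : ∀ u v, D u = D v := eq_of_periodic hq hcard D hd fun u => by
    have := hper (u * r₀)
    rw [mul_div_cancel_right] at this
    rw [this, mul_div_assoc']
  have hanti : D (s⁻¹ / (r₀ * t)) = - D s := by
    have h1 : (s⁻¹ / (r₀ * t))⁻¹ / (r₀ * t) = s := by
      apply Additive.ofMul.injective
      simp only [ofMul_div, ofMul_inv, ofMul_mul]
      abel
    simp only [D, h1]
    ring
  have h0 := hconst (s⁻¹ / (r₀ * t)) s
  rw [hanti] at h0
  have : D s = 0 := by linarith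
  simp only [D, sub_eq_zero] at this
  exact this

theorem const_of_sum (hq : q.Prime) (hcard : Nat.card S = q) {e : ℕ} (he0 : (e : ZMod q) ≠ 0)
    (he1 : (e : ZMod q) ≠ 1) (he2 : (e : ZMod q) ^ 2 ≠ 1) (F : S → ℤ) {r₀ : S} (hr₀ : r₀ ≠ 1)
    (hF : ∀ s, F (s ^ e) = F s)
    (hH : ∀ s, F (s ^ e / r₀) + F ((s ^ e)⁻¹ / r₀) = F (s / r₀) + F (s⁻¹ / r₀)) (s t : S) :
    F s = F t := by
  have hcop : (Nat.card S).Coprime e := by
    rw [hcard, hq.coprime_iff_not_dvd]
    exact fun h => he0 ((ZMod.natCast_eq_zero_iff _ _).mpr h)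
  obtain ⟨r₁, hr₁⟩ := (powCoprime hcop).surjective r₀
  obtain ⟨r₂, hr₂⟩ := (powCoprime hcop).surjective r₁
  replace hr₁ : r₁ ^ e = r₀ := hr₁
  replace hr₂ : r₂ ^ e = r₁ := hr₂
  have h₀₁ : r₁ ≠ r₀ := fun h => he1 (natCast_eq_one_of_pow_eq_self hq hcard hr₀ (by rw [h] at hr₁; exact hr₁))
  have h₀₂ : r₂ ≠ r₀ := fun h => he2 (by
    have := natCast_eq_one_of_pow_eq_self hq hcard hr₀ (n := e * e)
      (by rw [h] at hr₂; rw [pow_mul, hr₂, hr₁])
    rwa [Nat.cast_mul, ← pow_two] at this)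
  have h₁₂ : r₁ ≠ r₂ := fun h => h₀₁ (by
    rw [h] at hr₁ ⊢
    rw [hr₂] at hr₁
    exact h ▸ hr₁)
  have s1 := inv_symm_of_sum hq hcard F r₀ r₁ h₀₁ e hr₁ hF hH
  have s2 := inv_symm_of_sum hq hcard F r₀ r₂ h₀₂ (e * e) (by rw [pow_mul, hr₂, hr₁])
    (fun u => by rw [pow_mul, hF, hF]) (fun u => by rw [pow_mul, hH, hH])
  refine eq_of_periodic hq hcard F (d := r₁ / r₂) (fun h => h₁₂ (div_eq_one.mp h)) ?_ s t
  intro u
  have h1 : (u⁻¹ / (r₀ * r₁))⁻¹ / (r₀ * r₂) = u * (r₁ / r₂) := by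
    apply Additive.ofMul.injective
    simp only [ofMul_div, ofMul_inv, ofMul_mul]
    abel
  rw [← h1, ← s2, ← s1]

end CyclicPrime

section Orbits

variable {p : ℕ} [Fact p.Prime]

/-- The orbit of the triple `(0, 1, z)`. -/
def Orb3 (G : Subgroup (Equiv.Perm (ZMod p))) (z : ZMod p) (t : ZMod p × ZMod p × ZMod p) : Prop :=
  ∃ g ∈ G, g 0 = t.1 ∧ g 1 = t.2.1 ∧ g z = t.2.2

variable {G : Subgroup (Equiv.Perm (ZMod p))}

theorem orb3_map {z : ZMod p} {g : Equiv.Perm (ZMod p)} (hg : g ∈ G)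
    {t : ZMod p × ZMod p × ZMod p} (ht : Orb3 G z t) : Orb3 G z (g t.1, g t.2.1, g t.2.2) := by
  obtain ⟨k, hk, h0, h1, h2⟩ := ht
  exact ⟨g * k, mul_mem hg hk, by simp [h0], by simp [h1], by simp [h2]⟩

theorem orb3_map_iff {z : ZMod p} {g : Equiv.Perm (ZMod p)} (hg : g ∈ G) {x y w : ZMod p} :
    Orb3 G z (g x, g y, g w) ↔ Orb3 G z (x, y, w) := by
  refine ⟨fun h => ?_, fun h => orb3_map hg h⟩
  simpa using orb3_map (inv_mem hg) h

theorem isPretransitive_of_aff
    (haff : ∀ s c : ZMod p, s ≠ 0 → IsSquare s → ∃ g ∈ G, ∀ x, g x = c + s * x) :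
    IsPretransitive G (ZMod p) := by
  refine ⟨fun x y => ?_⟩
  obtain ⟨g, hg, hgx⟩ := haff 1 (y - x) one_ne_zero IsSquare.one
  exact ⟨⟨g, hg⟩, (hgx x).trans (by ring)⟩

/-- If a group with all square affine maps is not triply transitive then the ternary relation
given by one orbit of triples is totally symmetric and invariant under every involution
normalising the group. -/
theorem exists_rel (hp5 : 5 ≤ p) (hmod : p % 4 = 3) (hns : ¬ Group.IsSolvable G)
    (haff : ∀ s c : ZMod p, s ≠ 0 → IsSquare s → ∃ g ∈ G, ∀ x, g x = c + s * x)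
    (h3 : ¬ IsMultiplyPretransitive G (ZMod p) 3) :
    ∃ B : ZMod p → ZMod p → ZMod p → Prop,
      (∀ g ∈ G, ∀ x y w, B (g x) (g y) (g w) ↔ B x y w) ∧
      (∃ c, c ≠ 0 ∧ c ≠ 1 ∧ B 0 1 c) ∧ (∃ c, c ≠ 0 ∧ c ≠ 1 ∧ ¬ B 0 1 c) ∧
      (∀ x y w, B y x w ↔ B x y w) ∧ (∀ x y w, B x w y ↔ B x y w) ∧
      (∀ ν : Equiv.Perm (ZMod p), (∀ x, ν (ν x) = x) → (∀ g ∈ G, ν * g * ν ∈ G) →
        ∀ x y w, B (ν x) (ν y) (ν w) ↔ B x y w) := by
  classical
  haveI := isPretransitive_of_aff haff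
  have h2 : IsMultiplyPretransitive G (ZMod p) 2 :=
    (Cfsg.Agent.FGS80.Burnside.isSolvable_or_two_transitive (G := G) (ZMod.card p)).resolve_left hns
  have htwo : ∀ x y : ZMod p, x ≠ y → ∃ g ∈ G, g 0 = x ∧ g 1 = y := by
    intro x y hxy
    obtain ⟨⟨g, hg⟩, h0, h1⟩ := is_two_pretransitive_iff.mp h2 (zero_ne_one' (ZMod p)) hxy
    exact ⟨g, hg, h0, h1⟩
  -- at most two orbits
  obtain ⟨τ, hτG, hτ⟩ := haff 1 1 one_ne_zero IsSquare.one
  have hτ' : ∀ i : ZMod p, (⟨τ, hτG⟩ : G) • (Equiv.refl (ZMod p)) i =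
      (Equiv.refl (ZMod p)) (i + 1) := fun i => by
    show τ i = i + 1
    rw [hτ]; ring
  let A : Subgroup (ZMod p)ˣ := (powMonoidHom 2).range
  have hA : ∀ k : (ZMod p)ˣ, k ∈ A ∨ k * (-1)⁻¹ ∈ A := by
    intro k
    rcases ZMod.pow_div_two_eq_neg_one_or_one p k.ne_zero with h | h
    · obtain ⟨v, hv⟩ := (ZMod.euler_criterion p k.ne_zero).mpr h
      have hv0 : v ≠ 0 := by
        rintro rfl
        exact k.ne_zero (by rw [hv, mul_zero])
      exact Or.inl ⟨Units.mk0 v hv0, Units.ext (by simp [hv, pow_two])⟩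
    · have hodd : Odd (p / 2) := ⟨p / 4, by omega⟩
      have h' : (-(k : ZMod p)) ^ (p / 2) = 1 := by rw [hodd.neg_pow, h, neg_neg]
      obtain ⟨v, hv⟩ := (ZMod.euler_criterion p (neg_ne_zero.mpr k.ne_zero)).mpr h'
      have hv0 : v ≠ 0 := by
        rintro rfl
        exact k.ne_zero (by rw [← neg_eq_zero, hv, mul_zero])
      exact Or.inr ⟨Units.mk0 v hv0, Units.ext (by simp [hv, pow_two])⟩
  have haffA : ∀ a ∈ A, ∃ (g : G) (c : ZMod p), ∀ x, g • (Equiv.refl (ZMod p)) x =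
      (Equiv.refl (ZMod p)) (c + (a : ZMod p) * x) := by
    rintro a ⟨v, rfl⟩
    obtain ⟨g, hg, hgx⟩ := haff (((powMonoidHom 2) v : (ZMod p)ˣ) : ZMod p) 0 (Units.ne_zero _)
      ⟨(v : ZMod p), by simp [pow_two]⟩
    exact ⟨⟨g, hg⟩, 0, hgx⟩
  have hno3 : ∀ c : Fin 3 → ZMod p, (∀ i, c i ≠ 0) → (∀ i, c i ≠ 1) →
      (∀ i j, i ≠ j → ¬ Orb3 G (c i) (0, 1, c j)) → False := by
    intro c hc0 hc1 hd
    exact Cfsg.Agent.S3611.false_of_three (ZMod.card p) hp5
      (fun W h₁ h₂ => Agent.Perm.PrimeDeg.heart_irreducible hns hτ' W h₁ h₂)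
      h2 (Equiv.refl _) ⟨τ, hτG⟩ hτ' A (-1) hA haffA zero_ne_one c hc0 hc1
      fun i j hij g g0 g1 gc => hd i j hij ⟨g, g.2, g0, g1, gc⟩
  -- the two orbits
  have hsingle : ∀ z : ZMod p, z ≠ 0 → z ≠ 1 →
      ∃ c, c ≠ 0 ∧ c ≠ 1 ∧ ¬ Orb3 G z (0, 1, c) := by
    intro z hz0 hz1
    by_contra hall
    push Not at hall
    refine h3 (isMultiplyPretransitive_iff.mpr fun {x y} => ?_)
    have key : ∀ x : Fin 3 ↪ ZMod p, ∃ g ∈ G, g (x 0) = 0 ∧ g (x 1) = 1 ∧ g (x 2) = z := by
      intro x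
      obtain ⟨g, hg, g0, g1⟩ := htwo (x 0) (x 1) (x.injective.ne (by decide))
      have ne0 : g⁻¹ (x 2) ≠ 0 := fun h => by
        rw [Equiv.Perm.inv_eq_iff_eq] at h
        exact x.injective.ne (show (2 : Fin 3) ≠ 0 by decide) (h.trans g0)
      have ne1 : g⁻¹ (x 2) ≠ 1 := fun h => by
        rw [Equiv.Perm.inv_eq_iff_eq] at h
        exact x.injective.ne (show (2 : Fin 3) ≠ 1 by decide) (h.trans g1)
      obtain ⟨k, hk, k0, k1, k2⟩ := hall _ ne0 ne1
      refine ⟨k⁻¹ * g⁻¹, mul_mem (inv_mem hk) (inv_mem hg), ?_, ?_, ?_⟩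
      · simp only [Equiv.Perm.mul_apply, Equiv.Perm.inv_eq_iff_eq]
        rw [k0, g0]
      · simp only [Equiv.Perm.mul_apply, Equiv.Perm.inv_eq_iff_eq]
        rw [k1, g1]
      · simp only [Equiv.Perm.mul_apply, Equiv.Perm.inv_eq_iff_eq]
        rw [k2]; exact (g.apply_symm_apply _).symm
    obtain ⟨g, hg, g0, g1, g2⟩ := key x
    obtain ⟨k, hk, k0, k1, k2⟩ := key y
    refine ⟨⟨k⁻¹ * g, mul_mem (inv_mem hk) hg⟩, ?_⟩
    ext i
    show (k⁻¹ * g) (x i) = y i
    rw [Equiv.Perm.mul_apply, Equiv.Perm.inv_eq_iff_eq]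
    fin_cases i
    · exact g0.trans k0.symm
    · exact g1.trans k1.symm
    · exact g2.trans k2.symm
  obtain ⟨z, hz0, hz1⟩ : ∃ z : ZMod p, z ≠ 0 ∧ z ≠ 1 := by
    have h : 1 < (Finset.univ.erase (0 : ZMod p)).card := by
      rw [Finset.card_erase_of_mem (Finset.mem_univ _), Finset.card_univ, ZMod.card]
      omega
    obtain ⟨z, hz, hz1⟩ := Finset.exists_mem_ne h 1
    exact ⟨z, (Finset.mem_erase.mp hz).1, hz1⟩
  obtain ⟨z', hz'0, hz'1, hzz'⟩ := hsingle z hz0 hz1
  have hone : ∀ a : ZMod p, Orb3 G a (0, 1, a) := fun a => ⟨1, one_mem _, rfl, rfl, rfl⟩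
  have hsymm : ∀ a b : ZMod p, Orb3 G a (0, 1, b) → Orb3 G b (0, 1, a) := by
    rintro a b ⟨g, hg, g0, g1, g2⟩
    exact ⟨g⁻¹, inv_mem hg, Equiv.Perm.inv_eq_iff_eq.mpr g0.symm,
      Equiv.Perm.inv_eq_iff_eq.mpr g1.symm, Equiv.Perm.inv_eq_iff_eq.mpr g2.symm⟩
  have htrans : ∀ (a b : ZMod p) t, Orb3 G a (0, 1, b) → Orb3 G b t → Orb3 G a t := by
    rintro a b t ⟨g, hg, g0, g1, g2⟩ ⟨k, hk, k0, k1, k2⟩
    exact ⟨k * g, mul_mem hk hg, by simp [g0, k0], by simp [g1, k1], by simp [g2, k2]⟩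
  have hdistinct : ∀ (a : ZMod p), a ≠ 0 → a ≠ 1 → ∀ x y w : ZMod p, Orb3 G a (x, y, w) →
      x ≠ y ∧ y ≠ w ∧ x ≠ w := by
    rintro a ha0 ha1 x y w ⟨g, -, g0, g1, g2⟩
    simp only at g0 g1 g2
    subst g0 g1 g2
    exact ⟨g.injective.ne zero_ne_one, g.injective.ne ha1.symm, g.injective.ne ha0.symm⟩
  have hcover : ∀ c : ZMod p, c ≠ 0 → c ≠ 1 →
      Orb3 G z (0, 1, c) ∨ Orb3 G z' (0, 1, c) := by
    intro c hc0 hc1
    by_contra h
    push Not at h
    refine hno3 ![z, z', c] ?_ ?_ ?_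
    · intro i; fin_cases i <;> simpa
    · intro i; fin_cases i <;> simpa
    · intro i j hij hh
      fin_cases i <;> fin_cases j <;> simp at hij hh
      · exact hzz' hh
      · exact h.1 hh
      · exact hzz' (hsymm _ _ hh)
      · exact h.2 hh
      · exact h.1 (hsymm _ _ hh)
      · exact h.2 (hsymm _ _ hh)
  have hnboth : ∀ t, Orb3 G z t → ¬ Orb3 G z' t := by
    rintro ⟨x, y, w⟩ ⟨g, hg, g0, g1, g2⟩ ⟨k, hk, k0, k1, k2⟩
    simp only at g0 g1 g2 k0 k1 k2
    refine hzz' ⟨k⁻¹ * g, mul_mem (inv_mem hk) hg, ?_, ?_, ?_⟩ <;>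
      simp only [Equiv.Perm.mul_apply, Equiv.Perm.inv_eq_iff_eq]
    · rw [g0, k0]
    · rw [g1, k1]
    · rw [g2, k2]
  have hcover3 : ∀ x y w : ZMod p, x ≠ y → y ≠ w → x ≠ w →
      Orb3 G z (x, y, w) ∨ Orb3 G z' (x, y, w) := by
    intro x y w hxy hyw hxw
    obtain ⟨g, hg, rfl, rfl⟩ := htwo x y hxy
    obtain ⟨c, rfl⟩ := g.surjective w
    rw [orb3_map_iff hg, orb3_map_iff hg]
    exact hcover c (fun h => hxw (by rw [h])) (fun h => hyw (by rw [h]))
  -- the two sizes differ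
  let T : ZMod p → Finset (ZMod p × ZMod p × ZMod p) := fun a =>
    Finset.univ.filter fun t => Orb3 G a t
  let K : ZMod p → Finset (ZMod p) := fun a =>
    Finset.univ.filter fun c => Orb3 G a (0, 1, c)
  let P : Finset (ZMod p × ZMod p) := Finset.univ.offDiag
  have hcount : ∀ a : ZMod p, a ≠ 0 → a ≠ 1 → (T a).card = P.card * (K a).card := by
    intro a ha0 ha1
    rw [Finset.card_eq_sum_card_fiberwise (f := fun t => (t.1, t.2.1)) (t := P)]
    · rw [Finset.sum_const_nat (m := (K a).card)]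
      rintro ⟨x, y⟩ hxy
      obtain ⟨g, hg, rfl, rfl⟩ := htwo x y (by simpa [P] using hxy)
      refine (Finset.card_bij (fun c _ => (g 0, g 1, g c)) ?_ ?_ ?_).symm
      · intro c hc
        simp only [K, Finset.mem_filter, Finset.mem_univ, true_and] at hc
        simp [T, orb3_map_iff hg, hc]
      · intro c _ c' _ h
        simpa using h
      · rintro ⟨x, y, w⟩ ht
        simp only [T, Finset.mem_filter, Finset.mem_univ, true_and, Prod.mk.injEq] at ht
        obtain ⟨ht, rfl, rfl⟩ := ht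
        obtain ⟨c, rfl⟩ := g.surjective w
        exact ⟨c, by simpa [K] using (orb3_map_iff hg).mp ht, rfl⟩
    · rintro ⟨x, y, w⟩ ht
      simp only [T, Finset.coe_filter, Finset.mem_univ, true_and, Set.mem_ofPred_eq] at ht
      simpa [P] using (hdistinct a ha0 ha1 x y w ht).1
  have hKsum : (K z).card + (K z').card = p - 2 := by
    rw [← Finset.card_union_of_disjoint]
    · rw [show K z ∪ K z' = (Finset.univ.erase 0).erase 1 from ?_]
      · rw [Finset.card_erase_of_mem (by simp), Finset.card_erase_of_mem (Finset.mem_univ _),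
          Finset.card_univ, ZMod.card]
        omega
      · ext c
        simp only [K, Finset.mem_union, Finset.mem_filter, Finset.mem_univ, true_and,
          Finset.mem_erase, and_true]
        constructor
        · rintro (h | h)
          · have := hdistinct z hz0 hz1 0 1 c h
            exact ⟨this.2.1.symm, this.2.2.symm⟩
          · have := hdistinct z' hz'0 hz'1 0 1 c h
            exact ⟨this.2.1.symm, this.2.2.symm⟩
        · rintro ⟨h1, h0⟩
          exact hcover c h0 h1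
    · rw [Finset.disjoint_left]
      intro c h h'
      simp only [K, Finset.mem_filter, Finset.mem_univ, true_and] at h h'
      exact hnboth _ h h'
  have hTne : (T z).card ≠ (T z').card := by
    rw [hcount z hz0 hz1, hcount z' hz'0 hz'1]
    intro h
    have hP : 0 < P.card :=
      Finset.card_pos.mpr ⟨(0, 1), by simp [P]⟩
    have := Nat.eq_of_mul_eq_mul_left hP h
    omega
  -- total symmetry
  have hinvol : ∀ f : ZMod p × ZMod p × ZMod p → ZMod p × ZMod p × ZMod p,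
      (∀ t, f (f t) = t) →
      (∀ x y w, x ≠ y → y ≠ w → x ≠ w →
        (f (x, y, w)).1 ≠ (f (x, y, w)).2.1 ∧ (f (x, y, w)).2.1 ≠ (f (x, y, w)).2.2 ∧
          (f (x, y, w)).1 ≠ (f (x, y, w)).2.2) →
      (∀ g ∈ G, ∃ g' ∈ G, ∀ t : ZMod p × ZMod p × ZMod p,
        f (g' t.1, g' t.2.1, g' t.2.2) = (g (f t).1, g (f t).2.1, g (f t).2.2)) →
      ∀ t, Orb3 G z t → Orb3 G z (f t) := by
    intro f hf hfd hfg t ht
    by_contra hcon
    obtain ⟨d1, d2, d3⟩ := hdistinct z hz0 hz1 t.1 t.2.1 t.2.2 ht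
    obtain ⟨e1, e2, e3⟩ := hfd _ _ _ d1 d2 d3
    have hft : Orb3 G z' (f t) := (hcover3 _ _ _ e1 e2 e3).resolve_left hcon
    have move : ∀ (a b : ZMod p) (t u : ZMod p × ZMod p × ZMod p),
        Orb3 G a t → Orb3 G b (f t) → Orb3 G a u → Orb3 G b (f u) := by
      rintro a b t u ⟨g₁, hg₁, a0, a1, a2⟩ hb ⟨g₂, hg₂, b0, b1, b2⟩
      obtain ⟨g', hg', hgf⟩ := hfg _ (mul_mem hg₂ (inv_mem hg₁))
      -- `g'` sends `f t` to `f u`
      have h := hgf (f t)
      rw [hf] at h
      have hu : ((g₂ * g₁⁻¹) t.1, (g₂ * g₁⁻¹) t.2.1, (g₂ * g₁⁻¹) t.2.2) = u := by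
        simp [← a0, ← a1, ← a2, b0, b1, b2]
      rw [hu] at h
      have h' := congrArg f h
      rw [hf] at h'
      exact h' ▸ orb3_map hg' hb
    refine hTne (Finset.card_bij' (fun u _ => f u) (fun u _ => f u) ?_ ?_ (fun u _ => hf u)
      (fun u _ => hf u))
    · intro u hu
      simp only [T, Finset.mem_filter, Finset.mem_univ, true_and] at hu ⊢
      exact move z z' t u ht hft hu
    · intro u hu
      simp only [T, Finset.mem_filter, Finset.mem_univ, true_and] at hu ⊢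
      exact move z' z (f t) u hft (by rwa [hf]) hu
  refine ⟨fun x y w => Orb3 G z (x, y, w), fun g hg x y w => orb3_map_iff hg,
    ⟨z, hz0, hz1, hone z⟩, ⟨z', hz'0, hz'1, hzz'⟩, ?_, ?_, ?_⟩
  · have h := hinvol (fun t => (t.2.1, t.1, t.2.2)) (fun t => rfl)
      (fun x y w a b c => ⟨a.symm, c, b⟩) (fun g hg => ⟨g, hg, fun t => rfl⟩)
    exact fun x y w => ⟨fun hh => h _ hh, fun hh => h _ hh⟩
  · have h := hinvol (fun t => (t.1, t.2.2, t.2.1)) (fun t => rfl)
      (fun x y w a b c => ⟨c, b.symm, a⟩) (fun g hg => ⟨g, hg, fun t => rfl⟩)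
    exact fun x y w => ⟨fun hh => h _ hh, fun hh => h _ hh⟩
  · intro ν hν hνG
    have h := hinvol (fun t => (ν t.1, ν t.2.1, ν t.2.2)) (fun t => by simp [hν])
      (fun x y w a b c => ⟨ν.injective.ne a, ν.injective.ne b, ν.injective.ne c⟩)
      (fun g hg => ⟨ν * g * ν, hνG g hg, fun t => by simp [hν]⟩)
    exact fun x y w => ⟨fun hh => by simpa [hν] using h _ hh, fun hh => h _ hh⟩

end Orbits

section Main

variable {p q : ℕ} [Fact p.Prime] {G : Subgroup (Equiv.Perm (ZMod p))}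

theorem isSquare_or_neg (hmod : p % 4 = 3) {a : ZMod p} (ha : a ≠ 0) :
    IsSquare a ∨ IsSquare (-a) := by
  rcases ZMod.pow_div_two_eq_neg_one_or_one p ha with h | h
  · exact Or.inl ((ZMod.euler_criterion p ha).mpr h)
  · have hodd : Odd (p / 2) := ⟨p / 4, by omega⟩
    exact Or.inr ((ZMod.euler_criterion p (neg_ne_zero.mpr ha)).mpr
      (by rw [hodd.neg_pow, h, neg_neg]))

theorem not_isSquare_neg_of_isSquare (hmod : p % 4 = 3) {a : ZMod p} (ha : a ≠ 0)
    (h : IsSquare a) : ¬ IsSquare (-a) := fun h' => by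
  have : IsSquare (-1 : ZMod p) := by
    have := h'.div h
    rwa [neg_div, div_self ha] at this
  exact ZMod.exists_sq_eq_neg_one_iff.mp this hmod

/-- An element fixing `0` and `1` which acts on multipliers by `s ↦ s ^ e` commutes with `-1`. -/
theorem apply_neg_of_not_three (hS : Setup p q G) {g : Equiv.Perm (ZMod p)} (hg : g ∈ G) (e : ℕ)
    (h0 : g 0 = 0) (h1 : g 1 = 1)
    (hpow : ∀ s x : ZMod p, s ≠ 0 → IsSquare s → g (s * x) = s ^ e * g x)
    (he0 : (e : ZMod q) ≠ 0) (he1 : (e : ZMod q) ≠ 1) (he2 : (e : ZMod q) ^ 2 ≠ 1)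
    (h3 : ¬ IsMultiplyPretransitive G (ZMod p) 3) (x : ZMod p) : g (-x) = - g x := by
  classical
  have hq := hS.prime_q
  have hpq := hS.hpq
  have h11 := hS.eleven_le
  have hmod : p % 4 = 3 := by
    have : q % 2 = 1 := Nat.odd_iff.mp (hq.odd_of_ne_two (by omega))
    omega
  obtain ⟨B, hBG, ⟨cB, hcB0, hcB1, hcB⟩, ⟨cN, hcN0, hcN1, hcN⟩, hswap, hswap', -⟩ :=
    exists_rel (by omega) hmod hS.not_solvable hS.exists_aff h3
  have haff : ∀ s c x y w : ZMod p, s ≠ 0 → IsSquare s →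
      (B (c + s * x) (c + s * y) (c + s * w) ↔ B x y w) := by
    intro s c x y w hs hsq
    obtain ⟨k, hk, hkx⟩ := hS.exists_aff s c hs hsq
    rw [← hkx, ← hkx, ← hkx]
    exact hBG k hk x y w
  -- the group of squares
  let S : Subgroup (ZMod p)ˣ := (powMonoidHom 2).range
  have hmemS : ∀ u : (ZMod p)ˣ, u ∈ S ↔ IsSquare (u : ZMod p) := by
    intro u
    constructor
    · rintro ⟨v, rfl⟩
      exact ⟨(v : ZMod p), by simp [pow_two]⟩
    · rintro ⟨v, hv⟩
      have hv0 : v ≠ 0 := by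
        rintro rfl
        exact u.ne_zero (by rw [hv, mul_zero])
      exact ⟨Units.mk0 v hv0, Units.ext (by simp [hv, pow_two])⟩
  have hcard : Nat.card S = q := by
    show Nat.card (powMonoidHom 2 : (ZMod p)ˣ →* (ZMod p)ˣ).range = q
    rw [IsCyclic.card_powMonoidHom_range, Nat.card_units, Nat.card_zmod, hpq,
      Nat.add_sub_cancel, Nat.gcd_mul_right_left]
    omega
  have hne : ∀ s : S, ((s : (ZMod p)ˣ) : ZMod p) ≠ 0 := fun s => Units.ne_zero _
  have hsq : ∀ s : S, IsSquare ((s : (ZMod p)ˣ) : ZMod p) := fun s => (hmemS _).mp s.2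
  have hcop : (Nat.card S).Coprime e := by
    rw [hcard, hq.coprime_iff_not_dvd]
    exact fun h => he0 ((ZMod.natCast_eq_zero_iff _ _).mpr h)
  let val : S → ZMod p := fun s => ((s : (ZMod p)ˣ) : ZMod p)
  have val_mul : ∀ s t, val (s * t) = val s * val t := fun s t => rfl
  have val_one : val 1 = 1 := rfl
  have val_pow : ∀ (s) (n : ℕ), val (s ^ n) = val s ^ n := fun s n => by simp [val]
  have val_inv : ∀ s, val s⁻¹ = (val s)⁻¹ := fun s => Units.val_inv_eq_inv_val _
  have hgval : ∀ s, g (val s) = val (s ^ e) := fun s => by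
    have := hpow (val s) 1 (hne s) (hsq s)
    rwa [mul_one, h1, mul_one, ← val_pow] at this
  have exists_val : ∀ a : ZMod p, a ≠ 0 → IsSquare a → ∃ s, val s = a := fun a ha hsq' =>
    ⟨⟨Units.mk0 a ha, (hmemS _).mpr hsq'⟩, rfl⟩
  obtain ⟨r, hr⟩ : ∃ r, g (-1) = - val r := by
    have hgne : g (-1) ≠ 0 := fun h =>
      one_ne_zero (neg_eq_zero.mp (g.injective (h.trans h0.symm)))
    rcases isSquare_or_neg hmod hgne with h | h
    · obtain ⟨s, hs⟩ := exists_val _ hgne h
      obtain ⟨s', hs'⟩ := (powCoprime hcop).surjective s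
      replace hs' : s' ^ e = s := hs'
      have : val s' = -1 := g.injective (by rw [hgval, hs', hs])
      exact absurd (this ▸ hsq s') (fun hh =>
        ZMod.exists_sq_eq_neg_one_iff.mp hh hmod)
    · obtain ⟨s, hs⟩ := exists_val _ (neg_ne_zero.mpr hgne) h
      exact ⟨s, by rw [hs, neg_neg]⟩
  have hgneg : ∀ s, g (- val s) = - val (s ^ e * r) := fun s => by
    have := hpow (val s) (-1) (hne s) (hsq s)
    rw [mul_neg, mul_one, hr, mul_neg, ← val_pow, ← val_mul] at this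
    exact this
  obtain ⟨r₀, hr₀⟩ : ∃ r₀ : S, r₀ / r₀ ^ e = r := by
    have hinj : Function.Injective fun x : S => x / x ^ e := by
      intro x y hxy
      by_contra hne'
      refine he1 (natCast_eq_one_of_pow_eq_self hq hcard (x := x / y)
        (fun h => hne' (div_eq_one.mp h)) ?_)
      have : x * y ^ e = y * x ^ e := div_eq_div_iff_mul_eq_mul.mp hxy
      rw [div_pow, div_eq_div_iff_mul_eq_mul, mul_comm (x ^ e), ← this]
    exact Finite.surjective_of_injective hinj r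
  by_cases hr₀1 : r₀ = 1
  · -- the desired conclusion
    subst hr₀1
    rw [one_pow, div_one] at hr₀
    subst hr₀
    have hgneg' : ∀ s, g (- val s) = - g (val s) := fun s => by
      rw [hgneg, mul_one, hgval]
    by_cases hx : x = 0
    · rw [hx, neg_zero, h0, neg_zero]
    rcases isSquare_or_neg hmod hx with h | h
    · obtain ⟨s, rfl⟩ := exists_val _ hx h
      exact hgneg' s
    · obtain ⟨s, hs⟩ := exists_val _ (neg_ne_zero.mpr hx) h
      have hx' : x = - val s := by rw [hs, neg_neg]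
      rw [hx', neg_neg, hgneg', neg_neg]
  exfalso
  let F : S → ℤ := fun u => if B 0 1 (- val (r₀ * u)) then 1 else 0
  have hgr : ∀ u, g (- val (r₀ * u)) = - val (r₀ * u ^ e) := fun u => by
    rw [hgneg]
    congr 2
    rw [← hr₀, mul_pow]
    apply Additive.ofMul.injective
    simp only [ofMul_div, ofMul_mul, ofMul_pow]
    abel
  have hF : ∀ u, F (u ^ e) = F u := fun u => by
    have h := hBG g hg 0 1 (- val (r₀ * u))
    rw [h0, h1, hgr] at h
    simp only [F, h]
  have hH : ∀ s, F (s ^ e / r₀) + F ((s ^ e)⁻¹ / r₀) = F (s / r₀) + F (s⁻¹ / r₀) := by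
    have hpair : ∀ s, s ≠ 1 →
        F (s / r₀) + F (s⁻¹ / r₀) = (if B 1 (val s) (val s * val s) then (1 : ℤ) else 0) +
          (if B (-1) (- val s) (-(val s * val s)) then 1 else 0) := by
      intro s hs
      have e1 : r₀ * (s / r₀) = s := mul_div_cancel _ _
      have e2 : r₀ * (s⁻¹ / r₀) = s⁻¹ := mul_div_cancel _ _
      have a1 : B 0 1 (- val s) ↔ B 1 0 (- val s) := hswap 1 0 _
      have a2 : B 0 1 (- val s⁻¹) ↔ B (-1) 0 (val s) := by
        rw [← haff (val s) 0 0 1 (- val s⁻¹) (hne s) (hsq s), val_inv,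
          mul_zero, mul_one, mul_neg, mul_inv_cancel₀ (hne s), zero_add, zero_add, zero_add,
          hswap' 0 (-1) (val s), hswap (-1) 0 (val s)]
      simp only [F, e1, e2, a1, a2]
      have hd : 1 - val s ≠ 0 := fun h => hs (Subtype.ext (Units.ext (sub_eq_zero.mp h).symm))
      rcases isSquare_or_neg hmod hd with h | h
      · have b1 : B 1 (val s) (val s * val s) ↔ B 1 0 (- val s) := by
          rw [← haff (1 - val s) (val s) 1 0 (- val s) hd h]
          ring_nf
        have b2 : B (-1) (- val s) (-(val s * val s)) ↔ B (-1) 0 (val s) := by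
          rw [← haff (1 - val s) (- val s) (-1) 0 (val s) hd h]
          ring_nf
        simp only [b1, b2]
      · have b1 : B 1 (val s) (val s * val s) ↔ B (-1) 0 (val s) := by
          rw [← haff (-(1 - val s)) (val s) (-1) 0 (val s) (neg_ne_zero.mpr hd) h]
          ring_nf
        have b2 : B (-1) (- val s) (-(val s * val s)) ↔ B 1 0 (- val s) := by
          rw [← haff (-(1 - val s)) (- val s) 1 0 (- val s) (neg_ne_zero.mpr hd) h]
          ring_nf
        simp only [b1, b2]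
        ring
    intro s
    by_cases hs : s = 1
    · rw [hs, one_pow]
    have hse : s ^ e ≠ 1 := fun h => hs ((powCoprime hcop).injective (by
      show s ^ e = (1 : S) ^ e
      rw [h, one_pow]))
    rw [hpair s hs, hpair _ hse]
    have c1 : B 1 (val (s ^ e)) (val (s ^ e) * val (s ^ e)) ↔ B 1 (val s) (val s * val s) := by
      have h := hBG g hg 1 (val s) (val s * val s)
      rw [h1, hgval] at h
      rw [← val_mul s s, hgval, mul_pow, val_mul] at h
      rw [h, val_mul]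
    have c2 : B (-1) (- val (s ^ e)) (-(val (s ^ e) * val (s ^ e))) ↔
        B (-1) (- val s) (-(val s * val s)) := by
      have h := hBG g hg (-1) (- val s) (-(val s * val s))
      rw [hgneg, ← val_mul s s, hgneg, hr, mul_pow, mul_comm (s ^ e) r, mul_comm _ r] at h
      rw [← haff (val r) 0 _ _ _ (hne r) (hsq r), ← val_mul s s, ← h]
      simp only [val_mul, zero_add, mul_neg, mul_one]
    simp only [c1, c2]
  have hconst := const_of_sum hq hcard he0 he1 he2 F hr₀1 hF hH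
  -- the relation with nonsquare third entry is constant
  have hns : ∀ c : ZMod p, c ≠ 0 → ¬ IsSquare c → (B 0 1 c ↔ B 0 1 (- val r₀)) := by
    intro c hc hcs
    obtain ⟨s, hs⟩ := exists_val _ (neg_ne_zero.mpr hc)
      ((isSquare_or_neg hmod hc).resolve_left hcs)
    have h := hconst (s / r₀) 1
    have e1 : r₀ * (s / r₀) = s := mul_div_cancel _ _
    simp only [F, e1, mul_one, hs, neg_neg] at h
    split_ifs at h with u v v <;> first | omega | tauto
  let Q : ZMod p → ZMod p → ZMod p → Prop := fun x y w =>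
    x ≠ y ∧ y ≠ w ∧ x ≠ w ∧ ¬ (B x y w ↔ B 0 1 (- val r₀))
  have hQswap : ∀ x y w, Q x y w → Q y x w := by
    rintro x y w ⟨a, b, c, d⟩
    exact ⟨a.symm, c, b, by rwa [hswap]⟩
  have hQswap' : ∀ x y w, Q x y w → Q x w y := by
    rintro x y w ⟨a, b, c, d⟩
    exact ⟨c, b.symm, a, by rwa [hswap']⟩
  have hQdiff : ∀ x y w, Q x y w → IsSquare (y - x) → IsSquare (w - x) := by
    rintro x y w ⟨hxy, hyw, hxw, hq'⟩ hsq'
    by_contra hcon
    have hd : y - x ≠ 0 := sub_ne_zero.mpr hxy.symm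
    refine hq' (Iff.trans ?_ (hns ((w - x) / (y - x)) (div_ne_zero (sub_ne_zero.mpr hxw.symm) hd)
      fun h => hcon ?_))
    · rw [← haff (y - x) x 0 1 ((w - x) / (y - x)) hd hsq', mul_zero, add_zero, mul_one,
        mul_div_cancel₀ _ hd, add_sub_cancel, add_sub_cancel]
    · have := h.mul hsq'
      rwa [div_mul_cancel₀ _ hd] at this
  obtain ⟨c, hQ⟩ : ∃ c, Q 0 1 c := by
    by_cases h : B 0 1 (- val r₀)
    · exact ⟨cN, zero_ne_one, hcN1.symm, hcN0.symm, fun hh => hcN (hh.mpr h)⟩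
    · exact ⟨cB, zero_ne_one, hcB1.symm, hcB0.symm, fun hh => h (hh.mp hcB)⟩
  obtain ⟨-, hc1, hc0, -⟩ := id hQ
  have hsqc : IsSquare c := by
    simpa using hQdiff 0 1 c hQ (by simp)
  rcases isSquare_or_neg hmod (sub_ne_zero.mpr hc1.symm) with h | h
  · have h' := hQdiff 1 c 0 (hQswap' _ _ _ (hQswap _ _ _ hQ)) h
    rw [zero_sub] at h'
    exact ZMod.exists_sq_eq_neg_one_iff.mp h' hmod
  · have hQ' : Q c 1 0 := hQswap _ _ _ (hQswap' _ _ _ (hQswap _ _ _ hQ))
    have h' := hQdiff c 1 0 hQ' (by rwa [neg_sub] at h)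
    rw [zero_sub] at h'
    exact not_isSquare_neg_of_isSquare hmod hc0.symm hsqc h'

/-- A multiplier twisting element forces triple transitivity. -/
theorem three_transitive_of_delta (hS : Setup p q G) {g : Equiv.Perm (ZMod p)} (hg : g ∈ G)
    (e : ℕ) (h0 : g 0 = 0) (h1 : g 1 = 1)
    (hpow : ∀ s x : ZMod p, s ≠ 0 → IsSquare s → g (s * x) = s ^ e * g x)
    (he0 : (e : ZMod q) ≠ 0) (he1 : (e : ZMod q) ≠ 1) (he2 : (e : ZMod q) ^ 2 ≠ 1) :
    IsMultiplyPretransitive G (ZMod p) 3 := by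
  classical
  by_contra h3
  have hgodd := apply_neg_of_not_three hS hg e h0 h1 hpow he0 he1 he2 h3
  have hq := hS.prime_q
  have hpq := hS.hpq
  have h11 := hS.eleven_le
  have hmod : p % 4 = 3 := by
    have : q % 2 = 1 := Nat.odd_iff.mp (hq.odd_of_ne_two (by omega))
    omega
  let ν : Equiv.Perm (ZMod p) := Equiv.neg (ZMod p)
  have hν : ∀ x, ν (ν x) = x := fun x => neg_neg x
  have hνν : ν * ν = 1 := Equiv.ext hν
  let G₁ : Subgroup (Equiv.Perm (ZMod p)) :=
    { carrier := {h | h ∈ G ∧ ν * h * ν ∈ G}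
      one_mem' := ⟨one_mem _, by rw [mul_one, hνν]; exact one_mem _⟩
      mul_mem' := by
        rintro a b ⟨ha, ha'⟩ ⟨hb, hb'⟩
        refine ⟨mul_mem ha hb, ?_⟩
        convert mul_mem ha' hb' using 1
        rw [show ν * a * ν * (ν * b * ν) = ν * a * (ν * ν) * (b * ν) by simp only [mul_assoc],
          hνν, mul_one]
        simp only [mul_assoc]
      inv_mem' := by
        rintro a ⟨ha, ha'⟩
        refine ⟨inv_mem ha, ?_⟩
        convert inv_mem ha' using 1
        rw [mul_inv_rev, mul_inv_rev, inv_eq_of_mul_eq_one_right hνν, mul_assoc] }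
  have hG₁le : G₁ ≤ G := fun h hh => hh.1
  have haff₁ : ∀ s c : ZMod p, s ≠ 0 → IsSquare s → ∃ k ∈ G₁, ∀ x, k x = c + s * x := by
    intro s c hs hsq
    obtain ⟨k, hk, hkx⟩ := hS.exists_aff s c hs hsq
    obtain ⟨k', hk', hkx'⟩ := hS.exists_aff s (-c) hs hsq
    refine ⟨k, ⟨hk, ?_⟩, hkx⟩
    convert hk' using 1
    ext1 x
    simp [ν, hkx, hkx']
    ring
  have hg₁ : g ∈ G₁ := ⟨hg, by
    convert hg using 1
    ext1 x
    simp [ν, hgodd]⟩
  haveI := isPretransitive_of_aff haff₁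
  have hns₁ : ¬ Group.IsSolvable G₁ := by
    intro hsolv
    obtain ⟨τ, hτ₁, hτ⟩ := haff₁ 1 1 one_ne_zero IsSquare.one
    let P : Sylow p G₁ := default
    have hnormal := Agent.Perm.PrimeDeg.normal_sylow_of_isSolvable (ZMod.card p) hsolv P
    have hτo : orderOf (⟨τ, hτ₁⟩ : G₁) = p := by
      refine orderOf_eq_prime ?_ ?_
      · have hp : ∀ n : ℕ, ∀ x, (τ ^ n) x = x + n := by
          intro n
          induction n with
          | zero => simp
          | succ n ih => intro x; rw [pow_succ, Equiv.Perm.mul_apply, ih, hτ]; push_cast; ring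
        ext1
        rw [SubgroupClass.coe_pow]
        exact Equiv.ext fun x => by simp [hp]
      · intro h
        have h' := congrArg (fun k : G₁ => (k : Equiv.Perm (ZMod p)) 0) h
        simp [hτ] at h'
    have hPz : (P : Subgroup G₁) = Subgroup.zpowers ⟨τ, hτ₁⟩ := by
      haveI := Sylow.unique_of_normal P hnormal
      obtain ⟨Q, hQ⟩ := (IsPGroup.of_card (G := Subgroup.zpowers (⟨τ, hτ₁⟩ : G₁)) (n := 1)
        (by rw [Nat.card_zpowers, hτo, pow_one])).exists_le_sylow (p := p)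
      rw [Subsingleton.elim Q P] at hQ
      refine (Subgroup.eq_of_le_of_card_ge hQ ?_).symm
      rw [Nat.card_zpowers, hτo, Agent.Perm.PrimeDeg.card_sylow (ZMod.card p) P]
    have hmem : (⟨g, hg₁⟩ : G₁) * ⟨τ, hτ₁⟩ * (⟨g, hg₁⟩ : G₁)⁻¹ ∈
        Subgroup.zpowers (⟨τ, hτ₁⟩ : G₁) :=
      hPz ▸ hnormal.conj_mem _ (hPz.symm ▸ Subgroup.mem_zpowers _) _
    obtain ⟨j, hj⟩ := (isOfFinOrder_of_finite _).mem_powers_iff_mem_zpowers.mpr hmem
    have hx : ∀ x, g x = g 0 + (j : ZMod p) * x :=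
      Agent.Perm.PrimeDeg.conjPerm_add_one_of_normalizes (e := Equiv.refl (ZMod p))
        (τ := (⟨τ, hτ₁⟩ : G₁)) (g := ⟨g, hg₁⟩)
        (fun i => (hτ i).trans (by simp [add_comm])) hj.symm
    have hid : ∀ x, g x = x := fun x => by
      have := hx 1
      rw [h0, h1, zero_add, mul_one] at this
      rw [hx, h0, ← this, zero_add, one_mul]
    obtain ⟨s, hs⟩ : ∃ s : ZMod p, s ≠ 0 ∧ s ≠ 1 ∧ IsSquare s := by
      refine ⟨4, ?_, ?_, ⟨2, by norm_num⟩⟩
      · intro h
        have : ((4 : ℕ) : ZMod p) = 0 := by exact_mod_cast h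
        have := Nat.le_of_dvd (by norm_num) ((ZMod.natCast_eq_zero_iff _ _).mp this)
        omega
      · intro h
        have : ((4 : ℕ) : ZMod p) = ((1 : ℕ) : ZMod p) := by exact_mod_cast h
        have := congrArg ZMod.val this
        rw [ZMod.val_natCast, ZMod.val_natCast, Nat.mod_eq_of_lt (by omega),
          Nat.mod_eq_of_lt (by omega)] at this
        omega
    obtain ⟨hs0, hs1, hssq⟩ := hs
    have hse := hpow s 1 hs0 hssq
    rw [hid, hid, mul_one, mul_one] at hse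
    let u : (ZMod p)ˣ := Units.mk0 s hs0
    have hu : u ^ e = u ^ 1 := Units.ext (by simp [u, ← hse])
    have hord : orderOf u = q := by
      obtain ⟨v, hv⟩ := hssq
      haveI := Fact.mk hq
      refine orderOf_eq_prime ?_ (fun h => hs1 (congrArg Units.val h))
      apply Units.ext
      rw [Units.val_pow_eq_pow_val, Units.val_one, Units.val_mk0]
      have hq2 : p / 2 = q := by omega
      rw [← hq2]
      exact (ZMod.euler_criterion p hs0).mp ⟨v, hv⟩
    have hmodq := pow_eq_pow_iff_modEq.mp hu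
    rw [hord, ← ZMod.natCast_eq_natCast_iff] at hmodq
    exact he1 (by simpa using hmodq)
  have h3₁ : ¬ IsMultiplyPretransitive G₁ (ZMod p) 3 := fun h => h3
    (isMultiplyPretransitive_iff.mpr fun {x y} => by
      obtain ⟨⟨k, hk⟩, hkxy⟩ := isMultiplyPretransitive_iff.mp h (x := x) (y := y)
      exact ⟨⟨k, hG₁le hk⟩, hkxy⟩)
  obtain ⟨B, hBG, ⟨cB, hcB0, hcB1, hcB⟩, ⟨cN, hcN0, hcN1, hcN⟩, -, -, hBν⟩ :=
    exists_rel (by omega) hmod hns₁ haff₁ h3₁
  have hνB : ∀ x y w, B (-x) (-y) (-w) ↔ B x y w :=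
    hBν ν hν fun k hk => ⟨hk.2, by
      convert hk.1 using 1
      ext1 x
      simp [ν]⟩
  have haffB : ∀ a c x y w : ZMod p, a ≠ 0 →
      (B (c + a * x) (c + a * y) (c + a * w) ↔ B x y w) := by
    intro a c x y w ha
    rcases isSquare_or_neg hmod ha with h | h
    · obtain ⟨k, hk, hkx⟩ := haff₁ a c ha h
      rw [← hkx, ← hkx, ← hkx]
      exact hBG k hk x y w
    · obtain ⟨k, hk, hkx⟩ := haff₁ (-a) (-c) (neg_ne_zero.mpr ha) h
      have hk' : ∀ x, c + a * x = - k x := fun x => by rw [hkx]; ring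
      rw [hk', hk', hk', hνB]
      exact hBG k hk x y w
  let I : ZMod p → ZMod p → ZMod p → ZMod p := fun x y w => if B x y w then 1 else 0
  let k0 := ∑ c, I 0 1 c
  let s1 := ∑ c, I 0 1 c * c
  let W : Subrepresentation (Cfsg.permRep (ZMod p) G₁ (ZMod p)) :=
    { toSubmodule :=
        { carrier := {v | (∀ x y, x ≠ y → ∑ c, I x y c * v c = (k0 - s1) * v x + s1 * v y) ∧
            ∑ c, v c = 0}
          add_mem' := by
            rintro v w ⟨hv, hv'⟩ ⟨hw, hw'⟩
            refine ⟨fun x y hxy => ?_, ?_⟩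
            · simp only [Pi.add_apply, mul_add, Finset.sum_add_distrib, hv x y hxy, hw x y hxy]
              ring
            · simp only [Pi.add_apply, Finset.sum_add_distrib, hv', hw', add_zero]
          zero_mem' := ⟨fun x y _ => by simp, by simp⟩
          smul_mem' := by
            rintro r v ⟨hv, hv'⟩
            refine ⟨fun x y hxy => ?_, ?_⟩
            · simp only [Pi.smul_apply, smul_eq_mul, mul_left_comm _ r, ← Finset.mul_sum,
                hv x y hxy]
              ring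
            · simp only [Pi.smul_apply, smul_eq_mul, ← Finset.mul_sum, hv', mul_zero] }
      apply_mem_toSubmodule := by
        rintro ⟨k, hk⟩ v ⟨hv, hv'⟩
        refine ⟨fun x y hxy => ?_, ?_⟩
        · show ∑ c, I x y c * v (k⁻¹ c) = (k0 - s1) * v (k⁻¹ x) + s1 * v (k⁻¹ y)
          rw [← hv (k⁻¹ x) (k⁻¹ y) ((k⁻¹ : Equiv.Perm (ZMod p)).injective.ne hxy)]
          refine Fintype.sum_equiv k⁻¹ _ _ fun c => ?_
          simp only [I, hBG k⁻¹ (inv_mem hk) x y c]
        · show ∑ c, v (k⁻¹ c) = 0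
          rw [← hv']
          exact Fintype.sum_equiv k⁻¹ _ _ fun c => rfl }
  have hsub : ∀ a c : ZMod p, a ≠ 0 → ∀ f : ZMod p → ZMod p,
      ∑ w, f (c + a * w) = ∑ w, f w := fun a c ha f =>
    ((Equiv.mulLeft₀ a ha).trans (Equiv.addLeft c)).sum_comp f
  have hI : ∀ x y w : ZMod p, x ≠ y → I x y (x + (y - x) * w) = I 0 1 w := by
    intro x y w hxy
    have h := haffB (y - x) x 0 1 w (sub_ne_zero.mpr hxy.symm)
    rw [mul_zero, add_zero, mul_one, add_sub_cancel] at h
    simp only [I, h]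
  have hid_mem : (fun c : ZMod p => c) ∈ W.toSubmodule := by
    refine ⟨fun x y hxy => ?_, ?_⟩
    · rw [← hsub (y - x) x (sub_ne_zero.mpr hxy.symm) fun c => I x y c * c]
      simp only [hI x y _ hxy, mul_add, Finset.sum_add_distrib, ← Finset.sum_mul,
        mul_left_comm _ (y - x), ← Finset.mul_sum]
      ring
    · have h := hsub (-1) 0 (neg_ne_zero.mpr one_ne_zero) id
      simp only [id, zero_add, neg_mul, one_mul] at h
      have h2 : (2 : ZMod p) * ∑ c : ZMod p, c = 0 := by rw [two_mul]; nth_rw 1 [← h]; rw [Finset.sum_neg_distrib]; ring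
      refine (mul_eq_zero.mp h2).resolve_left fun h => ?_
      have : ((2 : ℕ) : ZMod p) = 0 := by exact_mod_cast h
      have := Nat.le_of_dvd (by norm_num) ((ZMod.natCast_eq_zero_iff _ _).mp this)
      omega
  have hconstW : (Cfsg.permConstants (ZMod p) G₁ (ZMod p)).toSubmodule ≤ W.toSubmodule := by
    intro v hv
    obtain ⟨r, rfl⟩ := (Agent.Perm.mem_permConstants_iff v).mp hv
    refine ⟨fun x y hxy => ?_, by simp [ZMod.card]⟩
    rw [← hsub (y - x) x (sub_ne_zero.mpr hxy.symm) fun c => I x y c * _]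
    simp only [hI x y _ hxy, ← Finset.sum_mul]
    ring
  obtain ⟨τ, hτ₁, hτ⟩ := haff₁ 1 1 one_ne_zero IsSquare.one
  have hW : W = Cfsg.permSumZero (ZMod p) G₁ (ZMod p) := by
    refine (Agent.Perm.PrimeDeg.heart_irreducible hns₁ (τ := (⟨τ, hτ₁⟩ : G₁))
      (e := Equiv.refl (ZMod p)) (fun i => (hτ i).trans (by simp [add_comm])) W hconstW
      fun v hv => hv.2).resolve_left fun h => ?_
    rw [h] at hid_mem
    obtain ⟨r, hr⟩ := (Agent.Perm.mem_permConstants_iff _).mp hid_mem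
    exact zero_ne_one ((congrFun hr 0).trans (congrFun hr 1).symm)
  have hv : Pi.single cB (1 : ZMod p) - Pi.single cN 1 ∈ W.toSubmodule := by
    rw [hW, Agent.Perm.mem_permSumZero_iff]
    simp
  have h := hv.1 0 1 zero_ne_one
  simp [mul_sub, Finset.sum_sub_distrib, Pi.single_apply, hcB0.symm, hcB1.symm, hcN0.symm,
    hcN1.symm, I, hcB, hcN] at h

end Main

end Cfsg.Agent.Half51
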