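import Cfsg.Agent.Half51.PermChar
import Cfsg.Agent.Half51.Ternary
import Cfsg.Agent.Half51.Basic

/-!
# Moments of fixed points and swapped points
-/

set_option autoImplicit false
set_option linter.style.haveILetI false
set_option linter.unusedSectionVars false

open MulAction

namespace Cfsg.Agent.Half51

theorem cast_descFactorial_two (n : ℕ) : ((n.descFactorial 2 : ℕ) : ℤ) = n * (n - 1) := by
  rcases n with _ | _ | n <;> simp [Nat.descFactorial] <;> ring

theorem cast_descFactorial_three (n : ℕ) :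
    ((n.descFactorial 3 : ℕ) : ℤ) = n * (n - 1) * (n - 2) := by
  rcases n with _ | _ | _ | n <;> simp [Nat.descFactorial] <;> ring

theorem cast_descFactorial_four (n : ℕ) :
    ((n.descFactorial 4 : ℕ) : ℤ) = n * (n - 1) * (n - 2) * (n - 3) := by
  rcases n with _ | _ | _ | _ | n <;> simp [Nat.descFactorial] <;> ring

variable {G : Type*} [Group G] [Fintype G] {Ω : Type*} [MulAction G Ω] [Fintype Ω] [DecidableEq Ω]

/-- Fixed points, in `ℤ`. -/
def fZ (Ω : Type*) [MulAction G Ω] [Fintype Ω] [DecidableEq Ω] (g : G) : ℤ := (fixNum Ω g : ℤ)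

/-- Swapped points, in `ℤ`. -/
def sZ (Ω : Type*) [MulAction G Ω] [Fintype Ω] [DecidableEq Ω] (g : G) : ℤ := (swp Ω g : ℤ)

/-- Fixed pairs minus fixed points. -/
def yZ (Ω : Type*) [MulAction G Ω] [Fintype Ω] [DecidableEq Ω] (g : G) : ℤ :=
  (fixNum (Pair Ω) g : ℤ) - (fixNum Ω g : ℤ)

theorem two_mul_yZ (g : G) : 2 * yZ Ω g = fZ Ω g * (fZ Ω g - 3) + sZ Ω g := by
  have h := two_mul_fixNum_pair (Ω := Ω) g
  have h' : (2 : ℤ) * fixNum (Pair Ω) g =
      ((fixNum Ω g).descFactorial 2 : ℕ) + (swp Ω g : ℤ) := by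
    rw [show ((fixNum Ω g).descFactorial 2) = fixNum Ω g * (fixNum Ω g - 1) by
      simp [Nat.descFactorial]; ring]
    exact_mod_cast h
  rw [cast_descFactorial_two] at h'
  simp only [yZ, fZ, sZ]
  linear_combination h'

theorem swp_mul_swp (g : G) : sZ Ω g * (sZ Ω g - 2) = ((swp Ω g * (swp Ω g - 2) : ℕ) : ℤ) := by
  rw [sZ]
  by_cases h : 2 ≤ swp Ω g
  · push_cast [Nat.cast_sub h]; ring
  · have h0 : swp Ω g = 0 := by
      by_contra hne
      obtain ⟨x, hx⟩ := Finset.card_pos.mp (Nat.pos_of_ne_zero hne)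
      obtain ⟨-, hx1, hx2⟩ := Finset.mem_filter.mp hx
      refine h (Finset.one_lt_card.mpr ⟨x, hx, g • x, ?_, Ne.symm hx1⟩)
      refine Finset.mem_filter.mpr ⟨Finset.mem_univ _, ?_, by rw [hx2]⟩
      rw [hx2]
      exact Ne.symm hx1
    simp [h0]

/-- Orbits of `n`-tuples. -/
noncomputable def orbN (G : Type*) [Group G] (Ω : Type*) [MulAction G Ω] (n : ℕ) : ℕ :=
  Nat.card (orbitRel.Quotient G (Fin n ↪ Ω))

theorem sum_descFactorial (n : ℕ) :
    ∑ g : G, (((fixNum Ω g).descFactorial n : ℕ) : ℤ) = orbN G Ω n * Fintype.card G := by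
  classical
  have h := sum_fixNum_eq (G := G) (X := Fin n ↪ Ω)
  simp only [fixNum_emb] at h
  exact_mod_cast h

/-- Total of `swp * f * (f - 1)`. -/
def sumSFF (G : Type*) [Group G] [Fintype G] (Ω : Type*) [MulAction G Ω] [Fintype Ω]
    [DecidableEq Ω] : ℤ := ∑ g : G, sZ Ω g * (fZ Ω g * (fZ Ω g - 1))

/-- Total of `swp * (swp - 2)`. -/
def sumSS (G : Type*) [Group G] [Fintype G] (Ω : Type*) [MulAction G Ω] [Fintype Ω]
    [DecidableEq Ω] : ℤ := ∑ g : G, sZ Ω g * (sZ Ω g - 2)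

theorem sumSS_le : sumSS G Ω ≤ orbN G Ω 4 * Fintype.card G := by
  classical
  rw [sumSS, ← sum_descFactorial]
  have h := sum_card_move_le (G := G) (X := Fin 4 ↪ Ω) (relab (Equiv.swap 0 1 * Equiv.swap 2 3))
  simp only [move_four_double, fixNum_emb] at h
  simp only [swp_mul_swp]
  exact_mod_cast h

theorem sumSFF_le : sumSFF G Ω ≤ orbN G Ω 4 * Fintype.card G := by
  classical
  have hc : ∀ g : G, sZ Ω g * (fZ Ω g * (fZ Ω g - 1)) =
      ((swp Ω g * (fixNum Ω g * (fixNum Ω g - 1)) : ℕ) : ℤ) := fun g => by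
    rw [sZ, fZ, Nat.cast_mul, ← cast_descFactorial_two]
    congr 2
    simp [Nat.descFactorial]; ring
  rw [sumSFF, ← sum_descFactorial]
  have h := sum_card_move_le (G := G) (X := Fin 4 ↪ Ω) (relab (Equiv.swap 0 1))
  simp only [move_four, fixNum_emb] at h
  simp only [hc]
  exact_mod_cast h

theorem orbN_eq_one [Nonempty Ω] {n : ℕ} (hn : n ≤ Fintype.card Ω)
    (h : IsMultiplyPretransitive G Ω n) : orbN G Ω n = 1 := by
  classical
  haveI : IsPretransitive G (Fin n ↪ Ω) := h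
  haveI : Nonempty (Fin n ↪ Ω) :=
    Function.Embedding.nonempty_of_card_le (by rwa [Fintype.card_fin])
  have := sum_fixNum_eq (G := G) (X := Fin n ↪ Ω)
  have h2 := sum_card_move (G := G) (X := Fin n ↪ Ω) id
  simp only [id, fixNum] at h2 this
  rw [h2] at this
  exact (Nat.eq_of_mul_eq_mul_right Fintype.card_pos (by rw [one_mul]; exact this.symm))

section Lin

variable (h1 : orbN G Ω 1 = 1) (h2 : orbN G Ω 2 = 1)

include h1

theorem sum_fZ : ∑ g : G, fZ Ω g = Fintype.card G := by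
  have h := sum_descFactorial (G := G) (Ω := Ω) 1
  rw [h1, Nat.cast_one, one_mul] at h
  simpa [fZ] using h

include h2

theorem sum_fZ_sq : ∑ g : G, fZ Ω g * (fZ Ω g - 1) = Fintype.card G := by
  have h := sum_descFactorial (G := G) (Ω := Ω) 2
  rw [h2, Nat.cast_one, one_mul] at h
  simp only [cast_descFactorial_two] at h
  exact h

theorem sum_sZ [IsPretransitive G (Fin 2 ↪ Ω)] [Nonempty (Fin 2 ↪ Ω)] :
    ∑ g : G, sZ Ω g = Fintype.card G := by
  classical
  have h := sum_card_move (G := G) (X := Fin 2 ↪ Ω) (relab (Equiv.swap 0 1))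
  simp only [move_two] at h
  simp only [sZ]
  exact_mod_cast h

end Lin


/-- The evaluations of the moments. -/
structure Vals (G : Type*) [Group G] [Fintype G] (Ω : Type*) [MulAction G Ω] [Fintype Ω]
    [DecidableEq Ω] (k : ℤ) : Prop where
  f1 : ∑ g : G, fZ Ω g = Fintype.card G
  f2 : ∑ g : G, fZ Ω g * (fZ Ω g - 1) = Fintype.card G
  f3 : ∑ g : G, fZ Ω g * (fZ Ω g - 1) * (fZ Ω g - 2) = k * Fintype.card G
  f4 : ∑ g : G, fZ Ω g * (fZ Ω g - 1) * (fZ Ω g - 2) * (fZ Ω g - 3) =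
    orbN G Ω 4 * Fintype.card G
  s1 : ∑ g : G, sZ Ω g = Fintype.card G
  sf : ∑ g : G, sZ Ω g * fZ Ω g = k * Fintype.card G

namespace Vals

variable {k : ℤ} (hV : Vals G Ω k)
include hV

theorem sum_one : ∑ _g : G, (1 : ℤ) = Fintype.card G := by simp

theorem sum_y : ∑ g : G, yZ Ω g = 0 := by
  have h : 2 * ∑ g : G, yZ Ω g = 0 := by
    rw [Finset.mul_sum, Finset.sum_congr rfl (g := fun g : G => fZ Ω g * (fZ Ω g - 1) + sZ Ω g
      - 2 * fZ Ω g) fun g _ => by rw [two_mul_yZ]; ring]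
    simp only [Finset.sum_sub_distrib, Finset.sum_add_distrib, ← Finset.mul_sum, hV.f1, hV.f2, hV.s1]
    ring
  omega

theorem sum_fy : ∑ g : G, fZ Ω g * yZ Ω g = (k - 1) * Fintype.card G := by
  have h : 2 * ∑ g : G, fZ Ω g * yZ Ω g = 2 * ((k - 1) * Fintype.card G) := by
    rw [Finset.mul_sum, Finset.sum_congr rfl (g := fun g : G => fZ Ω g * (fZ Ω g - 1) * (fZ Ω g - 2)
      + sZ Ω g * fZ Ω g - 2 * fZ Ω g) fun g _ => by
        linear_combination fZ Ω g * two_mul_yZ (Ω := Ω) g]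
    simp only [Finset.sum_sub_distrib, Finset.sum_add_distrib, ← Finset.mul_sum, hV.f1, hV.f3, hV.sf]
    ring
  omega

theorem sum_theta_sq : ∑ g : G, (fZ Ω g - 1) * (fZ Ω g - 1) = Fintype.card G := by
  rw [Finset.sum_congr rfl (g := fun g : G => fZ Ω g * (fZ Ω g - 1) - fZ Ω g + 1) fun g _ => by ring]
  simp only [Finset.sum_sub_distrib, Finset.sum_add_distrib, hV.f1, hV.f2, sum_one hV]
  ring

theorem sum_sq_y : 2 * ∑ g : G, (fZ Ω g - 1) * (fZ Ω g - 1) * yZ Ω g =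
    orbN G Ω 4 * Fintype.card G + sumSFF G Ω := by
  rw [Finset.mul_sum, Finset.sum_congr rfl (g := fun g : G =>
    fZ Ω g * (fZ Ω g - 1) * (fZ Ω g - 2) * (fZ Ω g - 3) + fZ Ω g * (fZ Ω g - 1) * (fZ Ω g - 2)
      - fZ Ω g * (fZ Ω g - 1) + sZ Ω g * (fZ Ω g * (fZ Ω g - 1)) - sZ Ω g * fZ Ω g + sZ Ω g)
    fun g _ => by linear_combination (fZ Ω g - 1) * (fZ Ω g - 1) * two_mul_yZ (Ω := Ω) g]
  simp only [Finset.sum_sub_distrib, Finset.sum_add_distrib, hV.f2, hV.f3, hV.f4, hV.s1, hV.sf,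
    sumSFF]
  ring

theorem sum_y_sq : 4 * ∑ g : G, yZ Ω g * yZ Ω g =
    orbN G Ω 4 * Fintype.card G + 2 * sumSFF G Ω + sumSS G Ω
      + (4 - 4 * k) * Fintype.card G := by
  rw [Finset.mul_sum, Finset.sum_congr rfl (g := fun g : G =>
    fZ Ω g * (fZ Ω g - 1) * (fZ Ω g - 2) * (fZ Ω g - 3) - 2 * (fZ Ω g * (fZ Ω g - 1))
      + 4 * fZ Ω g + 2 * (sZ Ω g * (fZ Ω g * (fZ Ω g - 1))) - 4 * (sZ Ω g * fZ Ω g)
      + sZ Ω g * (sZ Ω g - 2) + 2 * sZ Ω g)
    fun g _ => by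
      linear_combination (2 * yZ Ω g + fZ Ω g * (fZ Ω g - 3) + sZ Ω g) * two_mul_yZ (Ω := Ω) g]
  simp only [Finset.sum_sub_distrib, Finset.sum_add_distrib, ← Finset.mul_sum, hV.f1, hV.f2, hV.f4,
    hV.s1, hV.sf, sumSFF, sumSS]
  ring

theorem sum_swp_theta : ∑ g : G, sZ Ω g * ((fZ Ω g - 1) * (fZ Ω g - 2)) =
    sumSFF G Ω + (2 - 2 * k) * Fintype.card G := by
  rw [Finset.sum_congr rfl (g := fun g : G => sZ Ω g * (fZ Ω g * (fZ Ω g - 1))
    - 2 * (sZ Ω g * fZ Ω g) + 2 * sZ Ω g) fun g _ => by ring]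
  simp only [Finset.sum_sub_distrib, Finset.sum_add_distrib, ← Finset.mul_sum, hV.s1, hV.sf, sumSFF]
  ring

theorem sum_pair_sq : ∑ g : G, (fZ Ω g * (fZ Ω g - 1)) * (fZ Ω g * (fZ Ω g - 1)) =
    (orbN G Ω 4 + 4 * k + 2) * Fintype.card G := by
  rw [Finset.sum_congr rfl (g := fun g : G =>
    fZ Ω g * (fZ Ω g - 1) * (fZ Ω g - 2) * (fZ Ω g - 3)
      + 4 * (fZ Ω g * (fZ Ω g - 1) * (fZ Ω g - 2)) + 2 * (fZ Ω g * (fZ Ω g - 1))) fun g _ => by ring]
  simp only [Finset.sum_add_distrib, ← Finset.mul_sum, hV.f2, hV.f3, hV.f4]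
  ring

end Vals

theorem card_le_sumSFF (v : Fin 4 ↪ Ω) (g₀ : G) (hg : g₀ • v = relab (Equiv.swap 0 1) v) :
    (Fintype.card G : ℤ) ≤ sumSFF G Ω := by
  classical
  let O := MulAction.orbit G v
  haveI : Nonempty O := ⟨⟨v, MulAction.mem_orbit_self v⟩⟩
  let τ : O → O := fun w => ⟨relab (Equiv.swap 0 1) w.1, by
    obtain ⟨a, ha⟩ := w.2
    exact ⟨a * g₀, by show (a * g₀) • v = _; rw [mul_smul, hg, ← ha]; rfl⟩⟩
  have h1 := sum_card_move (G := G) τ
  have h2 : ∀ g : G, (Finset.univ.filter fun w : O => g • w = τ w).card ≤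
      swp Ω g * (fixNum Ω g * (fixNum Ω g - 1)) := by
    intro g
    rw [← move_four]
    refine Finset.card_le_card_of_injOn Subtype.val (fun w hw => ?_)
      (fun a _ b _ h => Subtype.ext h)
    have hw' := (Finset.mem_filter.mp hw).2
    exact Finset.mem_filter.mpr ⟨Finset.mem_univ _, congrArg Subtype.val hw'⟩
  have h3 : Fintype.card G ≤ ∑ g : G, swp Ω g * (fixNum Ω g * (fixNum Ω g - 1)) :=
    h1.symm.le.trans (Finset.sum_le_sum fun g _ => h2 g)
  have h4 : sumSFF G Ω = ((∑ g : G, swp Ω g * (fixNum Ω g * (fixNum Ω g - 1)) : ℕ) : ℤ) := by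
    rw [sumSFF, Nat.cast_sum]
    refine Finset.sum_congr rfl fun g _ => ?_
    rw [sZ, fZ, Nat.cast_mul, ← cast_descFactorial_two]
    congr 2
    simp [Nat.descFactorial]; ring
  rw [h4]
  exact_mod_cast h3

/-- Move totals when every twist is realized. -/
theorem sum_card_move_eq {X : Type*} [MulAction G X] [Fintype X] [DecidableEq X] (τ : X → X)
    (hτ : ∀ v : X, ∃ g : G, g • v = τ v) :
    ∑ g : G, (Finset.univ.filter fun v : X => g • v = τ v).card = ∑ g : G, fixNum X g := by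
  classical
  simp only [fixNum, Finset.card_filter]
  rw [Finset.sum_comm, Finset.sum_comm (f := fun (g : G) (v : X) => if g • v = v then 1 else 0)]
  refine Finset.sum_congr rfl fun v _ => ?_
  rw [← Finset.card_filter, ← Finset.card_filter]
  refine le_antisymm (card_filter_smul_le v (τ v)) ?_
  obtain ⟨g₀, hg₀⟩ := hτ v
  refine Finset.card_le_card_of_injOn (fun g => g₀ * g) (fun g hg => ?_)
    (fun a _ b _ h => mul_left_cancel h)
  simp only [Finset.coe_filter, Finset.mem_univ, true_and, Set.mem_ofPred_eq] at hg ⊢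
  rw [mul_smul, hg, hg₀]

end Cfsg.Agent.Half51
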