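import Cfsg.Agent.Half51.Basic
import Cfsg.Agent.Lib.SmallGroups.SelfCent.Structure
import Mathlib.GroupTheory.Transfer
import Mathlib.GroupTheory.Perm.Option

/-!
# The subgroup of multiplications by squares: centralizer and normalizer
-/

set_option autoImplicit false
set_option linter.style.haveILetI false
set_option linter.unusedSectionVars false

open MulAction

namespace Cfsg.Agent.Half51

variable {p q : ℕ} [hp : Fact p.Prime] [hqf : Fact q.Prime] {G : Subgroup (Equiv.Perm (ZMod p))}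

namespace Setup

variable (hS : Setup p q G)
include hS

theorem exists_mul (i : ZMod q) : ∃ g : G, ∀ x, (g : Equiv.Perm (ZMod p)) x = hS.sq i * x := by
  obtain ⟨g, hg, hgx⟩ := hS.exists_aff (hS.sq i) 0 (hS.sq_ne_zero i) (hS.isSquare_sq i)
  exact ⟨⟨g, hg⟩, fun x => by show g x = _; rw [hgx, zero_add]⟩

/-- Multiplication by `omega`. -/
noncomputable def cyc : G := (hS.exists_mul 1).choose

theorem cyc_apply (x : ZMod p) : (hS.cyc : Equiv.Perm (ZMod p)) x = hS.omega * x := by
  rw [← hS.sq_one]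
  exact (hS.exists_mul 1).choose_spec x

theorem cyc_pow_apply (n : ℕ) (x : ZMod p) :
    ((hS.cyc ^ n : G) : Equiv.Perm (ZMod p)) x = hS.omega ^ n * x := by
  induction n with
  | zero => simp
  | succ n ih => rw [pow_succ', Subgroup.coe_mul, Equiv.Perm.mul_apply, ih, hS.cyc_apply]; ring

theorem orderOf_cyc : orderOf hS.cyc = q := by
  refine orderOf_eq_prime (Subtype.ext (Equiv.ext fun x => ?_)) fun h => ?_
  · rw [hS.cyc_pow_apply, hS.omega_pow_q, one_mul]; rfl
  · have h1 := hS.cyc_apply 1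
    rw [h, Subgroup.coe_one, Equiv.Perm.one_apply, mul_one] at h1
    have h2 := hS.orderOf_omega
    rw [← h1, orderOf_one] at h2
    exact hS.prime_q.ne_one h2.symm

/-- `g` conjugates multiplication by squares to their `e`-th powers. -/
def Nrm (g : Equiv.Perm (ZMod p)) (e : ZMod q) : Prop :=
  g 0 = 0 ∧ ∀ i x, g (hS.sq i * x) = hS.sq (e * i) * g x

theorem nrm_of_conj {g : G} {k : ℕ} (hk : (k : ZMod q) ≠ 0)
    (h : g * hS.cyc * g⁻¹ = hS.cyc ^ k) : hS.Nrm (g : Equiv.Perm (ZMod p)) k := by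
  have h1 : ∀ n, g * hS.cyc ^ n = hS.cyc ^ (k * n) * g := fun n => by
    rw [pow_mul, ← h, conj_pow, inv_mul_cancel_right]
  have h2 : ∀ n x, (g : Equiv.Perm (ZMod p)) (hS.omega ^ n * x) =
      hS.omega ^ (k * n) * (g : Equiv.Perm (ZMod p)) x := fun n x => by
    have h3 := congrArg (fun a : G => (a : Equiv.Perm (ZMod p)) x) (h1 n)
    simpa only [Subgroup.coe_mul, Equiv.Perm.mul_apply, hS.cyc_pow_apply] using h3
  refine ⟨?_, fun i x => ?_⟩
  · have h3 := h2 1 0
    rw [mul_zero, mul_one] at h3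
    by_contra h0
    have h4 : hS.omega ^ k = 1 := mul_right_cancel₀ h0 (by rw [one_mul]; exact h3.symm)
    have h5 := orderOf_dvd_of_pow_eq_one h4
    rw [hS.orderOf_omega] at h5
    exact hk ((ZMod.natCast_eq_zero_iff _ _).mpr h5)
  · show (g : Equiv.Perm (ZMod p)) (hS.omega ^ i.val * x) = _
    rw [h2, ← hS.sq_natCast, Nat.cast_mul, ZMod.natCast_zmod_val]

theorem sign_eq_one_of_coords {h : Equiv.Perm (ZMod p)} {e a b : ZMod q} (he : e ≠ 0) (h0 : h 0 = 0)
    (h1 : ∀ i, h (hS.sq i) = hS.sq (a + e * i)) (h2 : ∀ i, h (-hS.sq i) = -hS.sq (b + e * i)) :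
    Equiv.Perm.sign h = 1 := by
  classical
  haveI : NeZero q := ⟨hS.qpos.ne'⟩
  let A : ZMod q → Equiv.Perm (ZMod q) := fun c => (Equiv.mulLeft₀ e he).trans (Equiv.addLeft c)
  have hA : ∀ c, Equiv.Perm.sign (A c) = Equiv.Perm.sign (Equiv.mulLeft₀ e he) := by
    intro c
    have h3' : ∀ (n : ℕ) (x : ZMod q),
        ((Equiv.addLeft c : Equiv.Perm (ZMod q)) ^ n) x = (n : ZMod q) * c + x := by
      intro n
      induction n with
      | zero => intro x; simp
      | succ n ih =>
        intro x; rw [pow_succ', Equiv.Perm.mul_apply, ih, Equiv.coe_addLeft]; push_cast; ring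
    have h3 : (Equiv.addLeft c : Equiv.Perm (ZMod q)) ^ q = 1 := by
      ext x
      rw [h3', ZMod.natCast_self, zero_mul, zero_add]; rfl
    have h4 : Equiv.Perm.sign (Equiv.addLeft c : Equiv.Perm (ZMod q)) = 1 := by
      have h5 := congrArg Equiv.Perm.sign h3
      rw [map_pow, map_one] at h5
      rcases Int.units_eq_one_or (Equiv.Perm.sign (Equiv.addLeft c : Equiv.Perm (ZMod q))) with h6 | h6
      · exact h6
      · rw [h6, hS.q_odd.neg_one_pow] at h5
        exact absurd h5 (by decide)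
    show Equiv.Perm.sign ((Equiv.mulLeft₀ e he).trans (Equiv.addLeft c)) = _
    rw [Equiv.Perm.sign_trans, h4, one_mul]
  have key : h = hS.ptEquiv.permCongr ((Equiv.Perm.sumCongr (A a) (A b)).optionCongr) := by
    ext x
    obtain ⟨y, rfl⟩ := hS.ptEquiv.surjective x
    rw [Equiv.permCongr_apply, Equiv.symm_apply_apply]
    rcases y with _ | i | i
    · exact h0
    · exact h1 i
    · exact h2 i
  rw [key, Equiv.Perm.sign_permCongr, Equiv.optionCongr_sign, Equiv.Perm.sign_sumCongr, hA, hA,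
    Int.units_mul_self]

theorem sign_neg : Equiv.Perm.sign (Equiv.neg (ZMod p)) = -1 := by
  classical
  haveI : NeZero q := ⟨hS.qpos.ne'⟩
  let s : Equiv.Perm (ZMod q ⊕ ZMod q) := Equiv.sumComm _ _
  have key : Equiv.neg (ZMod p) = hS.ptEquiv.permCongr s.optionCongr := by
    ext x
    obtain ⟨y, rfl⟩ := hS.ptEquiv.surjective x
    rw [Equiv.permCongr_apply, Equiv.symm_apply_apply]
    rcases y with _ | i | i
    · exact neg_zero
    · rfl
    · exact neg_neg _
  rw [key, Equiv.Perm.sign_permCongr, Equiv.optionCongr_sign]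
  have hs : s * s = 1 := by ext (x | x) <;> rfl
  haveI : IsEmpty (Function.fixedPoints s) := ⟨fun ⟨x, hx⟩ => by
    rcases x with x | x <;> simp [s, Function.mem_fixedPoints, Function.IsFixedPt] at hx⟩
  rw [Equiv.Perm.sign_of_pow_two_eq_one (by rw [pow_two]; exact hs), Fintype.card_eq_zero (α := Function.fixedPoints s),
    Nat.sub_zero, Fintype.card_sum, ZMod.card, ← two_mul, Nat.mul_div_cancel_left _ (by norm_num),
    hS.q_odd.neg_one_pow]

theorem coords {g : Equiv.Perm (ZMod p)} (hg : g ∈ G) {e : ZMod q} (he : e ≠ 0)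
    (hn : hS.Nrm g e) :
    ∃ a b, ∀ i, g (hS.sq i) = hS.sq (a + e * i) ∧ g (-hS.sq i) = -hS.sq (b + e * i) := by
  obtain ⟨h0, hmul⟩ := hn
  have hA : ∀ i, g (hS.sq i) = hS.sq (e * i) * g 1 := fun i => by rw [← hmul, mul_one]
  have hB : ∀ i, g (-hS.sq i) = hS.sq (e * i) * g (-1) := fun i => by rw [← hmul, mul_neg, mul_one]
  have hne : ∀ x, x ≠ 0 → g x ≠ 0 := fun x hx h => hx (g.injective (by rw [h, h0]))
  have hinj : ∀ i j, g (hS.sq i) ≠ g (-hS.sq j) := fun i j h => hS.sq_ne_neg_sq i j (g.injective h)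
  rcases hS.exists_sq_or_neg (hne 1 one_ne_zero) with ⟨a, ha⟩ | ⟨a, ha⟩
  · rcases hS.exists_sq_or_neg (hne (-1) (neg_ne_zero.mpr one_ne_zero)) with ⟨b, hb⟩ | ⟨b, hb⟩
    · exfalso
      refine hinj ((b - a) * e⁻¹) 0 ?_
      rw [hA, hB, mul_zero, hS.sq_zero, one_mul, ha, hb, ← hS.sq_add]
      congr 1
      rw [mul_comm (b - a), ← mul_assoc, mul_inv_cancel₀ he, one_mul, sub_add_cancel]
    · exact ⟨a, b, fun i => ⟨by rw [hA, ha, ← hS.sq_add, add_comm],
        by rw [hB, hb, mul_neg, ← hS.sq_add, add_comm]⟩⟩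
  · rcases hS.exists_sq_or_neg (hne (-1) (neg_ne_zero.mpr one_ne_zero)) with ⟨b, hb⟩ | ⟨b, hb⟩
    · exfalso
      let h : Equiv.Perm (ZMod p) := Equiv.neg (ZMod p) * g
      have h1 : Equiv.Perm.sign h = 1 := by
        refine hS.sign_eq_one_of_coords (a := a) (b := b) he ?_ (fun i => ?_) fun i => ?_
        · show -g 0 = 0
          rw [h0, neg_zero]
        · show -g (hS.sq i) = _
          rw [hA, ha, mul_neg, neg_neg, ← hS.sq_add, add_comm]
        · show -g (-hS.sq i) = _
          rw [hB, hb, ← hS.sq_add, add_comm]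
      rw [map_mul, hS.sign_neg, hS.sign_eq_one hg] at h1
      exact absurd h1 (by decide)
    · exfalso
      refine hinj ((b - a) * e⁻¹) 0 ?_
      rw [hA, hB, mul_zero, hS.sq_zero, one_mul, ha, hb, mul_neg, ← hS.sq_add]
      congr 2
      rw [mul_comm (b - a), ← mul_assoc, mul_inv_cancel₀ he, one_mul, sub_add_cancel]

theorem eq_cyc_pow_of_comm {g : G} (h : g * hS.cyc = hS.cyc * g) :
    g ∈ Subgroup.zpowers hS.cyc := by
  classical
  haveI : NeZero q := ⟨hS.qpos.ne'⟩
  have hn : hS.Nrm (g : Equiv.Perm (ZMod p)) 1 := by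
    have := hS.nrm_of_conj (g := g) (k := 1) (by simp) (by rw [pow_one, h, mul_inv_cancel_right])
    simpa using this
  obtain ⟨a, b, hab⟩ := hS.coords g.2 one_ne_zero hn
  simp only [one_mul] at hab
  let h' : G := hS.cyc ^ (-a).val * g
  have h0 : (h' : Equiv.Perm (ZMod p)) 0 = 0 := by
    rw [Subgroup.coe_mul, Equiv.Perm.mul_apply, hn.1, hS.cyc_pow_apply, mul_zero]
  have h1 : ∀ i, (h' : Equiv.Perm (ZMod p)) (hS.sq i) = hS.sq i := fun i => by
    rw [Subgroup.coe_mul, Equiv.Perm.mul_apply, (hab i).1, hS.cyc_pow_apply,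
      show hS.omega ^ (-a).val = hS.sq (-a) from rfl, ← hS.sq_add, neg_add_cancel_left]
  have h2 : ∀ i, (h' : Equiv.Perm (ZMod p)) (-hS.sq i) = -hS.sq (b - a + i) := fun i => by
    rw [Subgroup.coe_mul, Equiv.Perm.mul_apply, (hab i).2, hS.cyc_pow_apply,
      show hS.omega ^ (-a).val = hS.sq (-a) from rfl, mul_neg, ← hS.sq_add]
    congr 2; ring
  by_cases hba : b = a
  · have he : h' = 1 := by
      apply Subtype.ext; apply Equiv.ext
      intro x
      refine hS.pt_cases (P := fun x => (h' : Equiv.Perm (ZMod p)) x = x) h0 h1 (fun i => ?_) x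
      rw [h2, hba, sub_self, zero_add]
    rw [eq_inv_of_mul_eq_one_right he]
    exact inv_mem (Subgroup.pow_mem _ (Subgroup.mem_zpowers _) _)
  · exfalso
    set t : Equiv.Perm (ZMod p) := (h' : Equiv.Perm (ZMod p)) with ht
    have hpow : ∀ (n : ℕ) i, (t ^ n) (-hS.sq i) = -hS.sq ((n : ZMod q) * (b - a) + i) := by
      intro n
      induction n with
      | zero => intro i; simp
      | succ n ih =>
        intro i; rw [pow_succ', Equiv.Perm.mul_apply, ih, h2]; congr 2; push_cast; ring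
    have hord : orderOf t = q := by
      refine orderOf_eq_prime (Equiv.ext ?_) fun he => ?_
      · intro x
        refine hS.pt_cases (P := fun x => (t ^ q) x = x) ?_ (fun i => ?_) (fun i => ?_) x
        · exact Function.IsFixedPt.perm_pow h0 q
        · exact Function.IsFixedPt.perm_pow (h1 i) q
        · show (t ^ q) (-hS.sq i) = -hS.sq i
          rw [hpow, ZMod.natCast_self, zero_mul, zero_add]
      · have h3 := h2 0
        rw [he, Equiv.Perm.one_apply, add_zero] at h3
        exact hba (sub_eq_zero.mp (hS.sq_inj (neg_injective h3)).symm)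
    have hsupp : t.support = Finset.univ.image fun i : ZMod q => -hS.sq i := by
      ext x
      refine hS.pt_cases (P := fun x => x ∈ t.support ↔ x ∈ Finset.univ.image fun i : ZMod q => -hS.sq i)
        ?_ (fun i => ?_) (fun i => ?_) x
      · simp only [Equiv.Perm.mem_support, h0, ne_eq, not_true, Finset.mem_image,
          Finset.mem_univ, true_and, false_iff, not_exists]
        exact fun i => neg_ne_zero.mpr (hS.sq_ne_zero i)
      · simp only [Equiv.Perm.mem_support, h1, ne_eq, not_true, Finset.mem_image,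
          Finset.mem_univ, true_and, false_iff, not_exists]
        exact fun j hj => hS.sq_ne_neg_sq i j hj.symm
      · simp only [Equiv.Perm.mem_support, h2, ne_eq, Finset.mem_image, Finset.mem_univ,
          true_and, exists_apply_eq_apply, iff_true]
        intro h3
        have h4 := hS.sq_inj (neg_injective h3)
        exact hba (sub_eq_zero.mp (by linear_combination h4))
    have hcard : t.support.card = q := by
      rw [hsupp, Finset.card_image_of_injective _ (fun i j hij => hS.sq_inj (neg_injective hij)),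
        Finset.card_univ, ZMod.card]
    exact hS.no_q_cycle h'.2 (Equiv.Perm.isCycle_of_prime_order (by rw [hord]; exact hS.prime_q)
      (by rw [hord, hcard]; have := hS.qpos; omega)) hcard

theorem centralizer_cyc : Subgroup.centralizer ({hS.cyc} : Set G) = Subgroup.zpowers hS.cyc := by
  refine le_antisymm (fun g hg => hS.eq_cyc_pow_of_comm ?_) (Subgroup.zpowers_le.mpr ?_)
  · exact Subgroup.mem_centralizer_singleton_iff.mp hg
  · exact Subgroup.mem_centralizer_singleton_iff.mpr rfl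

/-- The self-centralizing element of order `q`. -/
noncomputable def qs : SmallGroups.SelfCent.Setup G q where
  z := hS.cyc
  K := ⊥
  orderOf_z := hS.orderOf_cyc
  comm w hw := by rw [Subgroup.mem_bot.mp hw, one_mul, mul_one]
  not_dvd := by rw [Subgroup.card_bot]; exact hS.prime_q.not_dvd_one
  card_cent := by rw [Subgroup.card_bot, mul_one, hS.centralizer_cyc, Nat.card_zpowers, hS.orderOf_cyc]

theorem zpowers_cyc_sylow : ∃ Q : Sylow q G, (Q : Subgroup G) = Subgroup.zpowers hS.cyc := by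
  obtain ⟨Q, hQ⟩ := (IsPGroup.of_card (n := 1) (p := q)
    (by rw [pow_one, Nat.card_zpowers, hS.orderOf_cyc])).exists_le_sylow
      (P := Subgroup.zpowers hS.cyc)
  refine ⟨Q, le_antisymm ?_ hQ⟩
  haveI : Nontrivial (Q : Subgroup G) := by
    refine ⟨⟨⟨hS.cyc, hQ (Subgroup.mem_zpowers _)⟩, 1, fun h => ?_⟩⟩
    have h1 : hS.cyc = 1 := congrArg Subtype.val h
    have h2 := hS.orderOf_cyc
    rw [h1, orderOf_one] at h2
    exact hS.prime_q.ne_one h2.symm
  haveI := Q.2.center_nontrivial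
  obtain ⟨⟨z, hz⟩, hz1⟩ := exists_ne (1 : Subgroup.center (Q : Subgroup G))
  have hzc : (z : G) ∈ Subgroup.zpowers hS.cyc := by
    rw [← hS.centralizer_cyc, Subgroup.mem_centralizer_singleton_iff]
    exact congrArg Subtype.val (Subgroup.mem_center_iff.mp hz ⟨hS.cyc, hQ (Subgroup.mem_zpowers _)⟩).symm
  have hz1' : (z : G) ≠ 1 := fun h => hz1 (Subtype.ext (Subtype.ext h))
  have hgen : Subgroup.zpowers (z : G) = Subgroup.zpowers hS.cyc := by
    refine Subgroup.eq_of_le_of_card_ge (Subgroup.zpowers_le.mpr hzc) ?_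
    have hd := Subgroup.orderOf_dvd_natCard _ hzc
    rw [Nat.card_zpowers, hS.orderOf_cyc] at hd ⊢
    rw [Nat.card_zpowers]
    rcases hS.prime_q.eq_one_or_self_of_dvd _ hd with h | h
    · exact absurd (orderOf_eq_one_iff.mp h) hz1'
    · exact h.ge
  intro x hx
  rw [← hS.centralizer_cyc, Subgroup.mem_centralizer_singleton_iff]
  have hcom : Commute (z : G) x :=
    (congrArg Subtype.val (Subgroup.mem_center_iff.mp hz ⟨x, hx⟩)).symm
  obtain ⟨k, hk⟩ := Subgroup.mem_zpowers_iff.mp (hgen.ge (Subgroup.mem_zpowers hS.cyc))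
  rw [← hk]
  exact (hcom.zpow_left k).symm.eq

theorem not_dvd_index : ¬ q ∣ (Subgroup.zpowers hS.cyc).index := by
  obtain ⟨Q, hQ⟩ := hS.zpowers_cyc_sylow
  rw [← hQ]
  exact Q.not_dvd_index

theorem nrm_of_auto {e : (ZMod q)ˣ} (he : e ∈ hS.qs.auto) :
    ∃ g : G, hS.Nrm (g : Equiv.Perm (ZMod p)) (e : ZMod q) := by
  haveI : NeZero q := ⟨hS.qpos.ne'⟩
  obtain ⟨g, hg⟩ := isConj_iff.mp ((hS.qs.mem_auto_iff e).mp he)
  refine ⟨g, ?_⟩
  have := hS.nrm_of_conj (g := g) (k := (e : ZMod q).val)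
    (by rw [ZMod.natCast_zmod_val]; exact e.ne_zero) hg
  rwa [ZMod.natCast_zmod_val] at this

/-- Burnside: the normalizer of the multiplications is bigger than them. -/
theorem one_lt_card_auto : 1 < Nat.card hS.qs.auto := by
  classical
  by_contra hle
  have hbot : hS.qs.auto = ⊥ := Subgroup.eq_bot_of_card_le _ (not_lt.mp hle)
  obtain ⟨Q, hQ⟩ := hS.zpowers_cyc_sylow
  have hNC : Subgroup.normalizer ((Q : Subgroup G) : Set G) ≤
      Subgroup.centralizer ((Q : Subgroup G) : Set G) := by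
    intro g hg
    have h1 : g * hS.cyc * g⁻¹ ∈ Subgroup.zpowers hS.cyc := by
      rw [← hQ]
      exact (Subgroup.mem_normalizer_iff.mp hg _).mp (by rw [hQ]; exact Subgroup.mem_zpowers _)
    obtain ⟨k, hk⟩ := ((isOfFinOrder_of_finite _).mem_powers_iff_mem_zpowers).mpr h1
    have hk : hS.cyc ^ k = g * hS.cyc * g⁻¹ := hk
    have hk0 : (k : ZMod q) ≠ 0 := by
      intro h0
      rw [ZMod.natCast_eq_zero_iff, ← hS.orderOf_cyc, orderOf_dvd_iff_pow_eq_one, hk,
        conj_eq_one_iff] at h0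
      have := hS.orderOf_cyc
      rw [h0, orderOf_one] at this
      exact hS.prime_q.ne_one this.symm
    have hmem : Units.mk0 (k : ZMod q) hk0 ∈ hS.qs.auto := by
      rw [hS.qs.mem_auto_iff, Units.val_mk0, hS.qs.zp_natCast]
      exact isConj_iff.mpr ⟨g, hk.symm⟩
    rw [hbot, Subgroup.mem_bot, Units.ext_iff, Units.val_mk0, Units.val_one] at hmem
    have hk1 : hS.cyc ^ k = hS.cyc := by
      have h2 := hS.qs.zp_natCast k
      rw [hmem, hS.qs.zp_one] at h2
      exact h2.symm
    refine Subgroup.mem_centralizer_iff.mpr fun y hy => ?_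
    rw [SetLike.mem_coe, hQ] at hy
    obtain ⟨j, rfl⟩ := Subgroup.mem_zpowers_iff.mp hy
    have hc : Commute hS.cyc g := by
      rw [hk1] at hk
      exact (mul_inv_eq_iff_eq_mul.mp hk.symm).symm
    exact (hc.zpow_left j).eq
  have hcompl := MonoidHom.ker_transferSylow_isComplement' Q hNC
  haveI := hS.isSimpleGroup
  rcases IsSimpleGroup.eq_bot_or_eq_top_of_normal (MonoidHom.transferSylow Q hNC).ker inferInstance
    with h | h
  · rw [h, Subgroup.isComplement'_bot_left] at hcompl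
    refine hS.not_solvable ?_
    haveI : IsCyclic (Q : Subgroup G) := by rw [hQ]; infer_instance
    have htop : Subgroup.zpowers hS.cyc = ⊤ := hQ ▸ hcompl
    haveI : IsCyclic G := ⟨⟨hS.cyc, fun x => htop.ge (Subgroup.mem_top x)⟩⟩
    letI : CommGroup G := IsCyclic.commGroup
    infer_instance
  · rw [h, Subgroup.isComplement'_top_left] at hcompl
    have : Subgroup.zpowers hS.cyc = ⊥ := hQ ▸ hcompl
    rw [Subgroup.zpowers_eq_bot] at this
    have h2 := hS.orderOf_cyc
    rw [this, orderOf_one] at h2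
    exact hS.prime_q.ne_one h2.symm

/-- Every automiser element is induced by a permutation fixing three points in coordinates. -/
theorem exists_delta {e : (ZMod q)ˣ} (he : e ∈ hS.qs.auto) (he1 : (e : ZMod q) ≠ 1) :
    ∃ (g : Equiv.Perm (ZMod p)) (a : ZMod q), g ∈ G ∧ g 0 = 0 ∧
      (∀ i, g (hS.sq i) = hS.sq ((e : ZMod q) * i)) ∧
      (∀ i, g (-hS.sq (a + i)) = -hS.sq (a + (e : ZMod q) * i)) ∧
      hS.Nrm g (e : ZMod q) := by
  haveI : NeZero q := ⟨hS.qpos.ne'⟩
  obtain ⟨g, hn⟩ := hS.nrm_of_auto he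
  obtain ⟨a, b, hab⟩ := hS.coords g.2 e.ne_zero hn
  let h : G := hS.cyc ^ (-a).val * g
  have hval : ∀ x, (h : Equiv.Perm (ZMod p)) x = hS.sq (-a) * (g : Equiv.Perm (ZMod p)) x := fun x => by
    rw [Subgroup.coe_mul, Equiv.Perm.mul_apply, hS.cyc_pow_apply]; rfl
  have he1' : (1 : ZMod q) - e ≠ 0 := sub_ne_zero.mpr (Ne.symm he1)
  refine ⟨h, (b - a) * (1 - (e : ZMod q))⁻¹, h.2, ?_, fun i => ?_, fun i => ?_, ?_, fun i x => ?_⟩
  · rw [hval, hn.1, mul_zero]
  · rw [hval, (hab i).1, ← hS.sq_add, neg_add_cancel_left]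
  · rw [hval, (hab _).2, mul_neg, ← hS.sq_add]
    congr 2
    field_simp
    ring
  · rw [hval, hn.1, mul_zero]
  · rw [hval, hval, hn.2]; ring

end Setup

end Cfsg.Agent.Half51
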