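import Mathlib.GroupTheory.GroupAction.MultipleTransitivity
import Mathlib.Data.Finset.Prod
import Mathlib.Combinatorics.Enumerative.DoubleCounting
import Mathlib.Logic.Equiv.Fin.Basic
import Mathlib.Tactic.Ring
import Mathlib.Tactic.FinCases

/-!
# Orbit counting for triply transitive groups

A triply transitive group with a suitable involution and transitive pair stabilisers on pairs is
4-fold transitive, and the number of fixed points of a nontrivial element is bounded by the size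
of a suborbit of pairs.
-/

set_option autoImplicit false

namespace Cfsg.Agent.Half51

open MulAction

section

variable {G Ω : Type*} [Group G] [MulAction G Ω]

theorem exists_map_triple (h3 : MulAction.IsMultiplyPretransitive G Ω 3) {a b c a' b' c' : Ω}
    (hab : a ≠ b) (hac : a ≠ c) (hbc : b ≠ c) (hab' : a' ≠ b') (hac' : a' ≠ c') (hbc' : b' ≠ c') :
    ∃ k : G, k • a = a' ∧ k • b = b' ∧ k • c = c' := by
  have hinj : ∀ {p q r : Ω}, p ≠ q → p ≠ r → q ≠ r → Function.Injective ![p, q, r] := by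
    intro p q r h1 h2 h3 i j hij
    fin_cases i <;> fin_cases j <;>
      first
        | rfl
        | exact absurd hij h1 | exact absurd hij h2 | exact absurd hij h3
        | exact absurd hij h1.symm | exact absurd hij h2.symm | exact absurd hij h3.symm
  obtain ⟨k, hk⟩ := MulAction.isMultiplyPretransitive_iff.mp h3
    (x := (⟨![a, b, c], hinj hab hac hbc⟩ : Fin 3 ↪ Ω))
    (y := (⟨![a', b', c'], hinj hab' hac' hbc'⟩ : Fin 3 ↪ Ω))
  exact ⟨k, congrArg (fun e : Fin 3 ↪ Ω => e 0) hk, congrArg (fun e : Fin 3 ↪ Ω => e 1) hk,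
    congrArg (fun e : Fin 3 ↪ Ω => e 2) hk⟩

theorem four_transitive_of_pairs [Finite G] [Finite Ω]
    (h3 : MulAction.IsMultiplyPretransitive G Ω 3)
    (hinv : ∃ (t : G) (a b c : Ω), a ≠ b ∧ t • a = a ∧ t • b = b ∧ t • c ≠ c ∧ t • (t • c) = c)
    (hpairs : ∀ a b c d c' d' : Ω, a ≠ b → c ≠ d → c' ≠ d' → c ≠ a → c ≠ b → d ≠ a → d ≠ b →
      c' ≠ a → c' ≠ b → d' ≠ a → d' ≠ b →
      ∃ g : G, ({g • a, g • b} : Set Ω) = {a, b} ∧ ({g • c, g • d} : Set Ω) = {c', d'}) :
    MulAction.IsMultiplyPretransitive G Ω 4 := by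
  obtain ⟨t, a, b, c, hab, hta, htb, htc, htt⟩ := hinv
  have hca : c ≠ a := fun h => htc (h ▸ hta)
  have hcb : c ≠ b := fun h => htc (h ▸ htb)
  have hda : t • c ≠ a := fun h => hca (MulAction.injective t (h.trans hta.symm))
  have hdb : t • c ≠ b := fun h => hcb (MulAction.injective t (h.trans htb.symm))
  -- every quadruple is in the orbit of `(a, b, c, t • c)` up to transposing two coordinates
  have hhalf : ∀ x y z w : Ω, x ≠ y → z ≠ w → z ≠ x → z ≠ y → w ≠ x → w ≠ y →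
      ∃ k : G, ((k • a = x ∧ k • b = y) ∨ (k • a = y ∧ k • b = x)) ∧
        k • c = z ∧ k • (t • c) = w := by
    intro x y z w hxy hzw hzx hzy hwx hwy
    obtain ⟨g, hga, hgb, -⟩ : ∃ g : G, g • x = a ∧ g • y = b ∧ g • z = c :=
      exists_map_triple h3 hxy hzx.symm hzy.symm hab hca.symm hcb.symm
    have inj := MulAction.injective (β := Ω) g
    obtain ⟨h, e1, e2⟩ := hpairs a b c (t • c) (g • z) (g • w) hab htc.symm (inj.ne hzw) hca hcb
      hda hdb (hga ▸ inj.ne hzx) (hgb ▸ inj.ne hzy) (hga ▸ inj.ne hwx) (hgb ▸ inj.ne hwy)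
    have hab2 : ((g⁻¹ * h) • a = x ∧ (g⁻¹ * h) • b = y) ∨
        ((g⁻¹ * h) • a = y ∧ (g⁻¹ * h) • b = x) := by
      rcases Set.pair_eq_pair_iff.mp e1 with ⟨p1, p2⟩ | ⟨p1, p2⟩
      · left; simp [mul_smul, p1, p2, inv_smul_eq_iff, hga, hgb]
      · right; simp [mul_smul, p1, p2, inv_smul_eq_iff, hga, hgb]
    rcases Set.pair_eq_pair_iff.mp e2 with ⟨p1, p2⟩ | ⟨p1, p2⟩
    · exact ⟨g⁻¹ * h, hab2, by simp [mul_smul, p1], by simp [mul_smul, p2]⟩
    · refine ⟨g⁻¹ * h * t, ?_, by simp [mul_smul, p2], by simp [mul_smul, htt, p1]⟩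
      simpa [mul_smul, hta, htb] using hab2
  -- an element exchanging `a` and `b` while fixing `c` and `t • c`
  obtain ⟨s, hsa, hsb, hsc, hsd⟩ : ∃ s : G,
      s • a = b ∧ s • b = a ∧ s • c = c ∧ s • (t • c) = t • c := by
    obtain ⟨k, hk, hkc, hkd⟩ := hhalf c (t • c) a b htc.symm hab hca.symm hda.symm hcb.symm hdb.symm
    refine ⟨k * t * k⁻¹, ?_, ?_, ?_, ?_⟩
    · simp [mul_smul, inv_smul_eq_iff.mpr hkc.symm, hkd]
    · simp [mul_smul, inv_smul_eq_iff.mpr hkd.symm, htt, hkc]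
    · rcases hk with ⟨p1, p2⟩ | ⟨p1, p2⟩
      · simp [mul_smul, inv_smul_eq_iff.mpr p1.symm, hta, p1]
      · simp [mul_smul, inv_smul_eq_iff.mpr p2.symm, htb, p2]
    · rcases hk with ⟨p1, p2⟩ | ⟨p1, p2⟩
      · simp [mul_smul, inv_smul_eq_iff.mpr p2.symm, htb, p2]
      · simp [mul_smul, inv_smul_eq_iff.mpr p1.symm, hta, p1]
  -- one orbit
  have hfull : ∀ x : Fin 4 ↪ Ω, ∃ k : G,
      k • a = x 0 ∧ k • b = x 1 ∧ k • c = x 2 ∧ k • (t • c) = x 3 := by
    intro x
    have ne := fun {i j : Fin 4} (h : i ≠ j) => x.injective.ne h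
    obtain ⟨k, hk, hkc, hkd⟩ := hhalf (x 0) (x 1) (x 2) (x 3) (ne (by decide)) (ne (by decide))
      (ne (by decide)) (ne (by decide)) (ne (by decide)) (ne (by decide))
    rcases hk with ⟨p1, p2⟩ | ⟨p1, p2⟩
    · exact ⟨k, p1, p2, hkc, hkd⟩
    · exact ⟨k * s, by simp [mul_smul, hsa, p2], by simp [mul_smul, hsb, p1],
        by simp [mul_smul, hsc, hkc], by simp [mul_smul, hsd, hkd]⟩
  refine MulAction.isMultiplyPretransitive_iff.mpr fun {x y} => ?_
  obtain ⟨k, k0, k1, k2, k3⟩ := hfull x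
  obtain ⟨l, l0, l1, l2, l3⟩ := hfull y
  refine ⟨l * k⁻¹, ?_⟩
  ext i
  show (l * k⁻¹) • x i = y i
  rw [mul_smul]
  fin_cases i
  · exact (inv_smul_eq_iff.mpr k0.symm).symm ▸ l0
  · exact (inv_smul_eq_iff.mpr k1.symm).symm ▸ l1
  · exact (inv_smul_eq_iff.mpr k2.symm).symm ▸ l2
  · exact (inv_smul_eq_iff.mpr k3.symm).symm ▸ l3

end

section

variable {G Ω : Type*} [Group G] [MulAction G Ω]

theorem fix_bound [Finite G] [Fintype Ω] [DecidableEq Ω]
    (h3 : MulAction.IsMultiplyPretransitive G Ω 3) (lam : ℕ)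
    (hlam : ∀ a b c d : Ω, a ≠ b → c ≠ d → c ≠ a → c ≠ b → d ≠ a → d ≠ b →
      Nat.card {y : Ω // y ≠ a ∧ y ≠ b ∧ y ≠ c ∧
        ∃ g : G, ({g • a, g • b} : Set Ω) = {a, b} ∧ ({g • c, g • d} : Set Ω) = {c, y}} = lam)
    (g : G) {u : Ω} (hu : g • u ≠ u) :
    (Nat.card (MulAction.fixedBy Ω g) - 1) * (Nat.card (MulAction.fixedBy Ω g) - 2) ≤
      (Fintype.card Ω - 3) * (lam - 1) := by
  classical
  let W : Ω → Ω → Ω → Ω × Ω → Prop := fun u v b p =>
    p.1 ≠ p.2 ∧ p.1 ≠ u ∧ p.1 ≠ v ∧ p.1 ≠ b ∧ p.2 ≠ u ∧ p.2 ≠ v ∧ p.2 ≠ b ∧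
      ∃ h : G, ({h • u, h • b} : Set Ω) = {v, b} ∧ ({h • p.1, h • p.2} : Set Ω) = {p.1, p.2}
  let C : Ω → Ω → Ω → ℕ := fun u v b => (Finset.univ.filter (W u v b)).card
  let Fx : Finset Ω := Finset.univ.filter fun y => g • y = y
  have hf : Nat.card (MulAction.fixedBy Ω g) = Fx.card :=
    Nat.subtype_card Fx (by simp [Fx])
  rw [hf]
  rcases Fx.eq_empty_or_nonempty with he | ⟨b, hb⟩
  · simp [he]
  replace hb : g • b = b := by simpa [Fx] using hb
  have hub : u ≠ b := fun h => hu (h ▸ hb)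
  have hvb : g • u ≠ b := fun h => hub (MulAction.injective g (h.trans hb.symm))
  -- the fixed pairs
  have hlow : (Fx.card - 1) * (Fx.card - 2) ≤ C u (g • u) b := by
    have h1 : (Fx.erase b).card = Fx.card - 1 := Finset.card_erase_of_mem (by simp [Fx, hb])
    have h2 : (Fx.erase b).offDiag ⊆ Finset.univ.filter (W u (g • u) b) := by
      rintro ⟨w, x⟩ hwx
      simp only [Finset.mem_offDiag, Finset.mem_erase, Fx, Finset.mem_filter, Finset.mem_univ,
        true_and] at hwx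
      obtain ⟨⟨hwb, hw⟩, ⟨hxb, hx⟩, hne⟩ := hwx
      simp only [Finset.mem_filter, Finset.mem_univ, true_and, W]
      refine ⟨hne, ?_, ?_, hwb, ?_, ?_, hxb, g, by rw [hb], by rw [hw, hx]⟩
      · exact fun h => hu (h ▸ hw)
      · exact fun h => hu (MulAction.injective g (by rw [← h]; exact hw.trans h))
      · exact fun h => hu (h ▸ hx)
      · exact fun h => hu (MulAction.injective g (by rw [← h]; exact hx.trans h))
    have h4 := Finset.card_le_card h2
    rw [Finset.offDiag_card, h1] at h4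
    refine le_trans (le_of_eq ?_) h4
    rw [show Fx.card - 2 = (Fx.card - 1) - 1 by omega, Nat.mul_sub, Nat.mul_one]
  refine hlow.trans (le_of_eq ?_)
  -- invariance
  have hsub : ∀ (k : G) (p q r : Ω), C p q r ≤ C (k • p) (k • q) (k • r) := by
    intro k p q r
    refine Finset.card_le_card_of_injOn (fun w => (k • w.1, k • w.2)) ?_ ?_
    · rintro ⟨w, x⟩ hwx
      simp only [Finset.mem_coe, Finset.mem_filter, Finset.mem_univ, true_and, W] at hwx ⊢
      obtain ⟨h1, h2, h3', h4, h5, h6, h7, h, e1, e2⟩ := hwx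
      have inj := MulAction.injective (β := Ω) k
      refine ⟨inj.ne h1, inj.ne h2, inj.ne h3', inj.ne h4, inj.ne h5, inj.ne h6, inj.ne h7,
        k * h * k⁻¹, ?_, ?_⟩
      · have := congrArg (fun s : Set Ω => (fun y => k • y) '' s) e1
        simpa [Set.image_pair, mul_smul] using this
      · have := congrArg (fun s : Set Ω => (fun y => k • y) '' s) e2
        simpa [Set.image_pair, mul_smul] using this
    · rintro ⟨w, x⟩ _ ⟨w', x'⟩ _ h
      simp only [Prod.mk.injEq, smul_left_cancel_iff] at h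
      rw [h.1, h.2]
  have hconst : ∀ v, v ≠ u → v ≠ b → C u v b = C u (g • u) b := by
    intro v hvu hvb'
    obtain ⟨k, e0, e1, e2⟩ : ∃ k : G, k • u = u ∧ k • v = g • u ∧ k • b = b :=
      exists_map_triple h3 hvu.symm hub hvb' (Ne.symm hu) hub hvb
    refine le_antisymm ?_ ?_
    · have := hsub k u v b
      rwa [e0, e1, e2] at this
    · have := hsub k⁻¹ u (g • u) b
      have e0' : k⁻¹ • u = u := inv_smul_eq_iff.mpr e0.symm
      have e1' : k⁻¹ • (g • u) = v := inv_smul_eq_iff.mpr e1.symm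
      have e2' : k⁻¹ • b = b := inv_smul_eq_iff.mpr e2.symm
      rwa [e0', e1', e2'] at this
  -- double counting
  let A : Finset Ω := ((Finset.univ : Finset Ω).erase u).erase b
  have hA : A.card = Fintype.card Ω - 2 := by
    rw [Finset.card_erase_of_mem (Finset.mem_erase.mpr ⟨hub.symm, Finset.mem_univ _⟩),
      Finset.card_erase_of_mem (Finset.mem_univ _), Finset.card_univ]
    omega
  have hApos : 0 < A.card := Finset.card_pos.mpr ⟨g • u, by simp [A, hu, hvb]⟩
  have hrow : ∀ v ∈ A, (A.offDiag.filter fun p => W u v b p).card = C u (g • u) b := by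
    intro v hv
    simp only [A, Finset.mem_erase, Finset.mem_univ, and_true] at hv
    rw [← hconst v hv.2 hv.1]
    congr 1
    ext ⟨w, x⟩
    simp only [A, W, Finset.mem_filter, Finset.mem_offDiag, Finset.mem_erase, Finset.mem_univ,
      and_true, true_and]
    tauto
  have hcol : ∀ p ∈ A.offDiag, (A.filter fun v => W u v b p).card = lam - 1 := by
    rintro ⟨w, x⟩ hp
    simp only [A, Finset.mem_offDiag, Finset.mem_erase, Finset.mem_univ, and_true] at hp
    obtain ⟨⟨hwb, hwu⟩, ⟨hxb, hxu⟩, hne⟩ := hp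
    let Y : Finset Ω := Finset.univ.filter fun y => y ≠ w ∧ y ≠ x ∧ y ≠ b ∧
      ∃ h : G, ({h • w, h • x} : Set Ω) = {w, x} ∧ ({h • b, h • u} : Set Ω) = {b, y}
    have hY : Y.card = lam := by
      rw [← hlam w x b u hne hub.symm hwb.symm hxb.symm hwu.symm hxu.symm]
      exact (Nat.subtype_card Y (by simp [Y])).symm
    have huY : u ∈ Y := by
      simp only [Y, Finset.mem_filter, Finset.mem_univ, true_and]
      exact ⟨hwu.symm, hxu.symm, hub, 1, by simp, by simp⟩
    rw [← hY, ← Finset.card_erase_of_mem huY]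
    congr 1
    ext v
    simp only [A, W, Y, Finset.mem_filter, Finset.mem_erase, Finset.mem_univ, and_true, true_and]
    constructor
    · rintro ⟨⟨hvb', hvu⟩, -, -, hwv, -, -, hxv, -, h, e1, e2⟩
      exact ⟨hvu, hwv.symm, hxv.symm, hvb', h, e2, by rw [Set.pair_comm, e1, Set.pair_comm]⟩
    · rintro ⟨hvu, hvw, hvx, hvb', h, e1, e2⟩
      exact ⟨⟨hvb', hvu⟩, hne, hwu, hvw.symm, hwb, hxu, hvx.symm, hxb, h,
        by rw [Set.pair_comm, e2, Set.pair_comm], e1⟩
  have hdouble := Finset.sum_card_bipartiteAbove_eq_sum_card_bipartiteBelow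
    (s := A) (t := A.offDiag) (r := fun v p => W u v b p)
  simp only [Finset.bipartiteAbove, Finset.bipartiteBelow] at hdouble
  rw [Finset.sum_const_nat hrow, Finset.sum_const_nat hcol, Finset.offDiag_card] at hdouble
  have e : A.card * A.card - A.card = A.card * (A.card - 1) := by
    rw [Nat.mul_sub, Nat.mul_one]
  rw [e, mul_assoc] at hdouble
  rw [Nat.eq_of_mul_eq_mul_left hApos hdouble, hA]
  congr 1

end

end Cfsg.Agent.Half51
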