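import Cfsg.Agent.Half51.PermChar
import Cfsg.Agent.Half51.Orbit

/-!
# Orbitals on unordered pairs of a triply transitive group

Counting in a fixed orbit on ordered pairs of disjoint unordered pairs: the adjacency numbers of
the group elements, their sum and their sum weighted by fixed points; transitivity of a pair
stabiliser on disjoint pairs, or equidistribution of the suborbits, from the orbit count on
`Pair × Pair`.
-/

set_option autoImplicit false
set_option linter.style.haveILetI false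
set_option linter.unusedSectionVars false

open MulAction

namespace Cfsg.Agent.Half51

open scoped Classical in
/-- Number of `y` with `{c, y}` in the orbit of `{c, d}` under the stabiliser of `{a, b}`. -/
noncomputable def lamP (G : Type*) {Ω : Type*} [Group G] [MulAction G Ω] (a b c d : Ω) : ℕ :=
  Nat.card {y : Ω // y ≠ a ∧ y ≠ b ∧ y ≠ c ∧
    ∃ g : G, ({g • a, g • b} : Set Ω) = {a, b} ∧ ({g • c, g • d} : Set Ω) = {c, y}}

section

variable {G Ω : Type*} [Group G] [Fintype G] [MulAction G Ω] [Fintype Ω] [DecidableEq Ω]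

/-- Number of pairs `e` such that `(e, g • e)` is in the orbit of `(e₁, e₂)`. -/
noncomputable def adj (e₁ e₂ : Pair Ω) (g : G) : ℕ :=
  Nat.card {e : Pair Ω // ∃ h : G, h • e₁ = e ∧ h • e₂ = g • e}

/-- The pair of two distinct points. -/
def pr (a b : Ω) (h : a ≠ b) : Pair Ω := ⟨{a, b}, Finset.card_pair h⟩

/-- The pairs in the given orbital at `e`. -/
noncomputable def nbrs (G : Type*) [Group G] [MulAction G Ω] (e₁ e₂ e : Pair Ω) :
    Finset (Pair Ω) := by
  classical exact Finset.univ.filter fun e' => ∃ h : G, h • e₁ = e ∧ h • e₂ = e'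

omit [Fintype G] in
theorem mem_nbrs (e₁ e₂ e e' : Pair Ω) :
    e' ∈ nbrs G e₁ e₂ e ↔ ∃ h : G, h • e₁ = e ∧ h • e₂ = e' := by
  classical
  simp [nbrs]

theorem smul_pr (g : G) {a b : Ω} (h : a ≠ b) :
    g • pr a b h = pr (g • a) (g • b) ((MulAction.injective g).ne h) := by
  apply Subtype.ext
  show ({a, b} : Finset Ω).map _ = ({g • a, g • b} : Finset Ω)
  rw [Finset.map_insert, Finset.map_singleton]
  rfl

theorem mem_smul (g : G) (e : Pair Ω) (x : Ω) : g • x ∈ (g • e).1 ↔ x ∈ e.1 := by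
  show g • x ∈ e.1.map (MulAction.toPerm g).toEmbedding ↔ _
  rw [show g • x = (MulAction.toPerm g).toEmbedding x from rfl, Finset.mem_map']

theorem pr_eq_iff {a b c d : Ω} (h : a ≠ b) (h' : c ≠ d) :
    pr a b h = pr c d h' ↔ ({a, b} : Set Ω) = {c, d} := by
  refine Subtype.ext_iff.trans ?_
  show ({a, b} : Finset Ω) = {c, d} ↔ _
  rw [← Finset.coe_inj, Finset.coe_pair, Finset.coe_pair]

/-- The size of the intersection of two pairs. -/
def meet (v : Pair Ω × Pair Ω) : ℕ := (v.1.1 ∩ v.2.1).card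

theorem meet_smul (g : G) (v : Pair Ω × Pair Ω) : meet (g • v) = meet v := by
  show (v.1.1.map (MulAction.toPerm g).toEmbedding ∩
    v.2.1.map (MulAction.toPerm g).toEmbedding).card = _
  rw [← Finset.map_inter, Finset.card_map, meet]

theorem pr_disjoint {a b c d : Ω} (hab : a ≠ b) (hcd : c ≠ d) (hca : c ≠ a) (hcb : c ≠ b)
    (hda : d ≠ a) (hdb : d ≠ b) : meet (pr a b hab, pr c d hcd) = 0 := by
  rw [meet, Finset.card_eq_zero, Finset.eq_empty_iff_forall_notMem]
  intro x hx
  obtain ⟨h1, h2⟩ := Finset.mem_inter.mp hx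
  have h1' : x ∈ ({a, b} : Finset Ω) := h1
  have h2' : x ∈ ({c, d} : Finset Ω) := h2
  simp only [Finset.mem_insert, Finset.mem_singleton] at h1' h2'
  rcases h1' with rfl | rfl <;> rcases h2' with h | h
  · exact hca h.symm
  · exact hda h.symm
  · exact hcb h.symm
  · exact hdb h.symm

theorem nbrs_disjoint {e₁ e₂ : Pair Ω} (h0 : meet (e₁, e₂) = 0) {e e' : Pair Ω}
    (he : e' ∈ nbrs G e₁ e₂ e) {x : Ω} (hx : x ∈ e.1) : x ∉ e'.1 := by
  obtain ⟨h, h1, h2⟩ := (mem_nbrs e₁ e₂ e e').mp he
  intro hx'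
  have hm : meet (e, e') = 0 := by
    rw [← h1, ← h2]
    exact (meet_smul h (e₁, e₂)).trans h0
  rw [meet, Finset.card_eq_zero] at hm
  exact Finset.notMem_empty x (hm ▸ Finset.mem_inter.mpr ⟨hx, hx'⟩)

theorem card_nbrs_smul (e₁ e₂ e : Pair Ω) (g : G) :
    (nbrs G e₁ e₂ (g • e)).card = (nbrs G e₁ e₂ e).card := by
  classical
  refine (Finset.card_bij (fun e' _ => g • e') (fun e' he => ?_)
    (fun a _ b _ hab => MulAction.injective g hab) fun e' he => ⟨g⁻¹ • e', ?_, smul_inv_smul g e'⟩).symm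
  · obtain ⟨h, h1, h2⟩ := (mem_nbrs e₁ e₂ e e').mp he
    exact (mem_nbrs _ _ _ _).mpr ⟨g * h, by rw [mul_smul, h1], by rw [mul_smul, h2]⟩
  · obtain ⟨h, h1, h2⟩ := (mem_nbrs e₁ e₂ _ e').mp he
    exact (mem_nbrs _ _ _ _).mpr
      ⟨g⁻¹ * h, by rw [mul_smul, h1, inv_smul_smul], by rw [mul_smul, h2]⟩

theorem adj_eq (e₁ e₂ : Pair Ω) (g : G) :
    adj e₁ e₂ g = (Finset.univ.filter fun e : Pair Ω => g • e ∈ nbrs G e₁ e₂ e).card := by
  classical
  rw [adj, Nat.card_eq_fintype_card, Fintype.card_subtype]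
  simp only [mem_nbrs]

/-- Adjacency numbers are class functions. -/
theorem adj_conj (e₁ e₂ : Pair Ω) (g h : G) : adj e₁ e₂ (h * g * h⁻¹) = adj e₁ e₂ g := by
  classical
  rw [adj_eq, adj_eq]
  refine (Finset.card_bij (fun e _ => h • e) (fun e he => ?_)
    (fun a _ b _ hab => MulAction.injective h hab) fun e he => ⟨h⁻¹ • e, ?_, smul_inv_smul h e⟩).symm
  · obtain ⟨k, h1, h2⟩ := (mem_nbrs e₁ e₂ _ _).mp (Finset.mem_filter.mp he).2
    exact Finset.mem_filter.mpr ⟨Finset.mem_univ _, (mem_nbrs _ _ _ _).mpr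
      ⟨h * k, by rw [mul_smul, h1], by simp [mul_smul, h2]⟩⟩
  · obtain ⟨k, h1, h2⟩ := (mem_nbrs e₁ e₂ _ _).mp (Finset.mem_filter.mp he).2
    exact Finset.mem_filter.mpr ⟨Finset.mem_univ _, (mem_nbrs _ _ _ _).mpr
      ⟨h⁻¹ * k, by rw [mul_smul, h1], by simp [mul_smul, h2]⟩⟩

/-- No pair is adjacent to itself. -/
theorem adj_one {e₁ e₂ : Pair Ω} (h0 : meet (e₁, e₂) = 0) : adj e₁ e₂ (1 : G) = 0 := by
  classical
  rw [adj_eq, Finset.card_eq_zero, Finset.filter_eq_empty_iff]
  intro e _ he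
  rw [one_smul] at he
  obtain ⟨x, hx⟩ := Finset.card_pos.mp (show 0 < e.1.card by rw [e.2]; norm_num)
  exact nbrs_disjoint h0 he hx hx

/-- Orbit–stabiliser for a set on which the group is transitive. -/
theorem card_mul_move {X : Type*} [MulAction G X] [DecidableEq X] (S : Finset X)
    (hS : ∀ (g : G), ∀ v ∈ S, g • v ∈ S) (htr : ∀ v ∈ S, ∀ w ∈ S, ∃ g : G, g • v = w)
    {v w : X} (hv : v ∈ S) (hw : w ∈ S) :
    S.card * (Finset.univ.filter fun g : G => g • v = w).card = Fintype.card G := by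
  classical
  have h : ∀ u ∈ S, (Finset.univ.filter fun g : G => g • v = u).card =
      (Finset.univ.filter fun g : G => g • v = w).card := by
    intro u hu
    obtain ⟨g₀, hg₀⟩ := htr u hu w hw
    refine Finset.card_bij (fun g _ => g₀ * g) (fun g hg => ?_)
      (fun a _ b _ hab => mul_left_cancel hab) fun g hg => ⟨g₀⁻¹ * g, ?_, mul_inv_cancel_left _ _⟩
    · simp only [Finset.mem_filter, Finset.mem_univ, true_and] at hg ⊢
      rw [mul_smul, hg, hg₀]
    · simp only [Finset.mem_filter, Finset.mem_univ, true_and] at hg ⊢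
      rw [mul_smul, hg, inv_smul_eq_iff, hg₀]
  have hsum := Finset.card_eq_sum_card_fiberwise (s := (Finset.univ : Finset G))
    (f := fun g : G => g • v) (t := S) fun g _ => Finset.mem_coe.mpr (hS g v hv)
  rw [Finset.sum_congr rfl h, Finset.sum_const, smul_eq_mul, Finset.card_univ] at hsum
  exact hsum.symm

theorem exists_third (hn : 3 ≤ Fintype.card Ω) (a b : Ω) : ∃ c, c ≠ a ∧ c ≠ b := by
  obtain ⟨c, -, hc⟩ := Finset.exists_mem_notMem_of_card_lt_card
    (s := ({a, b} : Finset Ω)) (t := Finset.univ) (lt_of_le_of_lt Finset.card_le_two (by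
      rw [Finset.card_univ]; omega))
  exact ⟨c, fun h => hc (by simp [h]), fun h => hc (by simp [h])⟩

omit [Fintype G] in
theorem exists_smul_pair_point (h3 : IsMultiplyPretransitive G Ω 3) (e e' : Pair Ω) (x x' : Ω)
    (hx : x ∉ e.1) (hx' : x' ∉ e'.1) : ∃ g : G, g • x = x' ∧ g • e = e' := by
  obtain ⟨s, hs⟩ := e
  obtain ⟨s', hs'⟩ := e'
  obtain ⟨a, b, hab, rfl⟩ := Finset.card_eq_two.mp hs
  obtain ⟨a', b', hab', rfl⟩ := Finset.card_eq_two.mp hs'
  simp only [Finset.mem_insert, Finset.mem_singleton, not_or] at hx hx'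
  obtain ⟨g, g1, g2, g3⟩ := exists_map_triple h3 hx.1 hx.2 hab hx'.1 hx'.2 hab'
  refine ⟨g, g1, Subtype.ext ?_⟩
  show ({a, b} : Finset Ω).map _ = ({a', b'} : Finset Ω)
  rw [Finset.map_insert, Finset.map_singleton]
  simp [g2, g3]

omit [Fintype G] in
theorem exists_smul_pair (h3 : IsMultiplyPretransitive G Ω 3) (hn : 3 ≤ Fintype.card Ω)
    (e e' : Pair Ω) : ∃ g : G, g • e = e' := by
  have key : ∀ f : Pair Ω, ∃ x, x ∉ f.1 := fun f => by
    obtain ⟨x, -, hx⟩ := Finset.exists_mem_notMem_of_card_lt_card (s := f.1) (t := Finset.univ)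
      (by rw [f.2, Finset.card_univ]; omega)
    exact ⟨x, hx⟩
  obtain ⟨x, hx⟩ := key e
  obtain ⟨x', hx'⟩ := key e'
  obtain ⟨g, -, hg⟩ := exists_smul_pair_point h3 e e' x x' hx hx'
  exact ⟨g, hg⟩

theorem four_le_card {a b c d : Ω} (hab : a ≠ b) (hcd : c ≠ d) (hca : c ≠ a) (hcb : c ≠ b)
    (hda : d ≠ a) (hdb : d ≠ b) : 4 ≤ Fintype.card Ω := by
  have h : ({a, b, c, d} : Finset Ω).card = 4 := by
    rw [Finset.card_insert_of_notMem (by simp [hab, hca.symm, hda.symm]),
      Finset.card_insert_of_notMem (by simp [hcb.symm, hdb.symm]), Finset.card_pair hcd]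
  exact h ▸ Finset.card_le_univ _

/-- Through every outside point go equally many pairs of the orbital. -/
theorem card_nbrs_filter_mem (h3 : IsMultiplyPretransitive G Ω 3) {a b c d : Ω} (hab : a ≠ b)
    (hcd : c ≠ d) (hca : c ≠ a) (hcb : c ≠ b) (hda : d ≠ a) (hdb : d ≠ b) (x : Ω)
    (hxa : x ≠ a) (hxb : x ≠ b) :
    ((nbrs G (pr a b hab) (pr c d hcd) (pr a b hab)).filter fun e' => x ∈ e'.1).card =
      lamP G a b c d := by
  classical
  obtain ⟨k, kx, ke⟩ := exists_smul_pair_point (G := G) h3 (pr a b hab) (pr a b hab) c x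
    (by show c ∉ ({a, b} : Finset Ω); simp [hca, hcb])
    (by show x ∉ ({a, b} : Finset Ω); simp [hxa, hxb])
  set K := nbrs G (pr a b hab) (pr c d hcd) (pr a b hab) with hK
  have h0 := pr_disjoint hab hcd hca hcb hda hdb
  have e1 : (K.filter fun e' => c ∈ e'.1).card = (K.filter fun e' => x ∈ e'.1).card := by
    refine Finset.card_bij (fun e' _ => k • e') (fun e' he => ?_)
      (fun u _ v _ huv => MulAction.injective k huv)
      fun e' he => ⟨k⁻¹ • e', ?_, smul_inv_smul k e'⟩
    · obtain ⟨hm, hc⟩ := Finset.mem_filter.mp he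
      obtain ⟨h, h1, h2⟩ := (mem_nbrs _ _ _ e').mp hm
      refine Finset.mem_filter.mpr ⟨(mem_nbrs _ _ _ _).mpr ⟨k * h, ?_, ?_⟩, ?_⟩
      · rw [mul_smul, h1, ke]
      · rw [mul_smul, h2]
      · rw [← kx, mem_smul]; exact hc
    · obtain ⟨hm, hc⟩ := Finset.mem_filter.mp he
      obtain ⟨h, h1, h2⟩ := (mem_nbrs _ _ _ e').mp hm
      refine Finset.mem_filter.mpr ⟨(mem_nbrs _ _ _ _).mpr ⟨k⁻¹ * h, ?_, ?_⟩, ?_⟩
      · rw [mul_smul, h1, inv_smul_eq_iff, ke]
      · rw [mul_smul, h2]
      · rw [← mem_smul k, smul_inv_smul, kx]; exact hc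
  rw [← e1, lamP, Nat.card_eq_fintype_card, Fintype.card_subtype]
  symm
  refine Finset.card_bij (fun y hy => pr c y (Ne.symm (Finset.mem_filter.mp hy).2.2.2.1))
    (fun y hy => ?_) (fun y hy z hz h => ?_) fun e' he => ?_
  · obtain ⟨-, hya, hyb, hyc, g, g1, g2⟩ := Finset.mem_filter.mp hy
    refine Finset.mem_filter.mpr ⟨(mem_nbrs _ _ _ _).mpr ⟨g, ?_, ?_⟩, Finset.mem_insert_self _ _⟩
    · rw [smul_pr, pr_eq_iff]; exact g1
    · rw [smul_pr, pr_eq_iff]; exact g2
  · have hyc := (Finset.mem_filter.mp hy).2.2.2.1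
    have h' : ({c, y} : Finset Ω) = {c, z} := congrArg Subtype.val h
    have : y ∈ ({c, z} : Finset Ω) := h' ▸ (by simp)
    simp only [Finset.mem_insert, Finset.mem_singleton] at this
    exact this.resolve_left hyc
  · obtain ⟨hm, hc⟩ := Finset.mem_filter.mp he
    obtain ⟨y, hyc, hy⟩ : ∃ y, c ≠ y ∧ e'.1 = {c, y} := by
      obtain ⟨u, v, huv, he'⟩ := Finset.card_eq_two.mp e'.2
      rw [he'] at hc ⊢
      simp only [Finset.mem_insert, Finset.mem_singleton] at hc
      rcases hc with rfl | rfl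
      · exact ⟨v, huv, rfl⟩
      · exact ⟨u, huv.symm, Finset.pair_comm _ _⟩
    have hye : y ∈ e'.1 := by rw [hy]; simp
    have hya : y ≠ a := fun h => nbrs_disjoint h0 hm
      (show a ∈ ({a, b} : Finset Ω) by simp) (h ▸ hye)
    have hyb : y ≠ b := fun h => nbrs_disjoint h0 hm
      (show b ∈ ({a, b} : Finset Ω) by simp) (h ▸ hye)
    obtain ⟨g, g1, g2⟩ := (mem_nbrs _ _ _ e').mp hm
    rw [smul_pr, pr_eq_iff] at g1
    rw [smul_pr, show e' = pr c y hyc from Subtype.ext hy, pr_eq_iff] at g2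
    exact ⟨y, Finset.mem_filter.mpr ⟨Finset.mem_univ _, hya, hyb, hyc.symm, g, g1, g2⟩,
      Subtype.ext hy.symm⟩

/-- The valency of the orbital. -/
theorem two_mul_card_nbrs (h3 : IsMultiplyPretransitive G Ω 3) {a b c d : Ω} (hab : a ≠ b)
    (hcd : c ≠ d) (hca : c ≠ a) (hcb : c ≠ b) (hda : d ≠ a) (hdb : d ≠ b) :
    2 * (nbrs G (pr a b hab) (pr c d hcd) (pr a b hab)).card =
      (Fintype.card Ω - 2) * lamP G a b c d := by
  classical
  set K := nbrs G (pr a b hab) (pr c d hcd) (pr a b hab) with hK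
  have h0 := pr_disjoint hab hcd hca hcb hda hdb
  set T := (Finset.univ : Finset Ω) \ {a, b} with hT
  have hTc : T.card = Fintype.card Ω - 2 := by
    rw [hT, Finset.card_univ_diff, Finset.card_pair hab]
  have h1 : ∀ e' ∈ K, (T.filter fun x => x ∈ e'.1).card = 2 := by
    intro e' he
    rw [show (T.filter fun x => x ∈ e'.1) = e'.1 from ?_]
    · exact e'.2
    · ext x
      simp only [hT, Finset.mem_filter, Finset.mem_sdiff, Finset.mem_univ, true_and]
      refine ⟨fun h => h.2, fun h => ⟨fun hx => nbrs_disjoint h0 he ?_ h, h⟩⟩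
      exact hx
  have h2 : ∑ e' ∈ K, (T.filter fun x => x ∈ e'.1).card =
      ∑ x ∈ T, (K.filter fun e' => x ∈ e'.1).card := by
    simp only [Finset.card_filter]
    exact Finset.sum_comm
  have h5 : ∀ x ∈ T, (K.filter fun e' => x ∈ e'.1).card = lamP G a b c d := fun x hx => by
    obtain ⟨-, hx⟩ := Finset.mem_sdiff.mp hx
    simp only [Finset.mem_insert, Finset.mem_singleton, not_or] at hx
    exact card_nbrs_filter_mem h3 hab hcd hca hcb hda hdb x hx.1 hx.2
  rw [Finset.sum_congr rfl h1, Finset.sum_congr rfl h5] at h2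
  rw [Finset.sum_const, Finset.sum_const, smul_eq_mul, smul_eq_mul, hTc] at h2
  rw [mul_comm]
  exact h2

/-- The sum of the adjacency numbers. -/
theorem two_mul_sum_adj (h3 : IsMultiplyPretransitive G Ω 3) {a b c d : Ω} (hab : a ≠ b)
    (hcd : c ≠ d) (hca : c ≠ a) (hcb : c ≠ b) (hda : d ≠ a) (hdb : d ≠ b) :
    2 * ∑ g : G, adj (pr a b hab) (pr c d hcd) g =
      (Fintype.card Ω - 2) * lamP G a b c d * Fintype.card G := by
  classical
  have h4 := four_le_card hab hcd hca hcb hda hdb
  have hK : ∀ e : Pair Ω, (nbrs G (pr a b hab) (pr c d hcd) e).card =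
      (nbrs G (pr a b hab) (pr c d hcd) (pr a b hab)).card := fun e => by
    obtain ⟨g, rfl⟩ := exists_smul_pair (G := G) h3 (by omega) (pr a b hab) e
    exact card_nbrs_smul _ _ _ g
  rw [← two_mul_card_nbrs h3 hab hcd hca hcb hda hdb, mul_assoc]
  congr 1
  have hN : 0 < Fintype.card (Pair Ω) := Fintype.card_pos_iff.mpr ⟨pr a b hab⟩
  refine Nat.eq_of_mul_eq_mul_left hN ?_
  have e1 : ∑ g : G, adj (pr a b hab) (pr c d hcd) g = ∑ e : Pair Ω,
      ∑ e' ∈ nbrs G (pr a b hab) (pr c d hcd) e,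
        (Finset.univ.filter fun g : G => g • e = e').card := by
    simp only [adj_eq, Finset.card_filter]
    rw [Finset.sum_comm]
    refine Finset.sum_congr rfl fun e _ => ?_
    rw [Finset.sum_comm]
    refine Finset.sum_congr rfl fun g _ => ?_
    simp
  rw [e1, Finset.mul_sum]
  rw [Finset.sum_congr rfl fun e _ => show Fintype.card (Pair Ω) *
      ∑ e' ∈ nbrs G (pr a b hab) (pr c d hcd) e,
        (Finset.univ.filter fun g : G => g • e = e').card =
      (nbrs G (pr a b hab) (pr c d hcd) (pr a b hab)).card * Fintype.card G from ?_]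
  · rw [Finset.sum_const, Finset.card_univ, smul_eq_mul]
  · rw [Finset.mul_sum, Finset.sum_congr rfl fun e' _ => ?_, Finset.sum_const, smul_eq_mul, hK]
    exact card_mul_move (Finset.univ : Finset (Pair Ω)) (fun _ _ _ => Finset.mem_univ _)
      (fun v _ w _ => exists_smul_pair h3 (by omega) v w) (Finset.mem_univ _) (Finset.mem_univ _)

/-- The sum of the adjacency numbers weighted by fixed points. -/
theorem two_mul_sum_fix_adj (h3 : IsMultiplyPretransitive G Ω 3) {a b c d : Ω} (hab : a ≠ b)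
    (hcd : c ≠ d) (hca : c ≠ a) (hcb : c ≠ b) (hda : d ≠ a) (hdb : d ≠ b) :
    2 * ∑ g : G, fixNum Ω g * adj (pr a b hab) (pr c d hcd) g =
      (Fintype.card Ω - 4) * lamP G a b c d * Fintype.card G := by
  classical
  have h4 := four_le_card hab hcd hca hcb hda hdb
  have h0 := pr_disjoint hab hcd hca hcb hda hdb
  set e₁ := pr a b hab with he₁
  set e₂ := pr c d hcd with he₂
  set k := (nbrs G e₁ e₂ e₁).card with hk
  have hK : ∀ e : Pair Ω, (nbrs G e₁ e₂ e).card = k := fun e => by
    obtain ⟨g, rfl⟩ := exists_smul_pair (G := G) h3 (by omega) e₁ e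
    exact card_nbrs_smul _ _ _ g
  have h2k : 2 * k = (Fintype.card Ω - 2) * lamP G a b c d :=
    two_mul_card_nbrs h3 hab hcd hca hcb hda hdb
  set S : Finset (Ω × Pair Ω) := Finset.univ.filter fun v => v.1 ∉ v.2.1 with hS
  have hmemS : ∀ v : Ω × Pair Ω, v ∈ S ↔ v.1 ∉ v.2.1 := fun v => by simp [hS]
  have hScard : S.card = Fintype.card (Pair Ω) * (Fintype.card Ω - 2) := by
    rw [hS, Finset.card_filter, Fintype.sum_prod_type_right, Finset.sum_congr rfl fun e _ => ?_,
      Finset.sum_const, Finset.card_univ, smul_eq_mul]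
    rw [← Finset.card_filter, show (Finset.univ.filter fun x => x ∉ e.1) = e.1ᶜ by ext; simp,
      Finset.card_compl, e.2]
  have e1 : ∑ g : G, fixNum Ω g * adj e₁ e₂ g = ∑ e : Pair Ω, ∑ e' ∈ nbrs G e₁ e₂ e, ∑ x : Ω,
      (Finset.univ.filter fun g : G => g • (x, e) = (x, e')).card := by
    have : ∀ g : G, fixNum Ω g * adj e₁ e₂ g = ∑ e : Pair Ω, ∑ e' ∈ nbrs G e₁ e₂ e, ∑ x : Ω,
        (if g • (x, e) = (x, e') then 1 else 0) := by
      intro g
      rw [adj_eq, fixNum, Finset.card_filter, Finset.card_filter, Finset.sum_mul_sum,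
        Finset.sum_comm]
      refine Finset.sum_congr rfl fun e _ => ?_
      rw [Finset.sum_comm]
      refine Finset.sum_congr rfl fun x _ => ?_
      simp only [Prod.smul_mk, Prod.mk.injEq]
      by_cases hx : g • x = x <;> simp [hx]
    simp only [this, Finset.card_filter]
    rw [Finset.sum_comm]
    refine Finset.sum_congr rfl fun e _ => ?_
    rw [Finset.sum_comm]
    exact Finset.sum_congr rfl fun e' _ => Finset.sum_comm
  have e2 : ∀ e : Pair Ω, ∀ e' ∈ nbrs G e₁ e₂ e, S.card * ∑ x : Ω,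
      (Finset.univ.filter fun g : G => g • (x, e) = (x, e')).card =
      (Fintype.card Ω - 4) * Fintype.card G := by
    intro e e' he'
    have hcnt : ∀ x : Ω, S.card * (Finset.univ.filter fun g : G => g • (x, e) = (x, e')).card =
        if x ∈ e.1 ∪ e'.1 then 0 else Fintype.card G := by
      intro x
      split_ifs with hx
      · rw [Finset.filter_eq_empty_iff.mpr, Finset.card_empty, mul_zero]
        intro g _ hg
        simp only [Prod.smul_mk, Prod.mk.injEq] at hg
        have hiff : x ∈ e'.1 ↔ x ∈ e.1 := by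
          have := mem_smul g e x
          rwa [hg.1, hg.2] at this
        rcases Finset.mem_union.mp hx with h | h
        · exact nbrs_disjoint h0 he' h (hiff.mpr h)
        · exact nbrs_disjoint h0 he' (hiff.mp h) h
      · rw [Finset.mem_union, not_or] at hx
        refine card_mul_move S (fun g v hv => (hmemS _).mpr fun hm => (hmemS v).mp hv ?_)
          (fun v hv w hw => ?_) ((hmemS _).mpr hx.1) ((hmemS _).mpr hx.2)
        · exact (mem_smul g v.2 v.1).mp hm
        · obtain ⟨g, g1, g2⟩ := exists_smul_pair_point h3 v.2 w.2 v.1 w.1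
            ((hmemS v).mp hv) ((hmemS w).mp hw)
          exact ⟨g, Prod.ext g1 g2⟩
    rw [Finset.mul_sum, Finset.sum_congr rfl fun x _ => hcnt x, Finset.sum_ite, Finset.sum_const_zero,
      zero_add, Finset.sum_const, smul_eq_mul]
    congr 1
    rw [show (Finset.univ.filter fun x => ¬ x ∈ e.1 ∪ e'.1) = (e.1 ∪ e'.1)ᶜ by ext; simp,
      Finset.card_compl, Finset.card_union_of_disjoint, e.2, e'.2]
    exact Finset.disjoint_left.mpr fun x hx => nbrs_disjoint h0 he' hx
  have e3 : S.card * ∑ g : G, fixNum Ω g * adj e₁ e₂ g =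
      Fintype.card (Pair Ω) * (k * ((Fintype.card Ω - 4) * Fintype.card G)) := by
    rw [e1, Finset.mul_sum, Finset.sum_congr rfl fun e _ => ?_, Finset.sum_const, Finset.card_univ,
      smul_eq_mul]
    rw [Finset.mul_sum, Finset.sum_congr rfl fun e' he' => e2 e e' he', Finset.sum_const, hK,
      smul_eq_mul]
  rw [hScard] at e3
  have hN : 0 < Fintype.card (Pair Ω) := Fintype.card_pos_iff.mpr ⟨e₁⟩
  have e4 := Nat.eq_of_mul_eq_mul_left hN
    ((mul_assoc _ _ _).symm.trans e3)
  refine Nat.eq_of_mul_eq_mul_left (show 0 < Fintype.card Ω - 2 by omega) ?_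
  calc (Fintype.card Ω - 2) * (2 * ∑ g : G, fixNum Ω g * adj e₁ e₂ g)
      = 2 * ((Fintype.card Ω - 2) * ∑ g : G, fixNum Ω g * adj e₁ e₂ g) := by ring
    _ = 2 * (k * ((Fintype.card Ω - 4) * Fintype.card G)) := by rw [e4]
    _ = (2 * k) * ((Fintype.card Ω - 4) * Fintype.card G) := by ring
    _ = _ := by rw [h2k]; ring

theorem fixNum_prod {X Y : Type*} [MulAction G X] [MulAction G Y] [Fintype X] [DecidableEq X]
    [Fintype Y] [DecidableEq Y] (g : G) : fixNum (X × Y) g = fixNum X g * fixNum Y g := by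
  rw [fixNum, fixNum, fixNum, ← Finset.card_product]
  congr 1
  ext v
  simp [Prod.ext_iff]

theorem meet_self (e : Pair Ω) : meet (e, e) = 2 := by rw [meet, Finset.inter_self, e.2]

theorem meet_overlap {a b c : Ω} (hab : a ≠ b) (hac : a ≠ c) (hbc : b ≠ c) :
    meet (pr a b hab, pr a c hac) = 1 := by
  rw [meet, show (pr a b hab).1 ∩ (pr a c hac).1 = {a} from ?_, Finset.card_singleton]
  ext x
  show x ∈ ({a, b} : Finset Ω) ∩ {a, c} ↔ _
  simp only [Finset.mem_inter, Finset.mem_insert, Finset.mem_singleton]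
  constructor
  · rintro ⟨rfl | rfl, h | h⟩
    · rfl
    · rfl
    · exact absurd h.symm hab
    · exact absurd h hbc
  · rintro rfl
    exact ⟨Or.inl rfl, Or.inl rfl⟩

/-- A pair stabiliser is transitive on the disjoint pairs if there are at most three orbitals. -/
theorem pairs_transitive
    (hsum : ∑ g : G, fixNum (Pair Ω) g * fixNum (Pair Ω) g ≤ 3 * Fintype.card G)
    (a b c d c' d' : Ω) (hab : a ≠ b) (hcd : c ≠ d) (hcd' : c' ≠ d') (hca : c ≠ a) (hcb : c ≠ b)
    (hda : d ≠ a) (hdb : d ≠ b) (hca' : c' ≠ a) (hcb' : c' ≠ b) (hda' : d' ≠ a) (hdb' : d' ≠ b) :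
    ∃ g : G, ({g • a, g • b} : Set Ω) = {a, b} ∧ ({g • c, g • d} : Set Ω) = {c', d'} := by
  classical
  by_contra hno
  let v : Fin 4 → Pair Ω × Pair Ω := ![(pr a b hab, pr a b hab), (pr a b hab, pr a c hca.symm),
    (pr a b hab, pr c d hcd), (pr a b hab, pr c' d' hcd')]
  have m0 : meet (v 0) = 2 := meet_self _
  have m1 : meet (v 1) = 1 := meet_overlap hab hca.symm hcb.symm
  have m2 : meet (v 2) = 0 := pr_disjoint hab hcd hca hcb hda hdb
  have m3 : meet (v 3) = 0 := pr_disjoint hab hcd' hca' hcb' hda' hdb'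
  have h23 : ∀ g : G, g • v 2 ≠ v 3 := by
    intro g hg
    have h1 : g • pr a b hab = pr a b hab := congrArg Prod.fst hg
    have h2 : g • pr c d hcd = pr c' d' hcd' := congrArg Prod.snd hg
    rw [smul_pr, pr_eq_iff] at h1 h2
    exact hno ⟨g, h1, h2⟩
  have hsep : ∀ i j, i ≠ j → ∀ g : G, g • v i ≠ v j := by
    intro i j hij g hg
    have hm : meet (v j) = meet (v i) := by rw [← hg, meet_smul]
    fin_cases i <;> fin_cases j <;> simp only [Fin.isValue] at hij hm hg ⊢
    all_goals first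
      | exact absurd rfl hij
      | exact h23 g hg
      | exact h23 g⁻¹ (inv_smul_eq_iff.mpr hg.symm)
      | (simp [m0, m1, m2, m3] at hm)
  have h := le_sum_fixNum (G := G) v hsep
  simp only [fixNum_prod] at h
  have := Fintype.card_pos (α := G)
  omega

/-- All suborbit parameters are equal to `2 d`. -/
theorem lamP_eq (h3 : IsMultiplyPretransitive G Ω 3) (d t q : ℕ)
    (hn : Fintype.card Ω = 2 * q + 1) (hdt : d * t = q - 1) (hd : 0 < d)
    (hsum : ∑ g : G, fixNum (Pair Ω) g * fixNum (Pair Ω) g = (2 + t) * Fintype.card G)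
    (hdvd : ∀ a b c y : Ω, a ≠ b → a ≠ c → a ≠ y → b ≠ c → b ≠ y → c ≠ y →
      2 * d ∣ lamP G a b c y)
    (a b c y : Ω) (hab : a ≠ b) (hac : a ≠ c) (hay : a ≠ y) (hbc : b ≠ c) (hby : b ≠ y)
    (hcy : c ≠ y) : lamP G a b c y = 2 * d := by
  classical
  have hn3 : 3 ≤ Fintype.card Ω := by
    have h : ({a, b, c} : Finset Ω).card = 3 := by
      rw [Finset.card_insert_of_notMem (by simp [hab, hac]), Finset.card_pair hbc]
    exact h ▸ Finset.card_le_univ _
  set Q := orbitRel.Quotient G (Pair Ω × Pair Ω)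
  have hQ : Nat.card Q = 2 + t := by
    have h := sum_fixNum_eq (G := G) (X := Pair Ω × Pair Ω)
    simp only [fixNum_prod] at h
    rw [hsum] at h
    exact (Nat.eq_of_mul_eq_mul_right Fintype.card_pos h).symm
  set T : Finset Ω := ((Finset.univ.erase a).erase b).erase c with hT
  have hmemT : ∀ z, z ∈ T ↔ z ≠ c ∧ z ≠ b ∧ z ≠ a := fun z => by simp [hT]
  have hTc : T.card = Fintype.card Ω - 3 := by
    rw [hT, Finset.card_erase_of_mem (by simp [hac.symm, hbc.symm]),
      Finset.card_erase_of_mem (by simp [hab.symm]), Finset.card_erase_of_mem (Finset.mem_univ _),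
      Finset.card_univ]
    omega
  let cls : Ω → Q := fun z =>
    if hz : c ≠ z then Quotient.mk'' (pr a b hab, pr c z hz) else Quotient.mk'' (pr a b hab, pr a b hab)
  -- the fibres of `cls` are the suborbit parameters
  have hfib : ∀ z ∈ T, (T.filter fun z' => cls z' = cls z).card = lamP G a b c z := by
    intro z hz
    obtain ⟨hzc, hzb, hza⟩ := (hmemT z).mp hz
    rw [lamP, Nat.card_eq_fintype_card, Fintype.card_subtype]
    congr 1
    ext z'
    simp only [Finset.mem_filter, Finset.mem_univ, true_and, hmemT]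
    constructor
    · rintro ⟨⟨hc', hb', ha'⟩, hcl⟩
      simp only [cls, dif_pos hc'.symm, dif_pos hzc.symm] at hcl
      obtain ⟨g, hg⟩ := orbitRel_apply.mp (Quotient.eq''.mp hcl)
      have h1 : g • pr a b hab = pr a b hab := congrArg Prod.fst hg
      have h2 : g • pr c z hzc.symm = pr c z' hc'.symm := congrArg Prod.snd hg
      rw [smul_pr, pr_eq_iff] at h1 h2
      exact ⟨ha', hb', hc', g, h1, h2⟩
    · rintro ⟨ha', hb', hc', g, g1, g2⟩
      refine ⟨⟨hc', hb', ha'⟩, ?_⟩
      simp only [cls, dif_pos hc'.symm, dif_pos hzc.symm]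
      refine Quotient.eq''.mpr (orbitRel_apply.mpr ⟨g, Prod.ext ?_ ?_⟩)
      · show g • pr a b hab = pr a b hab
        rw [smul_pr, pr_eq_iff]; exact g1
      · show g • pr c z hzc.symm = pr c z' hc'.symm
        rw [smul_pr, pr_eq_iff]; exact g2
  -- the other two orbits
  set o2 : Q := Quotient.mk'' (pr a b hab, pr a b hab) with ho2
  set o1 : Q := Quotient.mk'' (pr a b hab, pr a c hac) with ho1
  have hmeet : ∀ v w : Pair Ω × Pair Ω,
      (Quotient.mk'' v : Q) = Quotient.mk'' w → meet v = meet w := by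
    intro v w h
    obtain ⟨g, hg⟩ := orbitRel_apply.mp (Quotient.eq''.mp h)
    rw [← hg, meet_smul]
  have himage : T.image cls = (Finset.univ.erase o2).erase o1 := by
    refine Finset.Subset.antisymm (fun o ho => ?_) fun o ho => ?_
    · obtain ⟨z, hz, rfl⟩ := Finset.mem_image.mp ho
      obtain ⟨hzc, hzb, hza⟩ := (hmemT z).mp hz
      simp only [cls, dif_pos hzc.symm]
      have m := pr_disjoint hab hzc.symm hac.symm hbc.symm hza hzb
      refine Finset.mem_erase.mpr ⟨fun h => ?_, Finset.mem_erase.mpr ⟨fun h => ?_, Finset.mem_univ _⟩⟩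
      · have := hmeet _ _ h
        rw [m, meet_overlap hab hac hbc] at this
        omega
      · have := hmeet _ _ h
        rw [m, meet_self] at this
        omega
    · obtain ⟨ho1', ho'⟩ := Finset.mem_erase.mp ho
      have ho2' := (Finset.mem_erase.mp ho').1
      induction o using Quotient.inductionOn' with
      | h v =>
        obtain ⟨⟨s, hs⟩, ⟨s', hs'⟩⟩ := v
        obtain ⟨u, w, huw, rfl⟩ := Finset.card_eq_two.mp hs
        obtain ⟨u', w', huw', rfl⟩ := Finset.card_eq_two.mp hs'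
        change (Quotient.mk'' (pr u w huw, pr u' w' huw') : Q) ≠ o1 at ho1'
        change (Quotient.mk'' (pr u w huw, pr u' w' huw') : Q) ≠ o2 at ho2'
        -- the second pair avoids the first
        have key : ∀ (u w u' w' : Ω) (huw : u ≠ w) (huw' : u' ≠ w'), u' = u →
            (Quotient.mk'' (pr u w huw, pr u' w' huw') : Q) = o1 ∨
              (Quotient.mk'' (pr u w huw, pr u' w' huw') : Q) = o2 := by
          intro u w u' w' huw huw' e
          subst e
          by_cases hw : w' = w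
          · subst hw
            right
            obtain ⟨g, hg⟩ := exists_smul_pair (G := G) h3 (by omega) (pr a b hab) (pr u' w' huw)
            exact Quotient.eq''.mpr (orbitRel_apply.mpr ⟨g, Prod.ext hg hg⟩)
          · left
            obtain ⟨g, g1, g2, g3⟩ := exists_map_triple h3 hab hac hbc huw huw' (Ne.symm hw)
            refine Quotient.eq''.mpr (orbitRel_apply.mpr ⟨g, Prod.ext ?_ ?_⟩)
            · show g • pr a b hab = pr u' w huw
              rw [smul_pr, pr_eq_iff, g1, g2]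
            · show g • pr a c hac = pr u' w' huw'
              rw [smul_pr, pr_eq_iff, g1, g3]
        have hswap : ∀ (x z : Ω) (h : x ≠ z), pr z x h.symm = pr x z h := fun x z h =>
          Subtype.ext (Finset.pair_comm z x)
        have n1 : u' ≠ u := fun e => (key u w u' w' huw huw' e).elim ho1' ho2'
        have n2 : u' ≠ w := fun e => by
          have := key w u u' w' huw.symm huw' e
          rw [hswap u w huw] at this
          exact this.elim ho1' ho2'
        have n3 : w' ≠ u := fun e => by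
          have := key u w w' u' huw huw'.symm e
          rw [hswap u' w' huw'] at this
          exact this.elim ho1' ho2'
        have n4 : w' ≠ w := fun e => by
          have := key w u w' u' huw.symm huw'.symm e
          rw [hswap u w huw, hswap u' w' huw'] at this
          exact this.elim ho1' ho2'
        obtain ⟨g, g1, g2, g3⟩ := exists_map_triple h3 huw n1.symm n2.symm hab hac hbc
        refine Finset.mem_image.mpr ⟨g • w', (hmemT _).mpr ⟨?_, ?_, ?_⟩, ?_⟩
        · rw [← g3]; exact (MulAction.injective g).ne huw'.symm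
        · rw [← g2]; exact (MulAction.injective g).ne n4
        · rw [← g1]; exact (MulAction.injective g).ne n3
        · have hne : c ≠ g • w' := by rw [← g3]; exact (MulAction.injective g).ne huw'
          simp only [cls, dif_pos hne]
          refine Quotient.eq''.mpr (orbitRel_apply.mpr ⟨g, Prod.ext ?_ ?_⟩)
          · show g • pr u w huw = pr a b hab
            rw [smul_pr, pr_eq_iff, g1, g2]
          · show g • pr u' w' huw' = pr c (g • w') hne
            rw [smul_pr, pr_eq_iff, g3]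
  have ho12 : o1 ≠ o2 := fun h => by
    have := hmeet _ _ h
    rw [meet_overlap hab hac hbc, meet_self] at this
    omega
  have hImc : (T.image cls).card = t := by
    rw [himage, Finset.card_erase_of_mem (Finset.mem_erase.mpr ⟨ho12, Finset.mem_univ _⟩),
      Finset.card_erase_of_mem (Finset.mem_univ _), Finset.card_univ, ← Nat.card_eq_fintype_card, hQ]
    omega
  have hle : ∀ o ∈ T.image cls, 2 * d ≤ (T.filter fun z' => cls z' = o).card := by
    intro o ho
    obtain ⟨z, hz, rfl⟩ := Finset.mem_image.mp ho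
    obtain ⟨hzc, hzb, hza⟩ := (hmemT z).mp hz
    refine Nat.le_of_dvd (Finset.card_pos.mpr ⟨z, Finset.mem_filter.mpr ⟨hz, rfl⟩⟩) ?_
    rw [hfib z hz]
    exact hdvd a b c z hab hac hza.symm hbc hzb.symm hzc.symm
  have hsumT := Finset.card_eq_sum_card_image cls T
  have heq : ∑ _o ∈ T.image cls, 2 * d = ∑ o ∈ T.image cls, (T.filter fun z' => cls z' = o).card := by
    rw [← hsumT, Finset.sum_const, smul_eq_mul, hImc, hTc, hn]
    have h2 : t * (2 * d) = 2 * (d * t) := by ring
    rw [h2, hdt]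
    omega
  have hy : y ∈ T := (hmemT y).mpr ⟨hcy.symm, hby.symm, hay.symm⟩
  have := (Finset.sum_eq_sum_iff_of_le hle).mp heq (cls y) (Finset.mem_image_of_mem _ hy)
  rw [← hfib y hy, ← this]

end

end Cfsg.Agent.Half51
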