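import Cfsg.Agent.Lib.CharCore.Complete
import Cfsg.Agent.Lib.CharCore.Rep
import Cfsg.Agent.Lib.CharCore.Virtual
import Cfsg.Prelude.Def_Perm
import Mathlib.LinearAlgebra.Matrix.ToLin
import Mathlib.Data.Fintype.CardEmbedding
import Mathlib.GroupTheory.GroupAction.MultipleTransitivity

/-!
# Permutation characters, orbit counting and fixed-point moments
-/

set_option autoImplicit false
set_option linter.style.haveILetI false
set_option linter.unusedSectionVars false

open MulAction Module

namespace Cfsg.Agent.Half51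

section Generic

variable {G : Type*} [Group G] [Fintype G] {X Y : Type*} [MulAction G X] [MulAction G Y]
  [Fintype X] [DecidableEq X] [Fintype Y] [DecidableEq Y]

/-- Number of fixed points. -/
def fixNum (X : Type*) [MulAction G X] [Fintype X] [DecidableEq X] (g : G) : ℕ :=
  (Finset.univ.filter fun x : X => g • x = x).card

/-- The permutation character. -/
noncomputable def permC (X : Type*) [MulAction G X] [Fintype X] [DecidableEq X] : G → ℂ :=
  fun g => (fixNum X g : ℂ)

theorem permRep_character (g : G) : (Cfsg.permRep ℂ G X).character g = permC X g := by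
  classical
  rw [Representation.character, LinearMap.trace_eq_matrix_trace ℂ (Pi.basisFun ℂ X), Matrix.trace,
    permC, fixNum, Finset.card_filter, Nat.cast_sum]
  refine Finset.sum_congr rfl fun x _ => ?_
  rw [Matrix.diag, LinearMap.toMatrix_apply, Pi.basisFun_apply, Pi.basisFun_repr]
  show (Pi.single x (1 : ℂ) : X → ℂ) (g⁻¹ • x) = _
  rw [Pi.single_apply]
  by_cases h : g • x = x
  · rw [if_pos (inv_smul_eq_iff.mpr h.symm), if_pos h, Nat.cast_one]
  · rw [if_neg (fun h' => h (inv_smul_eq_iff.mp h').symm), if_neg h, Nat.cast_zero]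

theorem isCharacter_permC : Cfsg.IsCharacter G (permC (G := G) X) := by
  rw [← funext permRep_character]
  exact CharCore.isCharacter_character _

/-- An injective equivariant map of permutation modules gives a character as difference. -/
theorem isCharacter_sub_of_injective (T : (X → ℂ) →ₗ[ℂ] (Y → ℂ)) (hT : Function.Injective T)
    (heq : ∀ (g : G) (h : X → ℂ), T (Cfsg.permRep ℂ G X g h) = Cfsg.permRep ℂ G Y g (T h)) :
    Cfsg.IsCharacter G (permC (G := G) Y - permC X) := by
  classical
  let S : Subrepresentation (Cfsg.permRep ℂ G Y) :=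
    { toSubmodule := LinearMap.range T
      apply_mem_toSubmodule := fun g v hv => by
        obtain ⟨h, rfl⟩ := hv
        exact ⟨Cfsg.permRep ℂ G X g h, heq g h⟩ }
  obtain ⟨U, hU⟩ := CharCore.exists_isCompl_subrep _ S
  have h1 := CharCore.character_eq_add_of_isCompl _ S U (CharCore.isCompl_toSubmodule hU)
  have h2 : (Cfsg.permRep ℂ G X).character = S.toRepresentation.character := by
    refine Representation.char_iso (Representation.Equiv.mk (LinearEquiv.ofInjective T hT) fun g => ?_)
    refine LinearMap.ext fun h => Subtype.ext ?_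
    exact heq g h
  have h3 : (permC (G := G) Y - permC X) = U.toRepresentation.character := by
    rw [← funext (permRep_character (G := G) (X := Y)),
      ← funext (permRep_character (G := G) (X := X)), h1, h2]
    abel
  rw [h3]
  exact CharCore.isCharacter_character _

theorem card_filter_smul_le (v w : X) :
    (Finset.univ.filter fun g : G => g • v = w).card ≤
      (Finset.univ.filter fun g : G => g • v = v).card := by
  classical
  by_cases h : ∃ g : G, g • v = w
  · obtain ⟨g₀, hg₀⟩ := h
    refine le_of_eq (Finset.card_bij (fun g _ => g₀⁻¹ * g) (fun g hg => ?_)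
      (fun a _ b _ hab => mul_left_cancel hab) fun g hg => ⟨g₀ * g, ?_, inv_mul_cancel_left _ _⟩)
    · simp only [Finset.mem_filter, Finset.mem_univ, true_and] at hg ⊢
      rw [mul_smul, hg, inv_smul_eq_iff, hg₀]
    · simp only [Finset.mem_filter, Finset.mem_univ, true_and] at hg ⊢
      rw [mul_smul, hg, hg₀]
  · rw [Finset.filter_eq_empty_iff.mpr fun g _ hg => h ⟨g, hg⟩, Finset.card_empty]
    exact Nat.zero_le _

/-- The twisted fixed-point numbers sum to at most the untwisted ones. -/
theorem sum_card_move_le (τ : X → X) :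
    ∑ g : G, (Finset.univ.filter fun v : X => g • v = τ v).card ≤ ∑ g : G, fixNum X g := by
  simp only [fixNum, Finset.card_filter]
  rw [Finset.sum_comm, Finset.sum_comm (f := fun (g : G) (v : X) => if g • v = v then 1 else 0)]
  refine Finset.sum_le_sum fun v _ => ?_
  rw [← Finset.card_filter, ← Finset.card_filter]
  exact card_filter_smul_le v (τ v)

theorem card_mul_card_filter [IsPretransitive G X] (v w : X) :
    Fintype.card X * (Finset.univ.filter fun g : G => g • v = w).card = Fintype.card G := by
  classical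
  have h : ∀ u, (Finset.univ.filter fun g : G => g • v = u).card =
      (Finset.univ.filter fun g : G => g • v = v).card := by
    intro u
    obtain ⟨g₀, hg₀⟩ := exists_smul_eq G v u
    refine Finset.card_bij (fun g _ => g₀⁻¹ * g) (fun g hg => ?_)
      (fun a _ b _ hab => mul_left_cancel hab) fun g hg => ⟨g₀ * g, ?_, inv_mul_cancel_left _ _⟩
    · simp only [Finset.mem_filter, Finset.mem_univ, true_and] at hg ⊢
      rw [mul_smul, hg, inv_smul_eq_iff, hg₀]
    · simp only [Finset.mem_filter, Finset.mem_univ, true_and] at hg ⊢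
      rw [mul_smul, hg, hg₀]
  have hsum := Finset.card_eq_sum_card_fiberwise (s := (Finset.univ : Finset G))
    (f := fun g : G => g • v) (t := Finset.univ) fun g _ => Finset.mem_coe.mpr (Finset.mem_univ _)
  rw [Finset.sum_congr rfl fun u _ => h u, Finset.sum_const, smul_eq_mul] at hsum
  rw [h w]
  simpa [Finset.card_univ] using hsum.symm

/-- On a transitive set every twist has total `|G|`. -/
theorem sum_card_move [IsPretransitive G X] [Nonempty X] (τ : X → X) :
    ∑ g : G, (Finset.univ.filter fun v : X => g • v = τ v).card = Fintype.card G := by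
  classical
  simp only [Finset.card_filter]
  rw [Finset.sum_comm]
  simp only [← Finset.card_filter]
  refine Nat.eq_of_mul_eq_mul_left (Fintype.card_pos (α := X)) ?_
  rw [Finset.mul_sum, Finset.sum_congr rfl fun v _ => card_mul_card_filter v (τ v), Finset.sum_const,
    Finset.card_univ, smul_eq_mul]

theorem sum_fixNum_eq :
    ∑ g : G, fixNum X g = Nat.card (orbitRel.Quotient G X) * Fintype.card G := by
  classical
  rw [Nat.card_eq_fintype_card, ← sum_card_fixedBy_eq_card_orbits_mul_card_group G X]
  exact Finset.sum_congr rfl fun g _ => (Fintype.card_subtype _).symm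

theorem le_sum_fixNum {k : ℕ} (v : Fin k → X) (hv : ∀ i j, i ≠ j → ∀ g : G, g • v i ≠ v j) :
    k * Fintype.card G ≤ ∑ g : G, fixNum X g := by
  classical
  rw [sum_fixNum_eq]
  refine Nat.mul_le_mul_right _ ?_
  have := Nat.card_le_card_of_injective (fun i => (Quotient.mk'' (v i) : orbitRel.Quotient G X))
    fun i j hij => by
      by_contra hne
      obtain ⟨g, hg⟩ := MulAction.orbitRel_apply.mp (Quotient.eq''.mp hij)
      exact hv j i (Ne.symm hne) g hg
  simpa using this

theorem classInner_permC_one :
    Cfsg.classInner (permC (G := G) X) 1 = (Nat.card (orbitRel.Quotient G X) : ℂ) := by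
  classical
  simp only [Cfsg.classInner, Pi.one_apply, map_one, mul_one, permC]
  rw [← Nat.cast_sum, sum_fixNum_eq, Nat.cast_mul, Nat.card_eq_fintype_card (α := G),
    mul_comm (Nat.card _ : ℂ), ← mul_assoc,
    inv_mul_cancel₀ (Nat.cast_ne_zero.mpr Fintype.card_ne_zero), one_mul]

end Generic

section Points

variable {G : Type*} [Group G] [Fintype G] {Ω : Type*} [MulAction G Ω] [Fintype Ω] [DecidableEq Ω]

/-- The number of points in 2-cycles. -/
def swp (Ω : Type*) [MulAction G Ω] [Fintype Ω] [DecidableEq Ω] (g : G) : ℕ :=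
  (Finset.univ.filter fun x : Ω => g • x ≠ x ∧ g • (g • x) = x).card

theorem swp_add_fix_le (g : G) : swp Ω g + fixNum Ω g ≤ Fintype.card Ω := by
  rw [swp, fixNum, ← Finset.card_union_of_disjoint]
  · exact Finset.card_le_univ _
  · rw [Finset.disjoint_filter]
    exact fun x _ h => h.1

theorem fixNum_one : fixNum Ω (1 : G) = Fintype.card Ω := by
  simp [fixNum]

theorem swp_one : swp Ω (1 : G) = 0 := by
  simp [swp]

theorem fixNum_emb (n : ℕ) (g : G) :
    fixNum (Fin n ↪ Ω) g = (fixNum Ω g).descFactorial n := by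
  classical
  rw [fixNum, fixNum, ← Fintype.card_coe (Finset.univ.filter fun x : Ω => g • x = x),
    ← Fintype.card_fin n, ← Fintype.card_embedding_eq, Fintype.card_fin, ← Fintype.card_coe]
  refine Fintype.card_congr
    { toFun := fun v => ⟨fun i => ⟨v.1 i, ?_⟩, fun i j h => v.1.injective (congrArg Subtype.val h)⟩
      invFun := fun w => ⟨w.trans (Function.Embedding.subtype _), ?_⟩
      left_inv := fun v => Subtype.ext (Function.Embedding.ext fun i => rfl)
      right_inv := fun w => Function.Embedding.ext fun i => rfl }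
  · have h := (Finset.mem_filter.mp v.2).2
    exact Finset.mem_filter.mpr ⟨Finset.mem_univ _,
      by rw [← Function.Embedding.smul_apply, h]⟩
  · refine Finset.mem_filter.mpr ⟨Finset.mem_univ _, Function.Embedding.ext fun i => ?_⟩
    exact (Finset.mem_filter.mp (w i).2).2

/-- Relabel a tuple by a permutation of the indices. -/
def relab {n : ℕ} (π : Equiv.Perm (Fin n)) (v : Fin n ↪ Ω) : Fin n ↪ Ω := π.toEmbedding.trans v

theorem relab_apply {n : ℕ} (π : Equiv.Perm (Fin n)) (v : Fin n ↪ Ω) (i : Fin n) :
    relab π v i = v (π i) := rfl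

theorem smul_eq_relab_iff {n : ℕ} (π : Equiv.Perm (Fin n)) (g : G) (v : Fin n ↪ Ω) :
    g • v = relab π v ↔ ∀ i, g • v i = v (π i) :=
  ⟨fun h i => by rw [← Function.Embedding.smul_apply, h, relab_apply],
    fun h => Function.Embedding.ext h⟩

theorem move_two (g : G) :
    (Finset.univ.filter fun v : Fin 2 ↪ Ω => g • v = relab (Equiv.swap 0 1) v).card = swp Ω g := by
  classical
  refine Finset.card_bij (fun v _ => v 0) (fun v hv => ?_) (fun v hv w hw h => ?_) fun x hx => ?_
  · obtain ⟨-, hv⟩ := Finset.mem_filter.mp hv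
    rw [smul_eq_relab_iff] at hv
    refine Finset.mem_filter.mpr ⟨Finset.mem_univ _, ?_, ?_⟩
    · rw [hv 0, Equiv.swap_apply_left]
      exact v.injective.ne (by decide)
    · rw [hv 0, Equiv.swap_apply_left, hv 1, Equiv.swap_apply_right]
  · have hv := (Finset.mem_filter.mp hv).2
    have hw := (Finset.mem_filter.mp hw).2
    rw [smul_eq_relab_iff] at hv hw
    refine Function.Embedding.ext fun i => ?_
    fin_cases i
    · exact h
    · have h0 := hv 0; have h1 := hw 0
      rw [Equiv.swap_apply_left] at h0 h1
      show v 1 = w 1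
      rw [← h0, ← h1, h]
  · obtain ⟨-, hx1, hx2⟩ := Finset.mem_filter.mp hx
    refine ⟨⟨![x, g • x], fun i j h => ?_⟩, Finset.mem_filter.mpr ⟨Finset.mem_univ _, ?_⟩, rfl⟩
    · fin_cases i <;> fin_cases j <;> (first | rfl | exact absurd h.symm hx1 | exact absurd h hx1)
    · rw [smul_eq_relab_iff]
      intro i
      fin_cases i
      · rfl
      · exact hx2

theorem move_three (g : G) :
    (Finset.univ.filter fun v : Fin 3 ↪ Ω => g • v = relab (Equiv.swap 0 1) v).card =
      swp Ω g * fixNum Ω g := by
  classical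
  rw [swp, fixNum, ← Finset.card_product]
  refine Finset.card_bij (fun v _ => (v 0, v 2)) (fun v hv => ?_) (fun v hv w hw h => ?_) fun x hx => ?_
  · have hv := (Finset.mem_filter.mp hv).2
    rw [smul_eq_relab_iff] at hv
    refine Finset.mem_product.mpr ⟨Finset.mem_filter.mpr ⟨Finset.mem_univ _, ?_, ?_⟩,
      Finset.mem_filter.mpr ⟨Finset.mem_univ _, ?_⟩⟩
    · rw [hv 0, Equiv.swap_apply_left]
      exact v.injective.ne (by decide)
    · rw [hv 0, Equiv.swap_apply_left, hv 1, Equiv.swap_apply_right]
    · show g • v 2 = v 2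
      rw [hv 2, Equiv.swap_apply_of_ne_of_ne (by decide) (by decide)]
  · have hv := (Finset.mem_filter.mp hv).2
    have hw := (Finset.mem_filter.mp hw).2
    rw [smul_eq_relab_iff] at hv hw
    simp only [Prod.mk.injEq] at h
    refine Function.Embedding.ext fun i => ?_
    fin_cases i
    · exact h.1
    · have h0 := hv 0; have h1 := hw 0
      rw [Equiv.swap_apply_left] at h0 h1
      show v 1 = w 1
      rw [← h0, ← h1, h.1]
    · exact h.2
  · obtain ⟨x, z⟩ := x
    obtain ⟨hx, hz⟩ := Finset.mem_product.mp hx
    obtain ⟨-, hx1, hx2⟩ := Finset.mem_filter.mp hx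
    have hz' : g • z = z := (Finset.mem_filter.mp hz).2
    have hxz : x ≠ z := fun h => hx1 (by show g • x = x; rw [h, hz'])
    have hgz : g • x ≠ z := fun h => hxz (smul_left_cancel g (h.trans hz'.symm))
    refine ⟨⟨![x, g • x, z], fun i j h => ?_⟩, Finset.mem_filter.mpr ⟨Finset.mem_univ _, ?_⟩, rfl⟩
    · fin_cases i <;> fin_cases j <;>
        (first | rfl | exact absurd h.symm hx1 | exact absurd h hx1 | exact absurd h hxz | exact absurd h.symm hxz | exact absurd h hgz | exact absurd h.symm hgz)
    · rw [smul_eq_relab_iff]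
      intro i
      fin_cases i
      · rfl
      · exact hx2
      · exact hz'

theorem move_four (g : G) :
    (Finset.univ.filter fun v : Fin 4 ↪ Ω => g • v = relab (Equiv.swap 0 1) v).card =
      swp Ω g * (fixNum Ω g * (fixNum Ω g - 1)) := by
  classical
  rw [swp, fixNum]
  set F := Finset.univ.filter fun x : Ω => g • x = x with hF
  rw [Nat.mul_sub_one, ← Finset.offDiag_card, ← Finset.card_product]
  refine Finset.card_bij (fun v _ => (v 0, (v 2, v 3))) (fun v hv => ?_) (fun v hv w hw h => ?_)
    fun x hx => ?_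
  · have hv := (Finset.mem_filter.mp hv).2
    rw [smul_eq_relab_iff] at hv
    refine Finset.mem_product.mpr ⟨Finset.mem_filter.mpr ⟨Finset.mem_univ _, ?_, ?_⟩,
      Finset.mem_offDiag.mpr ⟨?_, ?_, v.injective.ne (by decide)⟩⟩
    · rw [hv 0, Equiv.swap_apply_left]
      exact v.injective.ne (by decide)
    · rw [hv 0, Equiv.swap_apply_left, hv 1, Equiv.swap_apply_right]
    · refine Finset.mem_filter.mpr ⟨Finset.mem_univ _, ?_⟩
      show g • v 2 = v 2
      rw [hv 2, Equiv.swap_apply_of_ne_of_ne (by decide) (by decide)]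
    · refine Finset.mem_filter.mpr ⟨Finset.mem_univ _, ?_⟩
      show g • v 3 = v 3
      rw [hv 3, Equiv.swap_apply_of_ne_of_ne (by decide) (by decide)]
  · have hv := (Finset.mem_filter.mp hv).2
    have hw := (Finset.mem_filter.mp hw).2
    rw [smul_eq_relab_iff] at hv hw
    simp only [Prod.mk.injEq] at h
    refine Function.Embedding.ext fun i => ?_
    fin_cases i
    · exact h.1
    · have h0 := hv 0; have h1 := hw 0
      rw [Equiv.swap_apply_left] at h0 h1
      show v 1 = w 1
      rw [← h0, ← h1, h.1]
    · exact h.2.1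
    · exact h.2.2
  · obtain ⟨x, z, w⟩ := x
    obtain ⟨hx, hzw⟩ := Finset.mem_product.mp hx
    obtain ⟨-, hx1, hx2⟩ := Finset.mem_filter.mp hx
    obtain ⟨hz, hw, hne⟩ := Finset.mem_offDiag.mp hzw
    have hz' : g • z = z := (Finset.mem_filter.mp hz).2
    have hw' : g • w = w := (Finset.mem_filter.mp hw).2
    have hxz : x ≠ z := fun h => hx1 (by show g • x = x; rw [h, hz'])
    have hgz : g • x ≠ z := fun h => hxz (smul_left_cancel g (h.trans hz'.symm))
    have hxw : x ≠ w := fun h => hx1 (by show g • x = x; rw [h, hw'])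
    have hgw : g • x ≠ w := fun h => hxw (smul_left_cancel g (h.trans hw'.symm))
    refine ⟨⟨![x, g • x, z, w], fun i j h => ?_⟩, Finset.mem_filter.mpr ⟨Finset.mem_univ _, ?_⟩, rfl⟩
    · fin_cases i <;> fin_cases j <;>
        (first | rfl | exact absurd h.symm hx1 | exact absurd h hx1 | exact absurd h hxz | exact absurd h.symm hxz | exact absurd h hgz | exact absurd h.symm hgz | exact absurd h hxw | exact absurd h.symm hxw | exact absurd h hgw | exact absurd h.symm hgw | exact absurd h hne | exact absurd h.symm hne)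
    · rw [smul_eq_relab_iff]
      intro i
      fin_cases i
      · rfl
      · exact hx2
      · exact hz'
      · exact hw'

theorem move_four_double (g : G) :
    (Finset.univ.filter fun v : Fin 4 ↪ Ω =>
      g • v = relab (Equiv.swap 0 1 * Equiv.swap 2 3) v).card = swp Ω g * (swp Ω g - 2) := by
  classical
  rw [swp]
  set S := Finset.univ.filter fun x : Ω => g • x ≠ x ∧ g • (g • x) = x with hS
  have hmem : ∀ x, x ∈ S ↔ g • x ≠ x ∧ g • (g • x) = x := fun x => by
    rw [hS, Finset.mem_filter]; simp
  have hcard : ((S ×ˢ S).filter fun x => x.2 ≠ x.1 ∧ x.2 ≠ g • x.1).card =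
      S.card * (S.card - 2) := by
    rw [Finset.card_filter, Finset.sum_product]
    simp only [← Finset.card_filter]
    refine (Finset.sum_eq_card_nsmul (b := S.card - 2) fun x hx => ?_).trans (smul_eq_mul _ _)
    obtain ⟨hx1, hx2⟩ := (hmem x).mp hx
    have hgx : g • x ∈ S := (hmem _).mpr
      ⟨fun h => hx1 (h.symm.trans hx2), by rw [hx2]⟩
    have : S.filter (fun y => y ≠ x ∧ y ≠ g • x) = (S.erase x).erase (g • x) := by
      ext y
      simp only [Finset.mem_filter, Finset.mem_erase]
      tauto
    rw [this, Finset.card_erase_of_mem (Finset.mem_erase.mpr ⟨hx1, hgx⟩),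
      Finset.card_erase_of_mem hx]
    omega
  rw [← hcard]
  refine Finset.card_bij (fun v _ => (v 0, v 2)) (fun v hv => ?_) (fun v hv w hw h => ?_) fun x hx => ?_
  · have hv := (Finset.mem_filter.mp hv).2
    rw [smul_eq_relab_iff] at hv
    have e0 : g • v 0 = v 1 := hv 0
    have e1 : g • v 1 = v 0 := hv 1
    have e2 : g • v 2 = v 3 := hv 2
    have e3 : g • v 3 = v 2 := hv 3
    refine Finset.mem_filter.mpr ⟨Finset.mem_product.mpr ⟨(hmem _).mpr ⟨?_, ?_⟩,
      (hmem _).mpr ⟨?_, ?_⟩⟩, v.injective.ne (by decide), ?_⟩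
    · rw [e0]; exact v.injective.ne (by decide)
    · rw [e0, e1]
    · show g • v 2 ≠ v 2
      rw [e2]; exact v.injective.ne (by decide)
    · show g • g • v 2 = v 2
      rw [e2, e3]
    · show v 2 ≠ g • v 0
      rw [e0]; exact v.injective.ne (by decide)
  · have hv := (Finset.mem_filter.mp hv).2
    have hw := (Finset.mem_filter.mp hw).2
    rw [smul_eq_relab_iff] at hv hw
    simp only [Prod.mk.injEq] at h
    refine Function.Embedding.ext fun i => ?_
    fin_cases i
    · exact h.1
    · show v 1 = w 1
      rw [show v 1 = g • v 0 from (hv 0).symm, show w 1 = g • w 0 from (hw 0).symm, h.1]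
    · exact h.2
    · show v 3 = w 3
      rw [show v 3 = g • v 2 from (hv 2).symm, show w 3 = g • w 2 from (hw 2).symm, h.2]
  · obtain ⟨x, z⟩ := x
    obtain ⟨hxz, hne1, hne2⟩ := Finset.mem_filter.mp hx
    obtain ⟨hx', hz'⟩ := Finset.mem_product.mp hxz
    obtain ⟨hx1, hx2⟩ := (hmem x).mp hx'
    obtain ⟨hz1, hz2⟩ := (hmem z).mp hz'
    have h3 : g • z ≠ x := fun h => hne2 (by rw [← h, hz2])
    have h4 : g • z ≠ g • x := fun h => hne1 (smul_left_cancel g h)
    refine ⟨⟨![x, g • x, z, g • z], fun i j h => ?_⟩, Finset.mem_filter.mpr ⟨Finset.mem_univ _, ?_⟩, rfl⟩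
    · fin_cases i <;> fin_cases j <;>
        (first | rfl | exact absurd h.symm hx1 | exact absurd h hx1 | exact absurd h hz1 | exact absurd h.symm hz1 | exact absurd h hne1 | exact absurd h.symm hne1 | exact absurd h hne2 | exact absurd h.symm hne2 | exact absurd h h3 | exact absurd h.symm h3 | exact absurd h h4 | exact absurd h.symm h4)
    · rw [smul_eq_relab_iff]
      intro i
      fin_cases i
      · rfl
      · exact hx2
      · rfl
      · exact hz2

/-- Unordered pairs. -/
def Pair (Ω : Type*) [DecidableEq Ω] : Type _ := {s : Finset Ω // s.card = 2}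

instance : Fintype (Pair Ω) := inferInstanceAs (Fintype {s : Finset Ω // s.card = 2})

instance : DecidableEq (Pair Ω) := inferInstanceAs (DecidableEq {s : Finset Ω // s.card = 2})

instance : MulAction G (Pair Ω) where
  smul g s := ⟨s.1.map (MulAction.toPerm g).toEmbedding, by rw [Finset.card_map]; exact s.2⟩
  one_smul s := Subtype.ext (by
    show s.1.map _ = s.1
    ext x; simp)
  mul_smul g h s := Subtype.ext (by
    show s.1.map _ = (s.1.map _).map _
    rw [Finset.map_map]
    congr 1
    ext x
    exact mul_smul g h x)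

/-- The pair of a tuple. -/
def mkPair (v : Fin 2 ↪ Ω) : Pair Ω :=
  ⟨{v 0, v 1}, Finset.card_pair (v.injective.ne (by decide))⟩

theorem mkPair_smul (g : G) (v : Fin 2 ↪ Ω) : mkPair (g • v) = g • mkPair v := by
  apply Subtype.ext
  show ({g • v 0, g • v 1} : Finset Ω) = ({v 0, v 1} : Finset Ω).map _
  rw [Finset.map_insert, Finset.map_singleton]
  rfl

theorem mkPair_surjective : Function.Surjective (mkPair (Ω := Ω)) := by
  rintro ⟨s, hs⟩
  obtain ⟨a, b, hab, rfl⟩ := Finset.card_eq_two.mp hs
  refine ⟨⟨![a, b], fun i j h => ?_⟩, Subtype.ext rfl⟩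
  fin_cases i <;> fin_cases j <;> (first | rfl | exact absurd h hab | exact absurd h.symm hab)

theorem mkPair_eq_iff (v w : Fin 2 ↪ Ω) :
    mkPair w = mkPair v ↔ w = v ∨ w = relab (Equiv.swap 0 1) v := by
  constructor
  · intro h
    have h' : ({w 0, w 1} : Finset Ω) = {v 0, v 1} := congrArg Subtype.val h
    have h0 : w 0 = v 0 ∨ w 0 = v 1 := by
      have : w 0 ∈ ({v 0, v 1} : Finset Ω) := h' ▸ Finset.mem_insert_self _ _
      simpa using this
    have h1 : w 1 = v 0 ∨ w 1 = v 1 := by
      have : w 1 ∈ ({v 0, v 1} : Finset Ω) := h' ▸ (by simp)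
      simpa using this
    have hne : w 0 ≠ w 1 := w.injective.ne (by decide)
    rcases h0 with h0 | h0 <;> rcases h1 with h1 | h1
    · exact absurd (h0.trans h1.symm) hne
    · exact Or.inl (Function.Embedding.ext fun i => by fin_cases i <;> assumption)
    · exact Or.inr (Function.Embedding.ext fun i => by fin_cases i <;> assumption)
    · exact absurd (h0.trans h1.symm) hne
  · rintro (rfl | rfl)
    · rfl
    · exact Subtype.ext (Finset.pair_comm _ _)

theorem two_mul_fixNum_pair (g : G) :
    2 * fixNum (Pair Ω) g = fixNum Ω g * (fixNum Ω g - 1) + swp Ω g := by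
  classical
  have hd : (fixNum Ω g).descFactorial 2 = fixNum Ω g * (fixNum Ω g - 1) := by
    simp [Nat.descFactorial]; ring
  rw [← hd, ← fixNum_emb, ← move_two]
  unfold fixNum
  rw [← Finset.card_union_of_disjoint]
  · symm
    rw [← Finset.filter_or, mul_comm, ← smul_eq_mul, ← Finset.sum_const]
    rw [Finset.card_eq_sum_card_fiberwise (f := mkPair)
      (t := Finset.univ.filter fun e : Pair Ω => g • e = e) fun v hv => ?_]
    · refine Finset.sum_congr rfl fun e he => ?_
      obtain ⟨v, rfl⟩ := mkPair_surjective e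
      have hv := (Finset.mem_filter.mp he).2
      rw [← mkPair_smul, mkPair_eq_iff] at hv
      have : (Finset.univ.filter fun w : Fin 2 ↪ Ω =>
          g • w = w ∨ g • w = relab (Equiv.swap 0 1) w).filter (fun w => mkPair w = mkPair v) =
          {v, relab (Equiv.swap 0 1) v} := by
        ext w
        simp only [Finset.mem_filter, Finset.mem_univ, true_and, Finset.mem_insert,
          Finset.mem_singleton, mkPair_eq_iff]
        refine ⟨fun h => h.2, fun h => ⟨?_, h⟩⟩
        rcases h with rfl | rfl
        · exact hv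
        · have hc : g • relab (Equiv.swap 0 1) v = relab (Equiv.swap 0 1) (g • v) := rfl
          rcases hv with hv | hv
          · exact Or.inl (by rw [hc, hv])
          · exact Or.inr (by rw [hc, hv])
      rw [this, Finset.card_pair]
      intro h
      exact v.injective.ne (by decide : (0 : Fin 2) ≠ 1) (DFunLike.congr_fun h 0)
    · have hv := (Finset.mem_filter.mp hv).2
      refine Finset.mem_filter.mpr ⟨Finset.mem_univ _, ?_⟩
      rw [← mkPair_smul, mkPair_eq_iff]
      exact hv
  · rw [Finset.disjoint_filter]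
    intro v _ h1 h2
    rw [h1] at h2
    exact v.injective.ne (by decide : (0 : Fin 2) ≠ 1) (DFunLike.congr_fun h2 0)

theorem isCharacter_pair_sub (h3 : 3 ≤ Fintype.card Ω) :
    Cfsg.IsCharacter G (permC (G := G) (Pair Ω) - permC Ω) := by
  classical
  let T : (Ω → ℂ) →ₗ[ℂ] (Pair Ω → ℂ) :=
    { toFun := fun h s => ∑ x ∈ s.1, h x
      map_add' := fun h k => funext fun s => Finset.sum_add_distrib
      map_smul' := fun c h => funext fun s => by simp [Finset.mul_sum] }
  refine isCharacter_sub_of_injective T ?_ fun g h => funext fun s => ?_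
  · refine (injective_iff_map_eq_zero T).mpr fun h hh => funext fun a => ?_
    obtain ⟨b, hb, c, hc, hbc⟩ := Finset.one_lt_card.mp
      (show 1 < (Finset.univ.erase a).card by
        rw [Finset.card_erase_of_mem (Finset.mem_univ a), Finset.card_univ]; omega)
    have e : ∀ x y : Ω, x ≠ y → h x + h y = 0 := fun x y hxy => by
      have := congrFun hh (⟨{x, y}, Finset.card_pair hxy⟩ : Pair Ω)
      exact (Finset.sum_pair hxy).symm.trans this
    have h1 := e a b (Ne.symm (Finset.ne_of_mem_erase hb))
    have h2 := e a c (Ne.symm (Finset.ne_of_mem_erase hc))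
    have h4 := e b c hbc
    show h a = 0
    linear_combination (h1 + h2 - h4) / 2
  · show ∑ x ∈ s.1, h (g⁻¹ • x) = ∑ x ∈ (s.1.map (MulAction.toPerm g⁻¹).toEmbedding), h x
    rw [Finset.sum_map]
    rfl

theorem isCharacter_emb_sub_pair :
    Cfsg.IsCharacter G (permC (G := G) (Fin 2 ↪ Ω) - permC (Pair Ω)) := by
  classical
  let T : (Pair Ω → ℂ) →ₗ[ℂ] ((Fin 2 ↪ Ω) → ℂ) := LinearMap.funLeft ℂ ℂ mkPair
  refine isCharacter_sub_of_injective T
    (LinearMap.funLeft_injective_of_surjective ℂ ℂ _ mkPair_surjective) fun g h => funext fun v => ?_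
  show h (g⁻¹ • mkPair v) = h (mkPair (g⁻¹ • v))
  rw [mkPair_smul]

end Points

end Cfsg.Agent.Half51
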