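import Cfsg.Agent.Half51.Defs
import Cfsg.Agent.OddLocal44.HalfNormalizer
import Cfsg.Agent.S0676
import Cfsg.Agent.Lib.Perm.DegreeSeven
import Cfsg.Agent.Lib.Perm.DegreeEleven
import Cfsg.Agent.Lib.LinearGroup.SmallPSL
import Cfsg.Agent.Classification.SmallPSLUnique

/-!
# S3615: small degrees and transport to `ZMod p`
-/

set_option autoImplicit false
open MulAction

namespace Cfsg.Agent.Half51

/-- A group containing the alternating group is four-fold transitive in degree at least six. -/
theorem four_of_alt {α : Type*} [Fintype α] [DecidableEq α] (H : Subgroup (Equiv.Perm α))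
    (hA : alternatingGroup α ≤ H) (h6 : 6 ≤ Fintype.card α) :
    IsMultiplyPretransitive H α 4 := by
  have : IsMultiplyPretransitive (alternatingGroup α) α (Nat.card α - 2) :=
    alternatingGroup.isMultiplyPretransitive α
  have : IsMultiplyPretransitive (alternatingGroup α) α 4 :=
    isMultiplyPretransitive_of_le (n := Nat.card α - 2)
      (by rw [Nat.card_eq_fintype_card]; omega) (Nat.sub_le _ _)
  have hpA : IsPretransitive (alternatingGroup α) (Fin 4 ↪ α) := this
  exact ⟨fun x y => by
    obtain ⟨g, hg⟩ := hpA.exists_smul_eq x y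
    exact ⟨⟨g, hA g.2⟩, hg⟩⟩

/-- Isomorphic groups have Sylow normalisers of the same order. -/
theorem card_normalizer_congr {G H : Type*} [Group G] [Finite G] [Group H] [Finite H]
    {p : ℕ} [Fact p.Prime] (ε : G ≃* H) (P : Sylow p G) (Q : Sylow p H) :
    Nat.card ↥(Subgroup.normalizer ((Q : Subgroup H) : Set H)) =
      Nat.card ↥(Subgroup.normalizer ((P : Subgroup G) : Set G)) := by
  have hsurj : Function.Surjective ε.toMonoidHom := ε.surjective
  have h1 : (Subgroup.normalizer ((P : Subgroup G) : Set G)).map ε.toMonoidHom =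
      Subgroup.normalizer (((P.mapSurjective hsurj : Sylow p H) :
        Subgroup H) : Set H) := by
    rw [Sylow.coe_mapSurjective]
    exact Subgroup.map_equiv_normalizer_eq _ ε
  have h2 : (Subgroup.normalizer ((Q : Subgroup H) : Set H)).index =
      (Subgroup.normalizer (((P.mapSurjective hsurj : Sylow p H) :
        Subgroup H) : Set H)).index := by
    exact Q.card_eq_index_normalizer.symm.trans (P.mapSurjective hsurj).card_eq_index_normalizer
  have h3 := Subgroup.card_mul_index (Subgroup.normalizer ((Q : Subgroup H) : Set H))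
  have h4 := Subgroup.card_mul_index (Subgroup.normalizer
    (((P.mapSurjective hsurj : Sylow p H) : Subgroup H) : Set H))
  rw [h2] at h3
  have h5 := Nat.eq_of_mul_eq_mul_right (Nat.pos_of_ne_zero Subgroup.index_ne_zero_of_finite)
    (h3.trans h4.symm)
  rw [h5, ← h1]
  exact (Nat.card_congr
    ((Subgroup.normalizer ((P : Subgroup G) : Set G)).equivMapOfInjective ε.toMonoidHom
      ε.injective).toEquiv).symm

/-- The reduction of S3615 to `Setup`. -/
theorem reduce (main : ∀ (p q : ℕ) [Fact p.Prime] (G : Subgroup (Equiv.Perm (ZMod p))),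
      Setup p q G → False)
    {G Ω : Type*} [Group G] [Finite G] [MulAction G Ω] [FaithfulSMul G Ω] [Finite Ω]
    (p : ℕ) (hp : p.Prime) (hΩ : Nat.card Ω = p) (htrans : MulAction.IsPretransitive G Ω)
    (hins : ¬ Group.IsSolvable G) (P : Sylow p G)
    (hN : 2 * Nat.card ↥(Subgroup.normalizer ((P : Subgroup G) : Set G)) = p * (p - 1))
    (q : ℕ) (hq : q.Prime) (hpq : p = 2 * q + 1) :
    MulAction.IsMultiplyPretransitive G Ω 4 ∨
    ((p = 5 ∨ p = 7 ∨ p = 11) ∧
      Nonempty (G ≃* Matrix.ProjectiveSpecialLinearGroup (Fin 2) (ZMod p))) := by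
  classical
  haveI := Fact.mk hp
  haveI := Fintype.ofFinite Ω
  haveI := htrans
  have hcard : Fintype.card Ω = p := Nat.card_eq_fintype_card.symm.trans hΩ
  obtain ⟨-, -, e, he, -⟩ := OddLocal44.half_normalizer_setup hcard hins P hN
  by_cases h4 : IsMultiplyPretransitive G Ω 4
  · exact Or.inl h4
  right
  let ρ : G →* Equiv.Perm (ZMod p) :=
    (Equiv.permCongrHom e.symm).toMonoidHom.comp (MulAction.toPermHom G Ω)
  have hρ : ∀ g x, ρ g x = e.symm (g • e x) := fun g x => rfl
  have hinj : Function.Injective ρ :=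
    ((Equiv.permCongrHom e.symm).injective).comp MulAction.toPerm_injective
  let H : Subgroup (Equiv.Perm (ZMod p)) := ρ.range
  let ε : G ≃* H := MonoidHom.ofInjective hinj
  have hε : ∀ g x, (ε g : Equiv.Perm (ZMod p)) x = e.symm (g • e x) := hρ
  have hnsH : ¬ Group.IsSolvable H := fun h =>
    hins (solvable_of_solvable_injective (f := ε.toMonoidHom) ε.injective)
  have hcN : ∀ Q : Sylow p H,
      2 * Nat.card ↥(Subgroup.normalizer ((Q : Subgroup H) : Set H)) = p * (p - 1) := fun Q => by
    rw [card_normalizer_congr ε P Q, hN]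
  haveI : IsPretransitive H (ZMod p) := ⟨fun x y => by
    obtain ⟨g, hg⟩ := exists_smul_eq G (e x) (e y)
    exact ⟨ε g, (hε g x).trans (by rw [hg, Equiv.symm_apply_apply])⟩⟩
  have hn4 : ¬ IsMultiplyPretransitive H (ZMod p) 4 := fun h => h4 ⟨fun x y => by
    obtain ⟨k, hk⟩ := h.exists_smul_eq (x.trans e.symm.toEmbedding) (y.trans e.symm.toEmbedding)
    obtain ⟨g, rfl⟩ := ε.surjective k
    refine ⟨g, Function.Embedding.ext fun i => e.symm.injective ?_⟩
    have h1 : (ε g : Equiv.Perm (ZMod p)) (e.symm (x i)) = e.symm (y i) := DFunLike.congr_fun hk i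
    rw [hε, Equiv.apply_symm_apply] at h1
    exact h1⟩
  rcases Nat.lt_or_ge q 11 with h11 | h11
  swap
  · refine (main p q H ⟨hq, h11, hpq, hnsH, hcN, fun s c hs hsq => ?_, hn4⟩).elim
    obtain ⟨g, hg⟩ := he s c hs hsq
    exact ⟨ρ g, ⟨g, rfl⟩, fun x => by rw [hρ, hg, Equiv.symm_apply_apply]⟩
  obtain rfl | rfl | rfl | rfl : q = 2 ∨ q = 3 ∨ q = 5 ∨ q = 7 := by
    have := hq.two_le
    interval_cases q <;> simp_all (config := { decide := true })
  · -- degree five
    obtain rfl : p = 5 := by omega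
    refine ⟨Or.inl rfl, ?_⟩
    have h3 := Cfsg.Agent.S0676.result (p := 5) (ZMod.card 5) H hnsH default
      (by have h0 := hcN default; exact ⟨5, by omega⟩)
    haveI : IsPretransitive H (Fin 3 ↪ ZMod 5) := h3
    haveI : Nonempty (Fin 3 ↪ ZMod 5) :=
      Function.Embedding.nonempty_of_card_le (by rw [Fintype.card_fin, ZMod.card]; norm_num)
    have h60 : 60 ∣ Nat.card H := by
      have h := @Agent.Perm.card_dvd_card ↥H _ (Fin 3 ↪ ZMod 5) _ h3 inferInstance
      rwa [Nat.card_eq_fintype_card, Fintype.card_embedding_eq, Fintype.card_fin, ZMod.card,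
        show Nat.descFactorial 5 3 = 60 from rfl] at h
    have hidx := H.index_mul_card
    rw [Nat.card_perm, Nat.card_zmod, show Nat.factorial 5 = 120 from rfl] at hidx
    obtain ⟨m, hm⟩ := h60
    have h2 : H.index = 1 ∨ H.index = 2 := (Nat.dvd_prime Nat.prime_two).1
      ⟨m, by rw [hm] at hidx; nlinarith⟩
    rcases h2 with h2 | h2
    · rw [Subgroup.index_eq_one] at h2
      refine absurd ⟨fun x y => ?_⟩ hn4
      haveI := Equiv.Perm.isMultiplyPretransitive (ZMod 5) 4
      obtain ⟨g, hg⟩ := exists_smul_eq (Equiv.Perm (ZMod 5)) x y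
      exact ⟨⟨g, h2 ▸ Subgroup.mem_top g⟩, hg⟩
    · have hA := Equiv.Perm.eq_alternatingGroup_of_index_eq_two h2
      obtain ⟨f⟩ := LinearGroup.psl_two_five (F := ZMod 5) (Nat.card_zmod 5)
      exact ⟨ε.trans ((MulEquiv.subgroupCongr hA).trans
        ((Equiv.altCongrHom (ZMod.finEquiv 5).toEquiv.symm).trans f.symm))⟩
  · -- degree seven
    obtain rfl : p = 7 := by omega
    refine ⟨Or.inr (Or.inl rfl), ?_⟩
    have hA : ¬ alternatingGroup (ZMod 7) ≤ H := fun h =>
      hn4 (four_of_alt H h (by rw [ZMod.card]; norm_num))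
    obtain ⟨h168, hs⟩ := Agent.Perm.DegreeSeven.main (ZMod.card 7) H hnsH hA
    haveI := hs
    haveI : IsSimpleGroup (Matrix.ProjectiveSpecialLinearGroup (Fin 2) (ZMod 7)) :=
      Classification.isSimpleGroup_psl_two (ZMod 7) (by rw [ZMod.card]; norm_num)
    have h168' : Nat.card (Matrix.ProjectiveSpecialLinearGroup (Fin 2) (ZMod 7)) = 168 := by
      have h := Cfsg.Agent.LinearGroup.gcd_mul_card_PSL_two (F := ZMod 7)
      rw [Nat.card_zmod, show Nat.gcd 2 (7 - 1) = 2 by decide,
        show 7 * (7 ^ 2 - 1) = 336 by norm_num] at h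
      omega
    obtain ⟨f⟩ := Classification.equiv_168 h168 h168'
    exact ⟨ε.trans f⟩
  · -- degree eleven
    obtain rfl : p = 11 := by omega
    refine ⟨Or.inr (Or.inr rfl), ?_⟩
    have hA : ¬ alternatingGroup (ZMod 11) ≤ H := fun h =>
      hn4 (four_of_alt H h (by rw [ZMod.card]; norm_num))
    rcases Agent.Perm.DegreeEleven.main (ZMod.card 11) H hnsH hA with h | ⟨⟨f⟩⟩
    · exact absurd h.1 hn4
    · exact ⟨ε.trans f⟩
  · exfalso
    subst hpq
    exact absurd hp (by norm_num)

end Cfsg.Agent.Half51
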