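import Cfsg.Agent.Lib.BlocksCore.CyclicPrincipal
import Cfsg.Agent.Blocks88.Modular

/-!
# The shape of the characters at a self-centralizing Sylow subgroup of prime order
-/

set_option autoImplicit false
set_option linter.style.haveILetI false
set_option linter.unusedSectionVars false

namespace Cfsg.Agent.Half51

open SmallGroups.SelfCent

variable {G : Type*} [Group G] [Fintype G] {r : ℕ} [hr : Fact r.Prime] (s : Setup G r)

/-- The exceptional characters and the constants of the others. -/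
structure Shape [Fintype s.Orb] [DecidableEq s.Orb] where
  exc : s.Orb → Cfsg.IrrCharacter G
  c : Cfsg.IrrCharacter G → ℤ
  ε : ℤ
  hε : ε = 1 ∨ ε = -1
  exc_inj : Function.Injective exc
  vecO_exc : ∀ i j, s.vecO (exc j) i = if i = j then ε else 0
  vecO_non : ∀ χ, (∀ o, exc o ≠ χ) → ∀ i, s.vecO χ i = c χ
  c_range : ∀ χ, c χ = 0 ∨ c χ = 1 ∨ c χ = -1
  card_nonzero : Nat.card {χ : Cfsg.IrrCharacter G // (∀ o, exc o ≠ χ) ∧ c χ ≠ 0} = Nat.card s.auto

theorem nonempty_shape [Fintype s.Orb] [DecidableEq s.Orb]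
    (hidx : ¬ r ∣ (Subgroup.zpowers s.z).index) : Nonempty (Shape s) := by
  classical
  obtain ⟨M, hM⟩ := Blocks88.exists_isPModular (Fact.out : r.Prime)
  haveI := BlocksCore.isPrime hM
  obtain ⟨f, c, ε, hε, hf, hfB, hvf, hcx, hcard⟩ :=
    BlocksCore.CyclicPrincipal.exists_shape hM s hidx
  set B := BlocksCore.CyclicPrincipal.members M G with hB
  let c' : Cfsg.IrrCharacter G → ℤ := fun χ => if χ ∈ B ∧ ∀ o, f o ≠ χ then c χ else 0
  have hzero : ∀ χ, χ ∉ B → ∀ i, s.vecO χ i = 0 := fun χ hχ i => by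
    rw [Setup.vecO]
    exact BlocksCore.CyclicBlock.vec_of_notMem s hM
      (fun h => hχ (BlocksCore.CyclicPrincipal.mem_members.mpr h)) _
  refine ⟨⟨f, c', ε, hε, hf, fun i j => by rw [hvf]; congr, fun χ hχ i => ?_, fun χ => ?_, ?_⟩⟩
  · by_cases h : χ ∈ B
    · simp only [c', h, hχ, ne_eq, not_false_iff, implies_true, and_self, if_true]
      exact (hcx χ h hχ).2 i
    · simp only [c', h, false_and, if_false]
      exact hzero χ h i
  · simp only [c']
    split_ifs with h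
    · exact Or.inr (hcx χ h.1 h.2).1
    · exact Or.inl rfl
  · have hset : (Finset.univ.filter fun χ : Cfsg.IrrCharacter G => (∀ o, f o ≠ χ) ∧ c' χ ≠ 0) =
        B \ Finset.univ.image f := by
      ext χ
      simp only [Finset.mem_filter, Finset.mem_univ, true_and, Finset.mem_sdiff, Finset.mem_image,
        not_exists, c']
      constructor
      · rintro ⟨h1, h2⟩
        exact ⟨by by_contra h; exact h2 (by simp [h]), fun o => h1 o⟩
      · rintro ⟨h1, h2⟩
        refine ⟨h2, ?_⟩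
        rw [if_pos ⟨h1, h2⟩]
        rcases (hcx χ h1 h2).1 with h | h <;> rw [h] <;> decide
    rw [Nat.card_eq_fintype_card, Fintype.card_subtype, hset, Finset.card_sdiff_of_subset
      (fun x hx => by obtain ⟨o, -, rfl⟩ := Finset.mem_image.mp hx; exact hfB o),
      Finset.card_image_of_injective _ hf, Finset.card_univ, hcard, Nat.add_sub_cancel]

/-- Multiplicity of the linear character of index `i`. -/
noncomputable def mu (χ : Cfsg.IrrCharacter G) (i : ZMod r) : ℕ :=
  (s.mult_eq_natCast (CharCore.irr_isCharacter χ) i).choose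

theorem mu_spec (χ : Cfsg.IrrCharacter G) (i : ZMod r) :
    s.mult (χ : G → ℂ) i = (mu s χ i : ℂ) :=
  (s.mult_eq_natCast (CharCore.irr_isCharacter χ) i).choose_spec

theorem vec_eq_mu_sub (χ : Cfsg.IrrCharacter G) (i : ZMod r) :
    s.vec χ i = (mu s χ i : ℤ) - mu s χ 0 := by
  apply Int.cast_injective (α := ℂ)
  rw [s.vec_spec, s.vecC_eq_sub, mu_spec, mu_spec]
  push_cast
  rfl

theorem phi_eq_apply (hK : s.K = ⊥) (f : G → ℂ) (k : ZMod r) : s.phi f k = f (s.zp k) := by
  have : s.kset = {1} := by ext w; simp [hK, Setup.mem_kset]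
  simp [Setup.phi, this]

theorem deg_eq_sum_mu (hK : s.K = ⊥) (χ : Cfsg.IrrCharacter G) :
    (Setup.deg χ : ℤ) = ∑ i : ZMod r, (mu s χ i : ℤ) := by
  have h := s.phi_eq_sum_mult (χ : G → ℂ) 0
  simp only [phi_eq_apply s hK, s.zp_zero, mul_zero, AddChar.map_zero_eq_one, mul_one, mu_spec,
    (Setup.deg_spec χ).2.2] at h
  exact_mod_cast h

theorem deg_eq [Fintype s.Orb] (hK : s.K = ⊥) (χ : Cfsg.IrrCharacter G) :
    (Setup.deg χ : ℤ) = r * mu s χ 0 + Nat.card s.auto * ∑ o, s.vecO χ o := by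
  classical
  have hu : ∑ x ∈ Finset.univ.erase (0 : ZMod r), s.vec χ x =
      (Nat.card s.auto : ℤ) * ∑ o, s.vecO χ o := by
    rw [← nsmul_eq_mul, ← s.sum_units_eq (fun o => s.vecO χ o)]
    symm
    exact Finset.sum_nbij (fun x : (ZMod r)ˣ => (x : ZMod r))
      (fun x _ => Finset.mem_erase.mpr ⟨x.ne_zero, Finset.mem_univ _⟩)
      (fun _ _ _ _ h => Units.ext h)
      (fun x hx => ⟨Units.mk0 x (Finset.ne_of_mem_erase hx), Finset.mem_univ _, rfl⟩)
      (fun x _ => (s.vec_eq_vecO χ x).symm)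
  rw [← hu, deg_eq_sum_mu s hK, ← Finset.add_sum_erase _ _ (Finset.mem_univ (0 : ZMod r))]
  simp only [vec_eq_mu_sub, Finset.sum_sub_distrib, Finset.sum_const, Finset.card_erase_of_mem,
    Finset.mem_univ, Finset.card_univ, ZMod.card, nsmul_eq_mul]
  have : ((r - 1 : ℕ) : ℤ) = (r : ℤ) - 1 := by
    have := hr.out.one_le; omega
  rw [this]
  ring

namespace Shape

variable {s} [Fintype s.Orb] [DecidableEq s.Orb] (D : Shape s)

/-- Not exceptional. -/
def Non (χ : Cfsg.IrrCharacter G) : Prop := ∀ o, D.exc o ≠ χ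

theorem exc_or_non (χ : Cfsg.IrrCharacter G) : (∃ o, D.exc o = χ) ∨ D.Non χ := by
  by_cases h : ∃ o, D.exc o = χ
  · exact Or.inl h
  · exact Or.inr fun o ho => h ⟨o, ho⟩

theorem deg_non (hK : s.K = ⊥) {χ : Cfsg.IrrCharacter G} (hχ : D.Non χ) :
    (Setup.deg χ : ℤ) = r * mu s χ 0 + ((r : ℤ) - 1) * D.c χ := by
  rw [deg_eq s hK, Finset.sum_congr rfl fun i _ => D.vecO_non χ hχ i, Finset.sum_const,
    Finset.card_univ, nsmul_eq_mul, ← mul_assoc, ← Nat.card_eq_fintype_card, ← Nat.cast_mul (Nat.card s.auto),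
    mul_comm (Nat.card s.auto), s.card_orb_mul, Nat.cast_sub hr.out.one_le, Nat.cast_one]

theorem deg_exc (hK : s.K = ⊥) (o : s.Orb) :
    (Setup.deg (D.exc o) : ℤ) = r * mu s (D.exc o) 0 + Nat.card s.auto * D.ε := by
  rw [deg_eq s hK, Finset.sum_eq_single o (fun i _ hi => by rw [D.vecO_exc, if_neg hi])
    (by simp), D.vecO_exc, if_pos rfl]

theorem apply_non (hK : s.K = ⊥) {χ : Cfsg.IrrCharacter G} (hχ : D.Non χ) {k : ZMod r}
    (hk : k ≠ 0) : (χ : G → ℂ) (s.zp k) = -(D.c χ : ℂ) := by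
  rw [← phi_eq_apply s hK (χ : G → ℂ) k]
  exact s.phi_of_const χ (D.c χ) (D.vecO_non χ hχ) hk

theorem exc_apply_eq {g : G} (hg : ¬ r ∣ orderOf g) (i j : s.Orb) :
    (D.exc i : G → ℂ) g = (D.exc j : G → ℂ) g := by
  classical
  have key : ∀ i, (D.ε : ℂ) * (D.exc i : G → ℂ) g +
      ∑ χ ∈ Finset.univ \ Finset.univ.image D.exc, (D.c χ : ℂ) * (χ : G → ℂ) g = 0 := by
    intro i
    have h := BlocksCore.CyclicPrincipal.sum_vecO_mul_regular s hg i
    rw [← Finset.sum_sdiff (Finset.subset_univ (Finset.univ.image D.exc)),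
      Finset.sum_image (fun a _ b _ h => D.exc_inj h), Finset.sum_eq_single i
        (fun j _ hj => by rw [D.vecO_exc, if_neg (Ne.symm hj), Int.cast_zero, zero_mul]) (by simp),
      D.vecO_exc, if_pos rfl, add_comm] at h
    refine Eq.trans ?_ h
    congr 1
    refine Finset.sum_congr rfl fun χ hχ => ?_
    rw [D.vecO_non χ (fun o ho => (Finset.mem_sdiff.mp hχ).2
      (Finset.mem_image.mpr ⟨o, Finset.mem_univ _, ho⟩)) i]
  have hε : (D.ε : ℂ) ≠ 0 := by rcases D.hε with h | h <;> simp [h]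
  exact mul_left_cancel₀ hε (add_right_cancel ((key i).trans (key j).symm))

theorem deg_exc_eq (i j : s.Orb) : Setup.deg (D.exc i) = Setup.deg (D.exc j) := by
  have h := D.exc_apply_eq (g := 1) (by rw [orderOf_one]; exact hr.out.not_dvd_one) i j
  rw [(Setup.deg_spec _).2.2, (Setup.deg_spec _).2.2] at h
  exact_mod_cast h

theorem sum_deg (o : s.Orb) :
    D.ε * (Setup.deg (D.exc o) : ℤ) +
      ∑ χ ∈ Finset.univ \ Finset.univ.image D.exc, (Setup.deg χ : ℤ) * D.c χ = 0 := by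
  classical
  have h := s.sum_deg_mul_vecO o
  rw [← Finset.sum_sdiff (Finset.subset_univ (Finset.univ.image D.exc)),
    Finset.sum_image (fun a _ b _ h => D.exc_inj h), Finset.sum_eq_single o
      (fun j _ hj => by rw [D.vecO_exc, if_neg (Ne.symm hj), mul_zero]) (by simp),
    D.vecO_exc, if_pos rfl, add_comm, mul_comm (Setup.deg (D.exc o) : ℤ)] at h
  refine Eq.trans ?_ h
  congr 1
  refine Finset.sum_congr rfl fun χ hχ => ?_
  rw [D.vecO_non χ (fun i hi => (Finset.mem_sdiff.mp hχ).2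
    (Finset.mem_image.mpr ⟨i, Finset.mem_univ _, hi⟩)) o]

theorem triv_non [Nontrivial s.Orb] : D.Non Setup.triv := by
  intro o ho
  obtain ⟨i, hi⟩ := exists_ne o
  have h := s.vecO_triv i
  rw [← ho, D.vecO_exc, if_neg hi] at h
  exact absurd h (by decide)

theorem c_triv [Nontrivial s.Orb] : D.c Setup.triv = -1 := by
  obtain ⟨i, -⟩ := exists_pair_ne s.Orb
  rw [← D.vecO_non _ D.triv_non i, s.vecO_triv]

end Shape

end Cfsg.Agent.Half51
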