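import Cfsg.Agent.Half51.Chars

/-!
# Automizer of order two in the group that is not triply transitive
-/

set_option autoImplicit false
set_option linter.style.haveILetI false
set_option linter.unusedSectionVars false

namespace Cfsg.Agent.Half51

open SmallGroups

variable {p q : ℕ} [hp : Fact p.Prime] [hqf : Fact q.Prime] {G : Subgroup (Equiv.Perm (ZMod p))}
  [Fintype G]

namespace Setup

variable (hS : Setup p q G)
include hS

theorem sum_vec_q [Fintype hS.qs.Orb] (χ : Cfsg.IrrCharacter G) :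
    (mu hS.ps χ 0 : ℤ) = (q : ℤ) * hS.wt χ 0 + Nat.card hS.qs.auto * ∑ o, hS.qs.vecO χ o := by
  have h1 := deg_eq hS.qs rfl χ
  have h2 := deg_eq_sum_mu hS.qs rfl χ
  have h3 : ∑ i : ZMod q, hS.qs.vec χ i = ∑ i : ZMod q, (mu hS.qs χ i : ℤ) - q * mu hS.qs χ 0 := by
    simp only [vec_eq_mu_sub, Finset.sum_sub_distrib, Finset.sum_const, Finset.card_univ, ZMod.card,
      nsmul_eq_mul]
  have h4 : ∑ i : ZMod q, hS.qs.vec χ i = ∑ i : ZMod q, (hS.wt χ i : ℤ) - q * hS.wt χ 0 := by
    simp only [hS.vec_eq_wt_sub, Finset.sum_sub_distrib, Finset.sum_const, Finset.card_univ,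
      ZMod.card, nsmul_eq_mul]
  rw [hS.sum_wt] at h4
  linarith

theorem mu_non [Fintype hS.qs.Orb] [DecidableEq hS.qs.Orb] (D : Shape hS.qs)
    {χ : Cfsg.IrrCharacter G} (hχ : D.Non χ) :
    (mu hS.ps χ 0 : ℤ) = (q : ℤ) * hS.wt χ 0 + ((q : ℤ) - 1) * D.c χ := by
  rw [hS.sum_vec_q, Finset.sum_congr rfl fun i _ => D.vecO_non χ hχ i, Finset.sum_const,
    Finset.card_univ, nsmul_eq_mul, ← mul_assoc, ← Nat.card_eq_fintype_card,
    ← Nat.cast_mul (Nat.card hS.qs.auto), mul_comm (Nat.card hS.qs.auto), hS.qs.card_orb_mul,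
    Nat.cast_sub hqf.out.one_le, Nat.cast_one]

theorem mu_exc [Fintype hS.qs.Orb] [DecidableEq hS.qs.Orb] (D : Shape hS.qs) (o : hS.qs.Orb) :
    (mu hS.ps (D.exc o) 0 : ℤ) = (q : ℤ) * hS.wt (D.exc o) 0 + Nat.card hS.qs.auto * D.ε := by
  rw [hS.sum_vec_q, Finset.sum_eq_single o (fun i _ hi => by rw [D.vecO_exc, if_neg hi]) (by simp),
    D.vecO_exc, if_pos rfl]

theorem p_split [Fintype hS.ps.Orb] [DecidableEq hS.ps.Orb] (Dp : Shape hS.ps)
    (χ : Cfsg.IrrCharacter G) :
    (∃ c : ℤ, (c = 0 ∨ c = 1 ∨ c = -1) ∧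
      (SelfCent.Setup.deg χ : ℤ) = p * mu hS.ps χ 0 + ((p : ℤ) - 1) * c) ∨
    ((∃ o, Dp.exc o = χ) ∧ (SelfCent.Setup.deg χ : ℤ) = p * mu hS.ps χ 0 + q * Dp.ε) := by
  rcases Dp.exc_or_non χ with ⟨o, rfl⟩ | hn
  · refine Or.inr ⟨⟨o, rfl⟩, ?_⟩
    rw [Dp.deg_exc rfl, hS.card_auto_ps]
  · exact Or.inl ⟨Dp.c χ, Dp.c_range χ, Dp.deg_non rfl hn⟩

theorem deg_theta : SelfCent.Setup.deg hS.theta = 2 * q := by
  have h := (SelfCent.Setup.deg_spec hS.theta).2.2
  rw [show ((hS.theta : Cfsg.IrrCharacter G) : G → ℂ) = thetaC G from rfl, hS.thetaC_one] at h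
  exact_mod_cast h.symm

theorem wC_one : wC G 1 = (((p : ℤ) * ((q : ℤ) - 1) : ℤ) : ℂ) := by
  unfold wC
  rw [hS.y_one]

theorem mC_one : mC G 1 = (((p : ℤ) * q : ℤ) : ℂ) := by
  unfold mC
  rw [hS.y_one, fZ, fixNum_one, ZMod.card]
  have hp' : (p : ℤ) = 2 * q + 1 := by exact_mod_cast hS.hpq
  congr 1
  rw [hp']; ring

/-- The unique degree `p` character, or a contradiction. -/
theorem unique_of_two {hd : Nat.card hS.qs.auto = 2}
    (h3 : ¬ MulAction.IsMultiplyPretransitive G (ZMod p) 3) :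
    ∃! χ : Cfsg.IrrCharacter G, SelfCent.Setup.deg χ = p := by
  classical
  haveI := Fintype.ofFinite hS.qs.Orb
  haveI := Fintype.ofFinite hS.ps.Orb
  obtain ⟨D⟩ := nonempty_shape hS.qs hS.not_dvd_index
  obtain ⟨Dp⟩ := nonempty_shape hS.ps hS.not_dvd_index_tau
  have hV := hS.vals_two h3
  have hpq : (p : ℤ) = 2 * q + 1 := by exact_mod_cast hS.hpq
  have hq11 : (11 : ℤ) ≤ q := by exact_mod_cast hS.eleven_le
  have horb : Nat.card hS.qs.Orb * 2 = q - 1 := hd ▸ hS.qs.card_orb_mul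
  have ht : 5 ≤ Fintype.card hS.qs.Orb := by
    rw [← Nat.card_eq_fintype_card]; have := hS.eleven_le; omega
  haveI : Nontrivial hS.qs.Orb := Fintype.one_lt_card_iff_nontrivial.mp (by omega)
  have hmθ : hS.mW hS.theta = 1 := by
    have := hS.mW_theta hV; norm_num at this; exact_mod_cast this
  have hθnon : D.Non hS.theta := fun o ho => by
    have h := hS.vecO_eq_wt hS.theta o
    rw [hS.wt_theta, hS.wt_theta, ← ho, D.vecO_exc, if_pos rfl] at h
    rcases D.hε with he | he <;> rw [he] at h <;> simp at h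
  have hθc : D.c hS.theta = 0 := by
    obtain ⟨o, -⟩ := exists_pair_ne hS.qs.Orb
    rw [← D.vecO_non _ hθnon o, hS.vecO_eq_wt, hS.wt_theta, hS.wt_theta]
    simp
  -- exactly two nonzero constants
  have htriv := D.triv_non
  have hctriv := D.c_triv
  obtain ⟨x, hxnon, hxc, hxne, hxall⟩ : ∃ x, D.Non x ∧ D.c x ≠ 0 ∧ x ≠ SelfCent.Setup.triv ∧
      ∀ χ, D.Non χ → D.c χ ≠ 0 → χ = SelfCent.Setup.triv ∨ χ = x := by
    have hc2 : (Finset.univ.filter fun χ : Cfsg.IrrCharacter G => D.Non χ ∧ D.c χ ≠ 0).card = 2 := by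
      rw [← Fintype.card_subtype, ← Nat.card_eq_fintype_card, ← hd]
      exact D.card_nonzero
    have htmem : (SelfCent.Setup.triv : Cfsg.IrrCharacter G) ∈
        Finset.univ.filter fun χ : Cfsg.IrrCharacter G => D.Non χ ∧ D.c χ ≠ 0 :=
      Finset.mem_filter.mpr ⟨Finset.mem_univ _, htriv, by rw [hctriv]; decide⟩
    obtain ⟨x, hx⟩ := Finset.card_eq_one.mp
      (show ((Finset.univ.filter fun χ : Cfsg.IrrCharacter G => D.Non χ ∧ D.c χ ≠ 0).erase
        SelfCent.Setup.triv).card = 1 by rw [Finset.card_erase_of_mem htmem, hc2])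
    have hxm := Finset.ext_iff.mp hx x
    simp only [Finset.mem_erase, Finset.mem_filter, Finset.mem_univ, true_and, Finset.mem_singleton,
      iff_true] at hxm
    refine ⟨x, hxm.2.1, hxm.2.2, hxm.1, fun χ h1 h2 => ?_⟩
    by_cases h : χ = SelfCent.Setup.triv
    · exact Or.inl h
    · exact Or.inr (Finset.mem_singleton.mp (hx ▸ Finset.mem_erase.mpr
        ⟨h, Finset.mem_filter.mpr ⟨Finset.mem_univ _, h1, h2⟩⟩))
  obtain ⟨o₀, -⟩ := exists_pair_ne hS.qs.Orb
  have heq : D.ε * (SelfCent.Setup.deg (D.exc o₀) : ℤ) - 1 + SelfCent.Setup.deg x * D.c x = 0 := by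
    have h := D.sum_deg o₀
    rw [Finset.sum_eq_add_of_mem (SelfCent.Setup.triv : Cfsg.IrrCharacter G) x
      (by simpa [Shape.Non] using htriv) (by simpa [Shape.Non] using hxnon) (Ne.symm hxne) (fun χ hχ hne => ?_),
      SelfCent.Setup.deg_triv, hctriv] at h
    · push_cast at h; linarith
    · have hn : D.Non χ := by simpa [Finset.mem_sdiff, Shape.Non] using hχ
      by_cases hc : D.c χ = 0
      · rw [hc, mul_zero]
      · rcases hxall χ hn hc with h | h
        · exact absurd h hne.1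
        · exact absurd h hne.2
  have hdegsum := deg_sum_eq hS.wC_eq hS.wC_one
  have hfpos : (0 : ℤ) < SelfCent.Setup.deg (D.exc o₀) := by
    exact_mod_cast (SelfCent.Setup.deg_spec (D.exc o₀)).1
  rcases hS.wC_shape D with ⟨χ₀, hχ₀, hc₀, hm₀, hrest⟩ | ⟨hε, hmexc, hrest⟩
  · exfalso
    have hx0 : χ₀ = x := (hxall χ₀ hχ₀ (by rw [hc₀]; decide)).resolve_left fun h => by
      rw [h, hctriv] at hc₀; exact absurd hc₀ (by decide)
    subst hx0
    rw [hc₀, mul_one] at heq
    have hε : D.ε = -1 := by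
      rcases D.hε with he | he
      · rw [he, one_mul] at heq
        have : (0 : ℤ) < SelfCent.Setup.deg χ₀ := by exact_mod_cast (SelfCent.Setup.deg_spec χ₀).1
        omega
      · exact he
    have hθ0 : hS.theta ≠ χ₀ := fun h => by rw [← h, hθc] at hc₀; exact absurd hc₀ (by decide)
    have hbound : (2 * q : ℤ) + SelfCent.Setup.deg χ₀ ≤ p * ((q : ℤ) - 1) := by
      rw [← hdegsum]
      have := Finset.add_le_sum (f := fun χ => (hS.mW χ : ℤ) * SelfCent.Setup.deg χ)
        (fun i _ => by positivity) (Finset.mem_univ hS.theta) (Finset.mem_univ χ₀) hθ0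
      rw [hmθ, hm₀, hS.deg_theta] at this
      push_cast at this
      linarith
    have hmu : (mu hS.ps χ₀ 0 : ℤ) = (q : ℤ) - 1 := by
      rw [hS.mu_non D hχ₀, hS.wt_zero_of_mW (by rw [hm₀]; decide), hc₀]; simp
    have hdeg0 : (SelfCent.Setup.deg χ₀ : ℤ) = p * ((q : ℤ) - 1) - 2 * q := by
      rcases hS.p_split Dp χ₀ with ⟨c, hc, h⟩ | ⟨-, h⟩
      · rw [hmu] at h
        rcases hc with rfl | rfl | rfl <;> linarith
      · rw [hmu] at h
        rcases Dp.hε with he | he <;> rw [he] at h <;> linarith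
    have hWeq : ∀ χ, χ ≠ hS.theta → χ ≠ χ₀ → hS.mW χ = 0 := by
      intro χ h1 h2
      by_contra hm
      have h := Finset.sum_le_sum_of_subset_of_nonneg
        (Finset.subset_univ ({hS.theta, χ₀, χ} : Finset (Cfsg.IrrCharacter G)))
        (f := fun χ => (hS.mW χ : ℤ) * SelfCent.Setup.deg χ) fun i _ _ => by positivity
      rw [hdegsum, Finset.sum_insert (by simp [hθ0, Ne.symm h1]),
        Finset.sum_insert (by simp [Ne.symm h2]), Finset.sum_singleton, hmθ, hm₀, hS.deg_theta,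
        hdeg0] at h
      have : (0 : ℤ) < (hS.mW χ : ℤ) * SelfCent.Setup.deg χ := by
        have := (SelfCent.Setup.deg_spec χ).1
        have := Nat.pos_of_ne_zero hm
        positivity
      push_cast at h
      linarith
    -- the constituents of `M`
    obtain ⟨mM, hMeq, hMinner⟩ := exists_mult hS.isCharacter_mC
    have hMdeg := deg_sum_eq hMeq hS.mC_one
    have hMtriv : mM SelfCent.Setup.triv = 0 := by
      have h := hMinner SelfCent.Setup.triv
      rw [show ((SelfCent.Setup.triv : Cfsg.IrrCharacter G) : G → ℂ) = fun _ => ((1 : ℤ) : ℂ) from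
        funext fun _ => Int.cast_one.symm] at h
      unfold mC at h
      rw [classInner_int_eq _ _ 0 ?_] at h
      · exact_mod_cast h.symm
      · simp only [mul_one, Finset.sum_sub_distrib, hV.f1, hV.f2, hV.sum_y]
        ring
    have hMθ : mM hS.theta = 1 := by
      have h := hMinner hS.theta
      rw [show ((hS.theta : Cfsg.IrrCharacter G) : G → ℂ) = thetaC G from rfl] at h
      unfold mC thetaC at h
      rw [classInner_int_eq _ _ 1 ?_] at h
      · exact_mod_cast h.symm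
      · rw [Finset.sum_congr rfl (g := fun g : G =>
          fZ (ZMod p) g * (fZ (ZMod p) g - 1) * (fZ (ZMod p) g - 2)
            - fZ (ZMod p) g * yZ (ZMod p) g + yZ (ZMod p) g) fun g _ => by ring]
        simp only [Finset.sum_sub_distrib, Finset.sum_add_distrib, hV.f3, hV.sum_fy, hV.sum_y]
        ring
    have hsumM : ∀ i, ∑ χ, mM χ * hS.wt χ i = 1 := fun i =>
      hS.sum_m_wt hMeq i (by rw [hS.wtC_mC]; simp)
    have h10 := hsumM 0
    obtain ⟨Ψ, -, hΨne⟩ := Finset.exists_ne_zero_of_sum_ne_zero (h10.trans_ne one_ne_zero)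
    have hΨsplit := Finset.add_sum_erase Finset.univ (fun χ => mM χ * hS.wt χ 0) (Finset.mem_univ Ψ)
    have hΨpos := Nat.pos_of_ne_zero hΨne
    have hΨ1 : mM Ψ * hS.wt Ψ 0 = 1 := by omega
    have hothers : ∀ χ, χ ≠ Ψ → mM χ ≠ 0 → hS.wt χ 0 = 0 := fun χ hne hm => by
      have h : ∑ χ ∈ Finset.univ.erase Ψ, mM χ * hS.wt χ 0 = 0 := by omega
      exact (mul_eq_zero.mp (Finset.sum_eq_zero_iff.mp h χ
        (Finset.mem_erase.mpr ⟨hne, Finset.mem_univ _⟩))).resolve_left hm
    obtain ⟨hmΨ, hwΨ⟩ := mul_eq_one.mp hΨ1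
    have hΨθ : Ψ ≠ hS.theta := fun h => by rw [h, hS.wt_theta] at hwΨ; exact zero_ne_one hwΨ
    have hΨ0 : Ψ ≠ χ₀ := fun h => by
      rw [h, hS.wt_zero_of_mW (by rw [hm₀]; decide)] at hwΨ; exact zero_ne_one hwΨ
    have hΨnon : D.Non Ψ := by
      intro o ho
      obtain ⟨o', ho'⟩ := exists_ne o
      have hown : hS.wt Ψ ((Quotient.out o : (ZMod q)ˣ) : ZMod q) = 0 := by
        have h := hS.vecO_eq_wt Ψ o
        rw [← ho, D.vecO_exc, if_pos rfl, hε, ho, hwΨ] at h
        omega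
      have hoth : hS.wt Ψ ((Quotient.out o' : (ZMod q)ˣ) : ZMod q) = 1 := by
        have h := hS.vecO_eq_wt Ψ o'
        rw [← ho, D.vecO_exc, if_neg ho', ho, hwΨ] at h
        omega
      obtain ⟨χ, -, hχne⟩ := Finset.exists_ne_zero_of_sum_ne_zero
        ((hsumM ((Quotient.out o : (ZMod q)ˣ) : ZMod q)).trans_ne one_ne_zero)
      obtain ⟨hχm, hχw⟩ := mul_ne_zero_iff.mp hχne
      have hχΨ : χ ≠ Ψ := fun h => hχw (h ▸ hown)
      have hvec := hS.vecO_eq_wt χ o
      rw [hothers χ hχΨ hχm] at hvec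
      rcases D.exc_or_non χ with ⟨j, rfl⟩ | hn
      · rw [D.vecO_exc, hε] at hvec
        have := Nat.pos_of_ne_zero hχw
        split_ifs at hvec <;> omega
      · rw [D.vecO_non χ hn] at hvec
        have := Nat.pos_of_ne_zero hχw
        have hχx : χ = χ₀ := (hxall χ hn (by omega)).resolve_left fun h => hχm (h ▸ hMtriv)
        subst hχx
        have h2 := hS.vecO_eq_wt χ o'
        rw [D.vecO_non χ hn, hc₀, hS.wt_zero_of_mW (by rw [hm₀]; decide)] at h2
        have h3' := Finset.add_le_sum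
          (f := fun η => mM η * hS.wt η ((Quotient.out o' : (ZMod q)ˣ) : ZMod q))
          (fun i _ => Nat.zero_le _) (Finset.mem_univ Ψ) (Finset.mem_univ χ) (Ne.symm hχΨ)
        rw [hsumM, hmΨ, hoth] at h3'
        have : hS.wt χ ((Quotient.out o' : (ZMod q)ˣ) : ZMod q) = 1 := by omega
        rw [this] at h3'
        have := Nat.pos_of_ne_zero hχm
        omega
    have hΨc : D.c Ψ = 0 := by
      by_contra hc
      rcases hxall Ψ hΨnon hc with h | h
      · rw [h, hMtriv] at hmΨ; exact zero_ne_one hmΨ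
      · exact hΨ0 h
    have hmuΨ : (mu hS.ps Ψ 0 : ℤ) = q := by rw [hS.mu_non D hΨnon, hwΨ, hΨc]; simp
    have hMbound : (2 * q : ℤ) + SelfCent.Setup.deg Ψ ≤ p * q := by
      rw [← hMdeg]
      have := Finset.add_le_sum (f := fun χ => (mM χ : ℤ) * SelfCent.Setup.deg χ)
        (fun i _ => by positivity) (Finset.mem_univ hS.theta) (Finset.mem_univ Ψ) (Ne.symm hΨθ)
      rw [hMθ, hmΨ, hS.deg_theta] at this
      push_cast at this
      linarith
    have hdegΨ : (SelfCent.Setup.deg Ψ : ℤ) = p * q - 2 * q := by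
      rcases hS.p_split Dp Ψ with ⟨c, hc, h⟩ | ⟨-, h⟩
      · rw [hmuΨ] at h
        rcases hc with rfl | rfl | rfl <;> linarith
      · rw [hmuΨ] at h
        rcases Dp.hε with he | he <;> rw [he] at h <;> linarith
    have hMzero : ∀ χ, χ ≠ hS.theta → χ ≠ Ψ → mM χ = 0 := by
      intro χ h1 h2
      by_contra hm
      have h := Finset.sum_le_sum_of_subset_of_nonneg
        (Finset.subset_univ ({hS.theta, Ψ, χ} : Finset (Cfsg.IrrCharacter G)))
        (f := fun χ => (mM χ : ℤ) * SelfCent.Setup.deg χ) fun i _ _ => by positivity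
      rw [hMdeg, Finset.sum_insert (by simp [Ne.symm hΨθ, Ne.symm h1]),
        Finset.sum_insert (by simp [Ne.symm h2]), Finset.sum_singleton, hMθ, hmΨ, hS.deg_theta,
        hdegΨ] at h
      have : (0 : ℤ) < (mM χ : ℤ) * SelfCent.Setup.deg χ := by
        have := (SelfCent.Setup.deg_spec χ).1
        have := Nat.pos_of_ne_zero hm
        positivity
      push_cast at h
      linarith
    -- the norm of the ordered pairs
    have hW2 : wC G = thetaC G + (χ₀ : G → ℂ) := by
      conv_lhs => rw [hS.wC_eq]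
      rw [Finset.sum_eq_add_of_mem hS.theta χ₀ (Finset.mem_univ _) (Finset.mem_univ _) hθ0
        (fun χ _ h => by rw [hWeq χ h.1 h.2, Nat.cast_zero, zero_smul]), hmθ, hm₀]
      simp only [Nat.cast_one, one_smul]
      rfl
    have hM2 : mC G = thetaC G + (Ψ : G → ℂ) := by
      conv_lhs => rw [hMeq]
      rw [Finset.sum_eq_add_of_mem hS.theta Ψ (Finset.mem_univ _) (Finset.mem_univ _) (Ne.symm hΨθ)
        (fun χ _ h => by rw [hMzero χ h.1 h.2, Nat.cast_zero, zero_smul]), hMθ, hmΨ]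
      simp only [Nat.cast_one, one_smul]
      rfl
    have hP : (fun g : G => ((fZ (ZMod p) g * (fZ (ZMod p) g - 1) : ℤ) : ℂ)) =
        ((SelfCent.Setup.triv : Cfsg.IrrCharacter G) : G → ℂ) +
          ((3 : ℂ) • (hS.theta : G → ℂ) + ((χ₀ : G → ℂ) + (Ψ : G → ℂ))) := by
      funext g
      have e1 := congrFun hW2 g
      have e2 := congrFun hM2 g
      simp only [wC, mC, thetaC, Pi.add_apply] at e1 e2
      simp only [Pi.add_apply, Pi.smul_apply, smul_eq_mul, SelfCent.Setup.triv, Pi.one_apply,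
        show ((hS.theta : Cfsg.IrrCharacter G) : G → ℂ) g = thetaC G g from rfl, thetaC]
      push_cast at e1 e2 ⊢
      linear_combination e1 + e2
    have h0θ : (SelfCent.Setup.triv : Cfsg.IrrCharacter G) ≠ hS.theta := fun h => by
      have := hS.deg_theta
      rw [← h, SelfCent.Setup.deg_triv] at this
      omega
    have h0x : (SelfCent.Setup.triv : Cfsg.IrrCharacter G) ≠ χ₀ := Ne.symm hxne
    have h0Ψ : (SelfCent.Setup.triv : Cfsg.IrrCharacter G) ≠ Ψ := fun h => by
      rw [← h, hMtriv] at hmΨ; exact zero_ne_one hmΨ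
    have hnorm : Cfsg.classInner (fun g : G => ((fZ (ZMod p) g * (fZ (ZMod p) g - 1) : ℤ) : ℂ))
        (fun g : G => ((fZ (ZMod p) g * (fZ (ZMod p) g - 1) : ℤ) : ℂ)) = 12 := by
      rw [hP]
      simp only [CharCore.classInner_add_left, CharCore.classInner_add_right,
        CharCore.classInner_smul_left, CharCore.classInner_smul_right, map_ofNat,
        CharCore.classInner_irr_self, CharCore.classInner_irr_of_ne h0θ,
        CharCore.classInner_irr_of_ne (Ne.symm h0θ), CharCore.classInner_irr_of_ne h0x,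
        CharCore.classInner_irr_of_ne (Ne.symm h0x), CharCore.classInner_irr_of_ne h0Ψ,
        CharCore.classInner_irr_of_ne (Ne.symm h0Ψ), CharCore.classInner_irr_of_ne hθ0,
        CharCore.classInner_irr_of_ne (Ne.symm hθ0), CharCore.classInner_irr_of_ne hΨθ,
        CharCore.classInner_irr_of_ne (Ne.symm hΨθ), CharCore.classInner_irr_of_ne hΨ0,
        CharCore.classInner_irr_of_ne (Ne.symm hΨ0)]
      norm_num
    rw [classInner_int_eq _ _ _ hV.sum_pair_sq] at hnorm
    have ho4 : (orbN G (ZMod p) 4 : ℤ) = 2 := by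
      have : ((orbN G (ZMod p) 4 : ℤ) + 4 * 2 + 2) = 12 := by exact_mod_cast hnorm
      omega
    obtain ⟨B, hsw, hcl, ⟨c, hc0', hc1', hcB⟩, ⟨c', hc'0, hc'1, hc'B⟩⟩ := hS.exists_class h3
    obtain ⟨c'', -, hc''⟩ := Finset.exists_mem_notMem_of_card_lt_card
      (s := ({0, 1, c, c'} : Finset (ZMod p))) (t := Finset.univ) (by
        rw [Finset.card_univ, ZMod.card]
        have := Finset.card_le_four (a := (0 : ZMod p)) (b := 1) (c := c) (d := c')
        have := hS.p_ge
        omega)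
    simp only [Finset.mem_insert, Finset.mem_singleton, not_or] at hc''
    have hcc' : c ≠ c' := fun h => hc'B (h ▸ hcB)
    have hmk : ∀ a b : ZMod p, a ≠ 0 → a ≠ 1 → b ≠ 0 → b ≠ 1 → a ≠ b →
        ∃ v : Fin 4 ↪ ZMod p, v 0 = 0 ∧ v 1 = 1 ∧ v 2 = a ∧ v 3 = b := by
      intro a b a0 a1 b0 b1 hab
      refine ⟨⟨![0, 1, a, b], fun i j h => ?_⟩, rfl, rfl, rfl, rfl⟩
      fin_cases i <;> fin_cases j <;> (first | rfl | exact absurd h zero_ne_one | exact absurd h one_ne_zero | exact absurd h a0 | exact absurd h.symm a0 | exact absurd h a1 | exact absurd h.symm a1 | exact absurd h b0 | exact absurd h.symm b0 | exact absurd h b1 | exact absurd h.symm b1 | exact absurd h hab | exact absurd h.symm hab)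
    obtain ⟨v, hv0, hv1, hv2, hv3⟩ := hmk c c' hc0' hc1' hc'0 hc'1 hcc'
    obtain ⟨w, hw0, hw1, hw2, hw3⟩ := hmk c' c hc'0 hc'1 hc0' hc1' (Ne.symm hcc')
    obtain ⟨u, hu0, hu1, hu2⟩ : ∃ u : Fin 4 ↪ ZMod p, u 0 = 0 ∧ u 1 = 1 ∧
        (B 0 1 (u 2) ↔ B 0 1 (u 3)) := by
      by_cases h : B 0 1 c''
      · obtain ⟨u, h0, h1, h2, h4⟩ := hmk c c'' hc0' hc1' hc''.1 hc''.2.1 (Ne.symm hc''.2.2.1)
        exact ⟨u, h0, h1, by rw [h2, h4]; exact iff_of_true hcB h⟩
      · obtain ⟨u, h0, h1, h2, h4⟩ := hmk c' c'' hc'0 hc'1 hc''.1 hc''.2.1 (Ne.symm hc''.2.2.2)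
        exact ⟨u, h0, h1, by rw [h2, h4]; exact iff_of_false hc'B h⟩
    have hinv : ∀ (a b : Fin 4 ↪ ZMod p), (∃ g : G, g • a = b) → a 0 = 0 → a 1 = 1 → b 0 = 0 →
        b 1 = 1 → (B 0 1 (a 2) ↔ B 0 1 (b 2)) ∧ (B 0 1 (a 3) ↔ B 0 1 (b 3)) := by
      rintro a b ⟨g, rfl⟩ a0 a1 b0 b1
      have key : ∀ π : Fin 3 ↪ Fin 4, B (a (π 0)) (a (π 1)) (a (π 2)) ↔
          B ((g • a) (π 0)) ((g • a) (π 1)) ((g • a) (π 2)) := fun π =>
        (hcl (π.trans a) (π.trans (g • a))).mpr ⟨g, Function.Embedding.ext fun i => rfl⟩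
      constructor
      · have h := key ⟨![0, 1, 2], by decide⟩
        simpa [a0, a1, b0, b1] using h
      · have h := key ⟨![0, 1, 3], by decide⟩
        simpa [a0, a1, b0, b1] using h
    have hge := le_sum_fixNum (G := G) ![v, w, u] (fun i j hij g hg => ?_)
    · rw [sum_fixNum_eq] at hge
      have := Nat.le_of_mul_le_mul_right hge Fintype.card_pos
      change 3 ≤ orbN G (ZMod p) 4 at this
      omega
    · fin_cases i <;> fin_cases j
      · exact hij rfl
      · obtain ⟨h1, -⟩ := hinv v w ⟨g, hg⟩ hv0 hv1 hw0 hw1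
        rw [hv2, hw2] at h1; exact hc'B (h1.mp hcB)
      · obtain ⟨h1, h2⟩ := hinv v u ⟨g, hg⟩ hv0 hv1 hu0 hu1
        rw [hv2] at h1; rw [hv3] at h2
        exact hc'B (h2.mpr (hu2.mp (h1.mp hcB)))
      · obtain ⟨h1, -⟩ := hinv w v ⟨g, hg⟩ hw0 hw1 hv0 hv1
        rw [hv2, hw2] at h1; exact hc'B (h1.mpr hcB)
      · exact hij rfl
      · obtain ⟨h1, h2⟩ := hinv w u ⟨g, hg⟩ hw0 hw1 hu0 hu1
        rw [hw2] at h1; rw [hw3] at h2
        exact hc'B (h1.mpr (hu2.mpr (h2.mp hcB)))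
      · obtain ⟨h1, h2⟩ := hinv u v ⟨g, hg⟩ hu0 hu1 hv0 hv1
        rw [hv2] at h1; rw [hv3] at h2
        exact hc'B (h2.mp (hu2.mp (h1.mpr hcB)))
      · obtain ⟨h1, h2⟩ := hinv u w ⟨g, hg⟩ hu0 hu1 hw0 hw1
        rw [hw2] at h1; rw [hw3] at h2
        exact hc'B (h1.mp (hu2.mpr (h2.mpr hcB)))
      · exact hij rfl
  · -- the exceptional family
    have hmu : ∀ o, (mu hS.ps (D.exc o) 0 : ℤ) = 2 := fun o => by
      rw [hS.mu_exc D, hS.wt_zero_of_mW (by rw [hmexc]; decide), hd, hε]; simp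
    have hfam : (2 * q : ℤ) + Fintype.card hS.qs.Orb * SelfCent.Setup.deg (D.exc o₀) ≤
        p * ((q : ℤ) - 1) := by
      rw [← hdegsum]
      have h := Finset.sum_le_sum_of_subset_of_nonneg
        (Finset.subset_univ (insert hS.theta (Finset.univ.image D.exc)))
        (f := fun χ => (hS.mW χ : ℤ) * SelfCent.Setup.deg χ) fun i _ _ => by positivity
      rw [Finset.sum_insert (by simpa [Shape.Non, eq_comm] using hθnon),
        Finset.sum_image (fun a _ b _ h => D.exc_inj h), hmθ, hS.deg_theta] at h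
      simp only [hmexc, D.deg_exc_eq _ o₀, Finset.sum_const, Finset.card_univ, Nat.cast_one, one_mul,
        nsmul_eq_mul] at h
      push_cast at h
      linarith
    have ht2 : 2 * (Fintype.card hS.qs.Orb : ℤ) = q - 1 := by
      rw [← Nat.card_eq_fintype_card]
      have := hS.eleven_le
      omega
    have hlt : (SelfCent.Setup.deg (D.exc o₀) : ℤ) < 2 * p := by
      by_contra hge
      have : (Fintype.card hS.qs.Orb : ℤ) * (2 * p) ≤
          Fintype.card hS.qs.Orb * SelfCent.Setup.deg (D.exc o₀) :=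
        mul_le_mul_of_nonneg_left (not_lt.mp hge) (by positivity)
      nlinarith
    have hdegf : (SelfCent.Setup.deg (D.exc o₀) : ℤ) = p + 1 := by
      rcases hS.p_split Dp (D.exc o₀) with ⟨c, hc, h⟩ | ⟨-, h⟩
      · rw [hmu] at h
        rcases hc with rfl | rfl | rfl <;> linarith
      · exfalso
        rw [hmu] at h
        have he : Dp.ε = -1 := by
          rcases Dp.hε with he | he
          · rw [he] at h; linarith
          · exact he
        rw [he] at h
        have hall : ∀ o, ∃ j, Dp.exc j = D.exc o := fun o => by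
          rcases hS.p_split Dp (D.exc o) with ⟨c, hc, h'⟩ | ⟨hj, -⟩
          · rw [hmu, D.deg_exc_eq o o₀, h] at h'
            rcases hc with rfl | rfl | rfl <;> linarith
          · exact hj
        choose j hj using hall
        have hinj : Function.Injective j := fun a b hab => D.exc_inj (by rw [← hj, ← hj, hab])
        have h5 := Fintype.card_le_of_injective j hinj
        rw [← Nat.card_eq_fintype_card (α := hS.ps.Orb), hS.card_orb_ps] at h5
        omega
    rw [hε, one_mul, hdegf] at heq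
    have hxp : SelfCent.Setup.deg x = p := by
      rcases D.c_range x with h | h | h <;> rw [h] at heq
      · exact absurd h hxc
      · omega
      · omega
    refine ⟨x, hxp, fun χ hχ => ?_⟩
    rcases D.exc_or_non χ with ⟨o, rfl⟩ | hn
    · rw [D.deg_exc_eq o o₀] at hχ
      omega
    · have hdeg := D.deg_non rfl hn
      rw [hχ] at hdeg
      have hc : D.c χ ≠ 0 := by
        intro h0
        rw [h0, mul_zero, add_zero, hpq] at hdeg
        have hdvd : (q : ℤ) ∣ 1 := ⟨(mu hS.qs χ 0 : ℤ) - 2, by linarith⟩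
        have := Int.le_of_dvd one_pos hdvd
        omega
      rcases hxall χ hn hc with h | h
      · rw [h, SelfCent.Setup.deg_triv] at hχ
        have := hS.p_ge
        omega
      · exact h

end Setup

end Cfsg.Agent.Half51
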