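import Cfsg.Agent.Half51.Kill
import Cfsg.Agent.Half51.TwoCase
import Cfsg.Agent.Half51.Annihilate
import Cfsg.Agent.Half51.Orbital
import Cfsg.Agent.Lib.CharClifford.Galois

/-!
# The triply transitive case: shape of `W` and the suborbit parameters
-/

set_option autoImplicit false
set_option linter.style.haveILetI false
set_option linter.unusedSectionVars false

open scoped ComplexConjugate
open MulAction

namespace Cfsg.Agent.Half51

open SmallGroups

variable {p q : ℕ} [hp : Fact p.Prime] [hqf : Fact q.Prime] {G : Subgroup (Equiv.Perm (ZMod p))}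
  [Fintype G]

namespace Setup

variable (hS : Setup p q G)
include hS

theorem exists_involution : ∃ (t : G) (a b c : ZMod p),
    a ≠ b ∧ t • a = a ∧ t • b = b ∧ t • c ≠ c ∧ t • (t • c) = c := by
  classical
  haveI := hS.two_trans
  haveI : Fact (Nat.Prime 2) := ⟨Nat.prime_two⟩
  have h2dvd : 2 ∣ Nat.card G := by
    obtain ⟨g, hg0, hg1⟩ := is_two_pretransitive_iff.mp hS.two_trans
      (zero_ne_one : (0 : ZMod p) ≠ 1) (one_ne_zero : (1 : ZMod p) ≠ 0)
    have h1 : (g * g) • (0 : ZMod p) = 0 := by rw [mul_smul, hg0, hg1]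
    by_contra hodd
    have hord : Odd (orderOf g) := by
      rw [← Nat.not_even_iff_odd]
      exact fun he => hodd ((even_iff_two_dvd.mp he).trans (orderOf_dvd_natCard g))
    obtain ⟨k, hk⟩ := hord
    have h2 : ∀ n : ℕ, ((g * g) ^ n) • (0 : ZMod p) = 0 := by
      intro n
      induction n with
      | zero => simp
      | succ n ih => rw [pow_succ, mul_smul, h1, ih]
    have h3 : g • (0 : ZMod p) = 0 := by
      have h4 : (g * g) ^ (k + 1) = g := by
        rw [← pow_two, ← pow_mul, show 2 * (k + 1) = orderOf g + 1 by omega, pow_succ,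
          pow_orderOf_eq_one, one_mul]
      conv_lhs => rw [← h4]
      exact h2 _
    rw [hg0] at h3
    exact one_ne_zero h3
  obtain ⟨t, ht⟩ := exists_prime_orderOf_dvd_card' (G := G) 2 h2dvd
  have htt : t * t = 1 := by rw [← pow_two, ← ht, pow_orderOf_eq_one]
  set σ : Equiv.Perm (ZMod p) := (t : Equiv.Perm (ZMod p)) with hσ
  have hσ2 : σ ^ 2 = 1 := by rw [pow_two, hσ, ← Subgroup.coe_mul, htt, Subgroup.coe_one]
  have hsign := Equiv.Perm.sign_of_pow_two_eq_one hσ2
  rw [hS.sign_eq_one t.2, ZMod.card] at hsign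
  set F := Fintype.card (Function.fixedPoints σ) with hF
  have hF2 : 2 ≤ F := by
    by_contra hlt
    have hhalf : (p - F) / 2 = q := by have := hS.hpq; omega
    rw [hhalf, hS.q_odd.neg_one_pow] at hsign
    exact absurd hsign (by decide)
  obtain ⟨⟨a, ha⟩, ⟨b, hb⟩, hab⟩ := Fintype.exists_pair_of_one_lt_card
    (α := Function.fixedPoints σ) (by omega)
  obtain ⟨c, hc⟩ : ∃ c, σ c ≠ c := by
    by_contra hno
    push Not at hno
    have h1 : σ = 1 := Equiv.ext hno
    have h2 : t = 1 := Subtype.ext h1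
    rw [h2, orderOf_one] at ht
    omega
  exact ⟨t, a, b, c, fun h => hab (Subtype.ext h), ha, hb, hc,
    by rw [← mul_smul, htt, one_smul]⟩

theorem sum_pair_fix_sq (hV : Vals G (ZMod p) 1) (t : ℕ)
    (ht : ∑ g : G, yZ (ZMod p) g * yZ (ZMod p) g = (t : ℤ) * Fintype.card G) :
    ∑ g : G, fixNum (Pair (ZMod p)) g * fixNum (Pair (ZMod p)) g = (2 + t) * Fintype.card G := by
  have h : ∀ g : G, ((fixNum (Pair (ZMod p)) g * fixNum (Pair (ZMod p)) g : ℕ) : ℤ) =
      yZ (ZMod p) g * yZ (ZMod p) g + 2 * (fZ (ZMod p) g * yZ (ZMod p) g) +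
        fZ (ZMod p) g * (fZ (ZMod p) g - 1) + fZ (ZMod p) g := fun g => by
    simp only [yZ, fZ]; push_cast; ring_nf; rfl
  apply Nat.cast_injective (R := ℤ)
  rw [Nat.cast_sum, Finset.sum_congr rfl fun g _ => h g]
  simp only [Finset.sum_add_distrib, ← Finset.mul_sum, ht, hV.sum_fy, hV.f1, hV.f2]
  push_cast
  ring

theorem norm_not_one (h3 : IsMultiplyPretransitive G (ZMod p) 3) (hV : Vals G (ZMod p) 1)
    (h1 : ∑ g : G, yZ (ZMod p) g * yZ (ZMod p) g = ((1 : ℕ) : ℤ) * Fintype.card G) : False := by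
  refine hS.not_four (four_transitive_of_pairs h3 hS.exists_involution fun a b c d c' d' => ?_)
  exact pairs_transitive (hS.sum_pair_fix_sq hV 1 h1).le a b c d c' d'

theorem norm_wC {m : Cfsg.IrrCharacter G → ℕ} (hm : wC G = ∑ χ, (m χ : ℂ) • (χ : G → ℂ)) :
    ∑ g : G, yZ (ZMod p) g * yZ (ZMod p) g =
      ((∑ χ, m χ * m χ : ℕ) : ℤ) * Fintype.card G := by
  have h := classInner_int (G := G) (yZ (ZMod p)) (yZ (ZMod p))
  have h2 : Cfsg.classInner (wC G) (wC G) = ((∑ χ, m χ * m χ : ℕ) : ℂ) := by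
    rw [hm, CharCore.classInner_sum_sum]
    push_cast
    exact Finset.sum_congr rfl fun χ _ => by rw [Complex.conj_natCast]
  unfold wC at h2
  rw [h, div_eq_iff (Nat.cast_ne_zero.mpr Fintype.card_ne_zero)] at h2
  exact_mod_cast h2

/-- `W` is the sum of the exceptional characters. -/
theorem wC_exceptional [Fintype hS.qs.Orb] [DecidableEq hS.qs.Orb] (D : Shape hS.qs)
    (h3 : IsMultiplyPretransitive G (ZMod p) 3) :
    D.ε = 1 ∧ (∀ o, hS.mW (D.exc o) = 1) ∧ (∀ χ, D.Non χ → hS.mW χ = 0) ∧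
      ∑ g : G, yZ (ZMod p) g * yZ (ZMod p) g =
        (Fintype.card hS.qs.Orb : ℤ) * Fintype.card G ∧ 2 ≤ Fintype.card hS.qs.Orb := by
  classical
  have hV := hS.vals_three h3
  have hkill : ∀ χ, D.Non χ → D.c χ = 0 → hS.mW χ = 0 := by
    intro χ hχ hc
    by_contra hm
    exact hS.no_mu_zero hV hm (hS.mu_zero_of_vec_zero D hχ hc (hS.wt_zero_of_mW hm))
  have hnorm := hS.norm_wC hS.wC_eq
  rcases hS.wC_shape D with ⟨χ₀, hχ₀, -, hm₀, hrest⟩ | ⟨hε, hexc, hrest⟩
  · exfalso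
    refine hS.norm_not_one h3 hV ?_
    rw [hnorm]
    congr 2
    rw [Finset.sum_eq_single χ₀ (fun χ _ hne => ?_) (by simp), hm₀]
    by_cases hm : hS.mW χ = 0
    · simp [hm]
    · obtain ⟨hn, hc⟩ := hrest χ hne hm
      exact absurd (hkill χ hn hc) hm
  · have hnon : ∀ χ, D.Non χ → hS.mW χ = 0 := fun χ hχ => by
      by_contra hm
      exact hm (hkill χ hχ (hrest χ hχ hm))
    have hsum : ∑ χ, hS.mW χ * hS.mW χ = Fintype.card hS.qs.Orb := by
      rw [← Finset.sum_subset (Finset.subset_univ (Finset.univ.image D.exc)) fun χ _ hχ => by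
        rw [hnon χ fun o ho => hχ (Finset.mem_image.mpr ⟨o, Finset.mem_univ _, ho⟩), mul_zero],
        Finset.sum_image (fun a _ b _ h => D.exc_inj h)]
      simp only [hexc, mul_one, Finset.sum_const, Finset.card_univ, smul_eq_mul]
    rw [hsum] at hnorm
    refine ⟨hε, hexc, hnon, hnorm, ?_⟩
    by_contra hlt
    have hpos : 0 < Fintype.card hS.qs.Orb := Fintype.card_pos
    refine hS.norm_not_one h3 hV ?_
    rw [hnorm, show Fintype.card hS.qs.Orb = 1 by omega]

theorem wC_apply_sum [Fintype hS.qs.Orb] [DecidableEq hS.qs.Orb] (D : Shape hS.qs)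
    (hexc : ∀ o, hS.mW (D.exc o) = 1) (hnon : ∀ χ, D.Non χ → hS.mW χ = 0) (g : G) :
    (yZ (ZMod p) g : ℂ) = ∑ o, (D.exc o : G → ℂ) g := by
  classical
  have h := congrFun hS.wC_eq g
  rw [Finset.sum_apply, ← Finset.sum_subset (Finset.subset_univ (Finset.univ.image D.exc))
    fun χ _ hχ => by
      rw [hnon χ fun o ho => hχ (Finset.mem_image.mpr ⟨o, Finset.mem_univ _, ho⟩)]; simp,
    Finset.sum_image (fun a _ b _ h => D.exc_inj h)] at h
  simpa [wC, hexc] using h

theorem yZ_dvd_of_regular [Fintype hS.qs.Orb] [DecidableEq hS.qs.Orb] (D : Shape hS.qs)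
    (hexc : ∀ o, hS.mW (D.exc o) = 1) (hnon : ∀ χ, D.Non χ → hS.mW χ = 0) {g : G}
    (hg : ¬ q ∣ orderOf g) : (Fintype.card hS.qs.Orb : ℤ) ∣ yZ (ZMod p) g := by
  classical
  have o₀ : hS.qs.Orb := ((1 : (ZMod q)ˣ) : hS.qs.Orb)
  have h := hS.wC_apply_sum D hexc hnon g
  rw [Finset.sum_congr rfl fun o _ => D.exc_apply_eq hg o o₀, Finset.sum_const, Finset.card_univ,
    nsmul_eq_mul] at h
  have hT : (Fintype.card hS.qs.Orb : ℂ) ≠ 0 := Nat.cast_ne_zero.mpr Fintype.card_ne_zero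
  have hrat : (D.exc o₀ : G → ℂ) g =
      (((yZ (ZMod p) g : ℚ) / (Fintype.card hS.qs.Orb : ℚ) : ℚ) : ℂ) := by
    push_cast
    rw [eq_div_iff hT, mul_comm]
    exact_mod_cast h.symm
  obtain ⟨k, hk⟩ := CharClifford.exists_int_of_isIntegral_rat
    (hrat ▸ CharCore.IsCharacter.isIntegral (CharCore.irr_isCharacter (D.exc o₀)) g)
  refine ⟨k, ?_⟩
  apply Int.cast_injective (α := ℂ)
  rw [h, hrat, hk]
  push_cast
  rfl

theorem deg_exc_three [Fintype hS.qs.Orb] [DecidableEq hS.qs.Orb] (D : Shape hS.qs)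
    (hexc : ∀ o, hS.mW (D.exc o) = 1) (hnon : ∀ χ, D.Non χ → hS.mW χ = 0) (o : hS.qs.Orb) :
    SelfCent.Setup.deg (D.exc o) = Nat.card hS.qs.auto * p := by
  classical
  have h := hS.wC_apply_sum D hexc hnon 1
  simp only [(SelfCent.Setup.deg_spec _).2.2, D.deg_exc_eq _ o, Finset.sum_const, Finset.card_univ,
    nsmul_eq_mul, hS.y_one] at h
  have h' : (p : ℤ) * ((q : ℤ) - 1) =
      (Fintype.card hS.qs.Orb : ℤ) * SelfCent.Setup.deg (D.exc o) := by exact_mod_cast h
  have horb : (Fintype.card hS.qs.Orb : ℤ) * Nat.card hS.qs.auto = (q : ℤ) - 1 := by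
    rw [← Nat.card_eq_fintype_card, ← Nat.cast_mul, hS.qs.card_orb_mul]
    have := hS.eleven_le
    omega
  rw [← horb] at h'
  have hT : (Fintype.card hS.qs.Orb : ℤ) ≠ 0 := by exact_mod_cast Fintype.card_ne_zero
  have : (SelfCent.Setup.deg (D.exc o) : ℤ) = Nat.card hS.qs.auto * p :=
    mul_left_cancel₀ hT (by linear_combination -h')
  exact_mod_cast this

theorem dvd_lamP [Fintype hS.qs.Orb] [DecidableEq hS.qs.Orb] (D : Shape hS.qs) (hε : D.ε = 1)
    (hexc : ∀ o, hS.mW (D.exc o) = 1) (hnon : ∀ χ, D.Non χ → hS.mW χ = 0)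
    (h3 : IsMultiplyPretransitive G (ZMod p) 3) (a b c y : ZMod p) (hab : a ≠ b) (hac : a ≠ c)
    (hay : a ≠ y) (hbc : b ≠ c) (hby : b ≠ y) (hcy : c ≠ y) :
    2 * Nat.card hS.qs.auto ∣ lamP G a b c y := by
  classical
  have hV := hS.vals_three h3
  set e₁ := pr a b hab with he₁
  set e₂ := pr c y hcy with he₂
  set l := lamP G a b c y with hl
  have hn2 : ((Fintype.card (ZMod p) - 2 : ℕ) : ℤ) = (p : ℤ) - 2 := by
    rw [ZMod.card]; have := hS.p_ge; omega
  have hn4 : ((Fintype.card (ZMod p) - 4 : ℕ) : ℤ) = (p : ℤ) - 4 := by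
    rw [ZMod.card]; have := hS.p_ge; omega
  have hsum1 : 2 * ∑ g : G, (adj e₁ e₂ g : ℤ) = ((p : ℤ) - 2) * l * Fintype.card G := by
    rw [← hn2, hl]
    exact_mod_cast two_mul_sum_adj h3 hab hcy hac.symm hbc.symm hay.symm hby.symm
  have hsum2 : 2 * ∑ g : G, fZ (ZMod p) g * (adj e₁ e₂ g : ℤ) =
      ((p : ℤ) - 4) * l * Fintype.card G := by
    rw [← hn4, hl]
    simp only [fZ]
    exact_mod_cast two_mul_sum_fix_adj h3 hab hcy hac.symm hbc.symm hay.symm hby.symm
  let R : G → ℤ := fun g =>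
    2 * (adj e₁ e₂ g : ℤ) - ((p : ℤ) - 2) * l + 2 * l * (fZ (ZMod p) g - 1)
  let RC : G → ℂ := fun g => (R g : ℂ)
  have hfcl : ∀ g h : G, fZ (ZMod p) (h * g * h⁻¹) = fZ (ZMod p) g := fun g h => by
    have := CharCore.IsCharacter.isClassFunction (isCharacter_permC (G := G) (X := ZMod p)) g h
    simp only [permC, Nat.cast_inj] at this
    simp only [fZ, this]
  have hRcl : Cfsg.IsClassFunction G RC := fun g h => by
    simp only [RC, R, adj_conj, hfcl]
  have hRtriv : ∑ g, R g * 1 = 0 := by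
    simp only [R, mul_one, Finset.sum_add_distrib, Finset.sum_sub_distrib, ← Finset.mul_sum,
      hsum1, hV.f1, Finset.sum_const, Finset.card_univ, nsmul_eq_mul]
    ring
  have hRtheta : ∑ g, R g * (fZ (ZMod p) g - 1) = 0 := by
    rw [Finset.sum_congr rfl (g := fun g : G => 2 * (fZ (ZMod p) g * (adj e₁ e₂ g : ℤ))
      - 2 * (adj e₁ e₂ g : ℤ) - ((p : ℤ) - 2) * l * fZ (ZMod p) g
      + ((p : ℤ) - 2) * l * 1 + 2 * l * ((fZ (ZMod p) g - 1) * (fZ (ZMod p) g - 1)))
      fun g _ => by simp only [R]; ring]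
    simp only [Finset.sum_add_distrib, Finset.sum_sub_distrib, ← Finset.mul_sum, hsum1, hsum2,
      hV.f1, hV.sum_one, hV.sum_theta_sq]
    ring
  have hpi : permC (G := G) (Pair (ZMod p)) =
      wC G + (((SelfCent.Setup.triv : Cfsg.IrrCharacter G) : G → ℂ) + (hS.theta : G → ℂ)) := by
    funext g
    simp [permC, wC, yZ, SelfCent.Setup.triv, theta, thetaC, fZ]
    rfl
  have horth : ∀ χ : Cfsg.IrrCharacter G, D.Non χ → Cfsg.classInner RC (χ : G → ℂ) = 0 := by
    intro χ hχ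
    by_cases h1 : χ = SelfCent.Setup.triv
    · rw [h1, show ((SelfCent.Setup.triv : Cfsg.IrrCharacter G) : G → ℂ) = fun _ => ((1 : ℤ) : ℂ)
        from funext fun _ => Int.cast_one.symm]
      exact (classInner_int_eq R (fun _ => 1) 0 (by rw [hRtriv, zero_mul])).trans Int.cast_zero
    by_cases h2 : χ = hS.theta
    · rw [h2]
      exact (classInner_int_eq R (fun g => fZ (ZMod p) g - 1) 0 (by rw [hRtheta, zero_mul])).trans
        Int.cast_zero
    have hperp : Cfsg.classInner (χ : G → ℂ) (permC (Pair (ZMod p))) = 0 := by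
      have h0 : Cfsg.classInner (χ : G → ℂ) (wC G) = 0 := by
        rw [← CharInd.classInner_swap, hS.classInner_wC, hnon χ hχ]
        simp
      rw [hpi, CharCore.classInner_add_right, CharCore.classInner_add_right, h0,
        CharCore.classInner_irr_of_ne h1, CharCore.classInner_irr_of_ne h2, add_zero, add_zero]
    have hadj : ∑ g : G, (adj e₁ e₂ g : ℂ) * (χ : G → ℂ) g = 0 := by
      simp only [adj, Nat.card_eq_fintype_card, Fintype.card_subtype, Finset.card_filter,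
        Nat.cast_sum, Nat.cast_ite, Nat.cast_one, Nat.cast_zero, Finset.sum_mul, ite_mul, one_mul,
        zero_mul]
      rw [Finset.sum_comm]
      refine Finset.sum_eq_zero fun e _ => ?_
      rw [← Finset.sum_fiberwise_of_maps_to (t := (Finset.univ : Finset (Pair (ZMod p))))
        (g := fun g : G => g • e) fun g _ => Finset.mem_univ _]
      refine Finset.sum_eq_zero fun e' _ => ?_
      rw [Finset.sum_congr rfl (g := fun g : G =>
        (if ∃ h : G, h • e₁ = e ∧ h • e₂ = e' then (1 : ℂ) else 0) * (χ : G → ℂ) g) fun g hg => by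
          erw [(Finset.mem_filter.mp hg).2]; rw [ite_mul, one_mul, zero_mul]; exact if_congr Iff.rfl rfl rfl,
        ← Finset.mul_sum, sum_fiber_eq_zero χ hperp e e', mul_zero]
    have hone0 : ∑ g : G, (χ : G → ℂ) g = 0 := by
      have h := CharCore.classInner_irr_of_ne h1
      simp only [Cfsg.classInner, SelfCent.Setup.triv, Pi.one_apply, map_one, mul_one,
        mul_eq_zero, inv_eq_zero, Nat.cast_eq_zero] at h
      exact h.resolve_left Nat.card_pos.ne'
    have hth0 : ∑ g : G, ((fZ (ZMod p) g - 1 : ℤ) : ℂ) * (χ : G → ℂ) g = 0 := by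
      have h := CharCore.classInner_irr_of_ne h2
      rw [show ((hS.theta : Cfsg.IrrCharacter G) : G → ℂ) = thetaC G from rfl] at h
      simp only [Cfsg.classInner, thetaC, map_intCast, mul_eq_zero, inv_eq_zero,
        Nat.cast_eq_zero] at h
      rw [← h.resolve_left Nat.card_pos.ne']
      exact Finset.sum_congr rfl fun g _ => mul_comm _ _
    have hconj : ∑ g : G, RC g * conj ((χ : G → ℂ) g) = 0 := by
      have h : ∑ g : G, RC g * (χ : G → ℂ) g = 0 := by
        rw [Finset.sum_congr rfl (g := fun g : G => 2 * ((adj e₁ e₂ g : ℂ) * (χ : G → ℂ) g)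
          - ((((p : ℤ) - 2) * l : ℤ) : ℂ) * (χ : G → ℂ) g
          + (((2 * l : ℕ) : ℤ) : ℂ) * (((fZ (ZMod p) g - 1 : ℤ) : ℂ) * (χ : G → ℂ) g)) fun g _ => by
            simp only [RC, R]; push_cast; ring]
        simp only [Finset.sum_add_distrib, Finset.sum_sub_distrib, ← Finset.mul_sum, hadj, hone0,
          hth0, mul_zero, sub_zero, add_zero]
      have h' := congrArg (starRingEnd ℂ) h
      rw [map_sum, map_zero] at h'
      rw [← h']
      exact Finset.sum_congr rfl fun g _ => by simp [RC]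
    rw [Cfsg.classInner, hconj, mul_zero]
  set α : hS.qs.Orb → ℂ := fun o => Cfsg.classInner RC (D.exc o : G → ℂ) with hα
  have hRspan : ∀ g, RC g = ∑ o, α o * (D.exc o : G → ℂ) g := fun g => by
    have h := congrFun (CharCore.eq_sum_classInner hRcl) g
    rw [Finset.sum_apply, ← Finset.sum_subset (Finset.subset_univ (Finset.univ.image D.exc))
      fun χ _ hχ => by
        rw [horth χ fun o ho => hχ (Finset.mem_image.mpr ⟨o, Finset.mem_univ _, ho⟩)]; simp,
      Finset.sum_image (fun a _ b _ h => D.exc_inj h)] at h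
    simpa using h
  set d := Nat.card hS.qs.auto with hd
  set Kset := (Finset.univ : Finset (ZMod q)).erase 0 with hK
  have hexsum : ∀ o, ∑ k ∈ Kset, (D.exc o : G → ℂ) (hS.qs.zp k) = -(d : ℂ) := by
    intro o
    have hdeg := D.deg_exc rfl o
    rw [hε, mul_one] at hdeg
    have hm := mu_spec hS.qs (D.exc o) 0
    rw [SelfCent.Setup.mult] at hm
    simp only [phi_eq_apply hS.qs rfl, zero_mul, neg_zero, AddChar.map_zero_eq_one, mul_one] at hm
    rw [← Finset.add_sum_erase _ _ (Finset.mem_univ (0 : ZMod q)), hS.qs.zp_zero,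
      (SelfCent.Setup.deg_spec _).2.2] at hm
    have hdeg' : (SelfCent.Setup.deg (D.exc o) : ℂ) = q * mu hS.qs (D.exc o) 0 + d := by
      exact_mod_cast hdeg
    have hq0 : (q : ℂ) ≠ 0 := Nat.cast_ne_zero.mpr hS.qpos.ne'
    rw [inv_mul_eq_iff_eq_mul₀ hq0] at hm
    linear_combination hm - hdeg'
  have hKsum : ∑ k ∈ Kset, RC (hS.qs.zp k) = -(d : ℂ) * ∑ o, α o := by
    simp only [hRspan]
    rw [Finset.sum_comm, Finset.mul_sum]
    refine Finset.sum_congr rfl fun o _ => ?_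
    rw [← Finset.mul_sum, hexsum o]
    ring
  have hR1 : RC 1 = (p : ℂ) * (d : ℂ) * ∑ o, α o := by
    rw [hRspan, Finset.mul_sum]
    refine Finset.sum_congr rfl fun o _ => ?_
    rw [(SelfCent.Setup.deg_spec _).2.2, hS.deg_exc_three D hexc hnon o]
    push_cast; ring
  have hpq : (p : ℤ) = 2 * q + 1 := by exact_mod_cast hS.hpq
  have hR1' : R 1 = (p : ℤ) * l := by
    simp only [R, fZ, fixNum_one, ZMod.card,
      adj_one (G := G) (pr_disjoint hab hcy hac.symm hbc.symm hay.symm hby.symm), he₁, he₂]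
    push_cast
    rw [hpq]; ring
  have hKR : ∑ k ∈ Kset, R (hS.qs.zp k) = -(l : ℤ) := by
    have h : ((p : ℤ) : ℂ) * ((∑ k ∈ Kset, R (hS.qs.zp k) : ℤ) : ℂ) = -((R 1 : ℤ) : ℂ) := by
      rw [Int.cast_sum]
      show ((p : ℤ) : ℂ) * (∑ k ∈ Kset, RC (hS.qs.zp k)) = -RC 1
      rw [hKsum, hR1]; push_cast; ring
    rw [hR1'] at h
    have h' : (p : ℤ) * ∑ k ∈ Kset, R (hS.qs.zp k) = -((p : ℤ) * l) := by exact_mod_cast h
    exact mul_left_cancel₀ (show (p : ℤ) ≠ 0 by exact_mod_cast hp.out.ne_zero)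
      (by linear_combination h')
  have hK2 : 2 * ∑ k ∈ Kset, (adj e₁ e₂ (hS.qs.zp k) : ℤ) =
      (l : ℤ) * ((q : ℤ) * (2 * q - 3)) := by
    have hterm : ∀ k ∈ Kset, R (hS.qs.zp k) =
        2 * (adj e₁ e₂ (hS.qs.zp k) : ℤ) - ((p : ℤ) - 2) * l := fun k hk => by
      simp only [R, fZ, (hS.fix_cyc (Finset.ne_of_mem_erase hk)).1]
      push_cast; ring
    rw [Finset.sum_congr rfl hterm, Finset.sum_sub_distrib, ← Finset.mul_sum, Finset.sum_const,
      hK, Finset.card_erase_of_mem (Finset.mem_univ _), Finset.card_univ, ZMod.card,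
      nsmul_eq_mul, Nat.cast_sub hqf.out.one_le] at hKR
    push_cast at hKR
    rw [hpq] at hKR
    rw [hK]
    linear_combination hKR
  let F : hS.qs.Orb → ℤ := fun o =>
    (adj e₁ e₂ (hS.qs.zp ((Quotient.out o : (ZMod q)ˣ) : ZMod q)) : ℤ)
  have hunits : ∑ k ∈ Kset, (adj e₁ e₂ (hS.qs.zp k) : ℤ) = (d : ℤ) * ∑ o, F o := by
    rw [hd, ← nsmul_eq_mul, ← hS.qs.sum_units_eq F]
    symm
    refine Finset.sum_nbij (fun r : (ZMod q)ˣ => (r : ZMod q))
      (fun r _ => Finset.mem_erase.mpr ⟨r.ne_zero, Finset.mem_univ _⟩)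
      (fun _ _ _ _ h => Units.ext h)
      (fun r hr => ⟨Units.mk0 r (Finset.ne_of_mem_erase hr), Finset.mem_univ _, rfl⟩) fun r _ => ?_
    obtain ⟨⟨u, hu⟩, hru⟩ := QuotientGroup.mk_out_eq_mul hS.qs.auto r
    have hconj : IsConj (hS.qs.zp (r : ZMod q))
        (hS.qs.zp ((Quotient.out (r : hS.qs.Orb) : (ZMod q)ˣ) : ZMod q)) := by
      rw [hS.qs.isConj_zp_iff r.ne_zero]
      exact ⟨u, hu, by rw [← Units.val_mul]; exact congrArg Units.val hru⟩
    obtain ⟨g, hg⟩ := isConj_iff.mp hconj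
    simp only [F]
    rw [← hg, adj_conj]
  rw [hunits] at hK2
  have horb : (d : ℤ) * Fintype.card hS.qs.Orb = (q : ℤ) - 1 := by
    rw [← Nat.card_eq_fintype_card, hd, mul_comm, ← Nat.cast_mul, hS.qs.card_orb_mul]
    have := hS.eleven_le
    omega
  set T : ℤ := (Fintype.card hS.qs.Orb : ℤ) with hT
  set S : ℤ := ∑ o, F o with hSum
  have hl_eq : (l : ℤ) = (l : ℤ) * (2 * (d : ℤ) * d * T * T + d * T) - 2 * ((d : ℤ) * S) := by
    rw [show (q : ℤ) = d * T + 1 by linarith] at hK2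
    linear_combination hK2
  have heven : (2 : ℤ) ∣ (l : ℤ) := by
    have h2 : (2 : ℤ) ∣ (l : ℤ) * ((q : ℤ) * (2 * q - 3)) := ⟨(d : ℤ) * S, hK2.symm⟩
    rcases Int.Prime.dvd_mul' Nat.prime_two h2 with h | h
    · exact h
    · exfalso
      rcases Int.Prime.dvd_mul' Nat.prime_two h with h' | h'
      · obtain ⟨j, hj⟩ := hS.q_odd
        have : (q : ℤ) = 2 * j + 1 := by exact_mod_cast hj
        omega
      · omega
  obtain ⟨m, hm⟩ := heven
  have hfinal : ((2 * d : ℕ) : ℤ) ∣ (l : ℤ) := by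
    refine ⟨m * (2 * (d : ℤ) * T * T + T) - S, ?_⟩
    push_cast
    rw [hm] at hl_eq ⊢
    linear_combination hl_eq
  exact Int.natCast_dvd_natCast.mp hfinal

end Setup

end Cfsg.Agent.Half51
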