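import Cfsg.Agent.Half51.Normalizer
import Cfsg.Agent.Half51.Shape
import Cfsg.Agent.Lib.SmallGroups.SelfCent.Two

/-!
# Weights of a character on the affine subgroup of order `p * q`
-/

set_option autoImplicit false
set_option linter.style.haveILetI false
set_option linter.unusedSectionVars false

open scoped ComplexConjugate

namespace Cfsg.Agent.Half51

open SmallGroups

variable {p q : ℕ} [hp : Fact p.Prime] [hqf : Fact q.Prime] {G : Subgroup (Equiv.Perm (ZMod p))}

namespace Setup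

variable (hS : Setup p q G)
include hS

/-- The translation by one. -/
noncomputable def tau : G :=
  ⟨(hS.exists_aff 1 1 one_ne_zero IsSquare.one).choose,
    (hS.exists_aff 1 1 one_ne_zero IsSquare.one).choose_spec.1⟩

theorem tau_apply (x : ZMod p) : (hS.tau : Equiv.Perm (ZMod p)) x = 1 + x := by
  have h := (hS.exists_aff 1 1 one_ne_zero IsSquare.one).choose_spec.2 x
  rw [one_mul] at h
  exact h

theorem tau_pow_apply (n : ℕ) (x : ZMod p) :
    ((hS.tau ^ n : G) : Equiv.Perm (ZMod p)) x = n + x := by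
  induction n with
  | zero => simp
  | succ n ih =>
    rw [pow_succ', Subgroup.coe_mul, Equiv.Perm.mul_apply, ih, hS.tau_apply]; push_cast; ring

theorem orderOf_tau : orderOf hS.tau = p := by
  refine orderOf_eq_prime (Subtype.ext (Equiv.ext fun x => ?_)) fun h => ?_
  · rw [hS.tau_pow_apply, ZMod.natCast_self, zero_add]; rfl
  · have h1 := hS.tau_apply 0
    rw [h, Subgroup.coe_one, Equiv.Perm.one_apply, add_zero] at h1
    exact zero_ne_one h1

theorem centralizer_tau : Subgroup.centralizer ({hS.tau} : Set G) = Subgroup.zpowers hS.tau := by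
  refine le_antisymm (fun g hg => ?_) (Subgroup.zpowers_le.mpr
    (Subgroup.mem_centralizer_singleton_iff.mpr rfl))
  have hg' : Commute g hS.tau := Subgroup.mem_centralizer_singleton_iff.mp hg
  have h1 : g = hS.tau ^ ((g : Equiv.Perm (ZMod p)) 0).val := by
    apply Subtype.ext
    apply Equiv.ext
    intro x
    rw [hS.tau_pow_apply, ZMod.natCast_zmod_val]
    have h2 := congrArg (fun a : G => (a : Equiv.Perm (ZMod p)) 0) (hg'.pow_right x.val).eq
    simp only [Subgroup.coe_mul, Equiv.Perm.mul_apply, hS.tau_pow_apply, ZMod.natCast_zmod_val,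
      add_zero] at h2
    rw [h2, add_comm]
  rw [h1]
  exact Subgroup.pow_mem _ (Subgroup.mem_zpowers _) _

/-- The self-centralizing translation. -/
noncomputable def ps : SelfCent.Setup G p where
  z := hS.tau
  K := ⊥
  orderOf_z := hS.orderOf_tau
  comm w hw := by rw [Subgroup.mem_bot.mp hw, one_mul, mul_one]
  not_dvd := by rw [Subgroup.card_bot]; exact hp.out.not_dvd_one
  card_cent := by
    rw [Subgroup.card_bot, mul_one, hS.centralizer_tau, Nat.card_zpowers, hS.orderOf_tau]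

theorem ps_zp_apply (u x : ZMod p) : (hS.ps.zp u : Equiv.Perm (ZMod p)) x = u + x := by
  show ((hS.tau ^ u.val : G) : Equiv.Perm (ZMod p)) x = _
  rw [hS.tau_pow_apply, ZMod.natCast_zmod_val]

theorem qs_zp_apply (k : ZMod q) (x : ZMod p) :
    (hS.qs.zp k : Equiv.Perm (ZMod p)) x = hS.sq k * x := by
  show ((hS.cyc ^ k.val : G) : Equiv.Perm (ZMod p)) x = _
  rw [hS.cyc_pow_apply]
  rfl

theorem not_dvd_index_tau : ¬ p ∣ (Subgroup.zpowers hS.ps.z).index := by
  intro h
  haveI := hS.isPretransitive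
  refine Cfsg.Agent.Perm.PrimeDeg.not_sq_dvd_card (G := G) (ZMod.card p) ?_
  rw [← Subgroup.card_mul_index (Subgroup.zpowers hS.ps.z), Nat.card_zpowers,
    show orderOf hS.ps.z = p from hS.orderOf_tau, pow_two]
  exact Nat.mul_dvd_mul_left p h

theorem card_auto_ps [Fintype G] : Nat.card hS.ps.auto = q := by
  let P : Sylow p G := (IsPGroup.of_card (n := 1)
    (by rw [Nat.card_zpowers, show orderOf hS.ps.z = p from hS.orderOf_tau, pow_one]) :
    IsPGroup p (Subgroup.zpowers hS.ps.z)).toSylow hS.not_dvd_index_tau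
  have hN := hS.card_normalizer P
  have h := hS.ps.card_normalizer
  rw [show Nat.card hS.ps.K = 1 from Subgroup.card_bot, mul_one] at h
  change 2 * Nat.card (Subgroup.normalizer ((Subgroup.zpowers hS.ps.z : Subgroup G) : Set G)) = _ at hN
  rw [h, show p - 1 = 2 * q by have := hS.hpq; omega,
    show 2 * (Nat.card hS.ps.auto * p) = p * (2 * Nat.card hS.ps.auto) by ring] at hN
  have := Nat.eq_of_mul_eq_mul_left hp.out.pos hN
  omega

theorem card_orb_ps [Fintype G] : Nat.card hS.ps.Orb = 2 := by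
  have h := hS.ps.card_orb_mul
  rw [hS.card_auto_ps, show p - 1 = 2 * q by have := hS.hpq; omega] at h
  exact Nat.eq_of_mul_eq_mul_right hS.qpos h

/-- The square affine maps inside the group. -/
def affS : Subgroup G where
  carrier := {g | ∃ u k, ∀ x, (g : Equiv.Perm (ZMod p)) x = u + hS.sq k * x}
  one_mem' := ⟨0, 0, fun x => by simp [hS.sq_zero]⟩
  mul_mem' := by
    rintro a b ⟨u, k, ha⟩ ⟨v, l, hb⟩
    exact ⟨u + hS.sq k * v, k + l, fun x => by
      rw [Subgroup.coe_mul, Equiv.Perm.mul_apply, hb, ha, hS.sq_add]; ring⟩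
  inv_mem' := by
    rintro a ⟨u, k, ha⟩
    refine ⟨-(hS.sq (-k) * u), -k, fun x => ?_⟩
    have h1 : hS.sq k * hS.sq (-k) = 1 := by rw [← hS.sq_add, add_neg_cancel, hS.sq_zero]
    apply (a : Equiv.Perm (ZMod p)).injective
    rw [Subgroup.coe_inv, Equiv.Perm.inv_def, Equiv.apply_symm_apply, ha]
    linear_combination (u - x) * h1

theorem mul_zp_apply (u : ZMod p) (k : ZMod q) (x : ZMod p) :
    ((hS.ps.zp u * hS.qs.zp k : G) : Equiv.Perm (ZMod p)) x = u + hS.sq k * x := by
  rw [Subgroup.coe_mul, Equiv.Perm.mul_apply, hS.qs_zp_apply, hS.ps_zp_apply]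

/-- Coordinates on the square affine maps. -/
noncomputable def affEquiv : ZMod p × ZMod q ≃ hS.affS :=
  Equiv.ofBijective (fun x => ⟨hS.ps.zp x.1 * hS.qs.zp x.2, x.1, x.2, hS.mul_zp_apply x.1 x.2⟩) (by
    constructor
    · rintro ⟨u, k⟩ ⟨v, l⟩ h
      have h' := congrArg (fun a : hS.affS => ((a : G) : Equiv.Perm (ZMod p))) h
      have h0 := Equiv.congr_fun h' 0
      have h1 := Equiv.congr_fun h' 1
      simp only [hS.mul_zp_apply, mul_zero, add_zero, mul_one] at h0 h1
      rw [h0] at h1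
      rw [h0, hS.sq_inj (add_left_cancel h1)]
    · rintro ⟨g, u, k, hg⟩
      refine ⟨(u, k), Subtype.ext (Subtype.ext (Equiv.ext fun x => ?_))⟩
      rw [hg]
      exact hS.mul_zp_apply u k x)

/-- The linear characters of the square affine maps. -/
noncomputable def lam (i : ZMod q) : hS.affS →* ℂˣ :=
  ((ZMod.stdAddChar.mulShift i).toMonoidHom.toHomUnits).comp
    { toFun := fun g => Multiplicative.ofAdd (hS.affEquiv.symm g).2
      map_one' := by
        have h : hS.affEquiv (0, 0) = 1 := Subtype.ext (by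
          show hS.ps.zp 0 * hS.qs.zp 0 = 1
          rw [hS.ps.zp_zero, hS.qs.zp_zero, one_mul])
        rw [← h, Equiv.symm_apply_apply]
        rfl
      map_mul' := fun a b => by
        obtain ⟨⟨u, k⟩, rfl⟩ := hS.affEquiv.surjective a
        obtain ⟨⟨v, l⟩, rfl⟩ := hS.affEquiv.surjective b
        have h : hS.affEquiv (u, k) * hS.affEquiv (v, l) = hS.affEquiv (u + hS.sq k * v, k + l) := by
          refine Subtype.ext (Subtype.ext (Equiv.ext fun x => ?_))
          show ((hS.ps.zp u * hS.qs.zp k : G) : Equiv.Perm (ZMod p))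
            (((hS.ps.zp v * hS.qs.zp l : G) : Equiv.Perm (ZMod p)) x) =
            ((hS.ps.zp (u + hS.sq k * v) * hS.qs.zp (k + l) : G) : Equiv.Perm (ZMod p)) x
          rw [hS.mul_zp_apply, hS.mul_zp_apply, hS.mul_zp_apply, hS.sq_add]
          ring
        rw [h, Equiv.symm_apply_apply, Equiv.symm_apply_apply, Equiv.symm_apply_apply]
        rfl }

theorem lam_apply (i : ZMod q) (u : ZMod p) (k : ZMod q) :
    (hS.lam i (hS.affEquiv (u, k)) : ℂ) = ZMod.stdAddChar (i * k) := by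
  simp [lam, AddChar.mulShift_apply]

variable [Fintype G]

/-- The multiplicity on the square affine maps of the linear character of index `i`. -/
noncomputable def wtC (f : G → ℂ) (i : ZMod q) : ℂ :=
  hS.qs.mult f i - (f 1 - hS.ps.mult f 0) / q

theorem apply_zp_mul_zp {f : G → ℂ} (hf : Cfsg.IsClassFunction G f) (u : ZMod p) {k : ZMod q}
    (hk : k ≠ 0) : f (hS.ps.zp u * hS.qs.zp k) = f (hS.qs.zp k) := by
  have h1 : (1 : ZMod p) - hS.sq k ≠ 0 := sub_ne_zero.mpr fun h =>
    hk (hS.sq_inj (by rw [hS.sq_zero, ← h]))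
  set v : ZMod p := u / (1 - hS.sq k) with hv
  have h2 : hS.ps.zp u * hS.qs.zp k = hS.ps.zp v * hS.qs.zp k * (hS.ps.zp v)⁻¹ := by
    refine Subtype.ext (Equiv.ext fun x => ?_)
    obtain ⟨y, rfl⟩ := (hS.ps.zp v : Equiv.Perm (ZMod p)).surjective x
    rw [hS.mul_zp_apply, Subgroup.coe_mul, Subgroup.coe_mul, Subgroup.coe_inv,
      Equiv.Perm.mul_apply, Equiv.Perm.mul_apply, Equiv.Perm.inv_def, Equiv.symm_apply_apply,
      hS.qs_zp_apply, hS.ps_zp_apply, hS.ps_zp_apply]
    have : v * (1 - hS.sq k) = u := by rw [hv, div_mul_cancel₀ _ h1]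
    linear_combination -this
  rw [h2, hf]

theorem exists_wtC_eq_natCast {f : G → ℂ} (hf : Cfsg.IsCharacter G f) (i : ZMod q) :
    ∃ n : ℕ, hS.wtC f i = n := by
  classical
  obtain ⟨n, hn⟩ := CharCore.IsCharacter.exists_classInner_eq_natCast
    (CharCore.isCharacter_restrict hf hS.affS)
    (CharCore.IsIrrCharacter.isCharacter (CharCore.isIrrCharacter_hom (hS.lam i)))
  refine ⟨n, hn ▸ ?_⟩
  have hcard : Nat.card hS.affS = p * q := by
    rw [← Nat.card_congr hS.affEquiv, Nat.card_prod, Nat.card_zmod, Nat.card_zmod]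
  rw [Cfsg.classInner, hcard, ← Equiv.sum_comp hS.affEquiv, Fintype.sum_prod_type, Finset.sum_comm,
    Nat.cast_mul]
  simp only [lam_apply, SelfCent.conj_stdAddChar]
  have hcl := CharCore.IsCharacter.isClassFunction hf
  have hk : ∀ k : ZMod q, (∑ u : ZMod p, f ((hS.affEquiv (u, k) : hS.affS) : G) *
      (ZMod.stdAddChar (-(i * k)) : ℂ)) =
      (p : ℂ) * ((if k = 0 then hS.ps.mult f 0 - f 1 else 0) +
        hS.qs.phi f k * ZMod.stdAddChar (-(i * k))) := by
    intro k
    rw [phi_eq_apply hS.qs rfl]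
    by_cases hk : k = 0
    · subst hk
      rw [if_pos rfl, mul_zero, neg_zero, AddChar.map_zero_eq_one, hS.qs.zp_zero]
      have hp0 : (p : ℂ) ≠ 0 := Nat.cast_ne_zero.mpr hp.out.ne_zero
      simp only [mul_one, sub_add_cancel, SelfCent.Setup.mult, zero_mul, neg_zero,
        AddChar.map_zero_eq_one, mul_inv_cancel_left₀ hp0]
      refine Finset.sum_congr rfl fun u _ => ?_
      rw [phi_eq_apply hS.ps rfl]
      show f (hS.ps.zp u * hS.qs.zp 0) = _
      rw [hS.qs.zp_zero, mul_one]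
    · rw [if_neg hk, zero_add]
      rw [Finset.sum_congr rfl (g := fun _ => f (hS.qs.zp k) * (ZMod.stdAddChar (-(i * k)) : ℂ))
        fun u _ => by rw [← hS.apply_zp_mul_zp hcl u hk]; rfl]
      rw [Finset.sum_const, Finset.card_univ, ZMod.card, nsmul_eq_mul]
  show _ = _ * ∑ k : ZMod q, ∑ u : ZMod p, f ((hS.affEquiv (u, k) : hS.affS) : G) * _
  rw [Finset.sum_congr rfl fun k _ => hk k, ← Finset.mul_sum, Finset.sum_add_distrib,
    Finset.sum_ite_eq', if_pos (Finset.mem_univ _), wtC, SelfCent.Setup.mult]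
  have hp0 : (p : ℂ) ≠ 0 := Nat.cast_ne_zero.mpr hp.out.ne_zero
  have hq0 : (q : ℂ) ≠ 0 := Nat.cast_ne_zero.mpr hS.qpos.ne'
  field_simp
  ring

/-- The weight of an irreducible character. -/
noncomputable def wt (χ : Cfsg.IrrCharacter G) (i : ZMod q) : ℕ :=
  (hS.exists_wtC_eq_natCast (CharCore.irr_isCharacter χ) i).choose

theorem wt_spec (χ : Cfsg.IrrCharacter G) (i : ZMod q) :
    hS.wtC (χ : G → ℂ) i = (hS.wt χ i : ℂ) :=
  (hS.exists_wtC_eq_natCast (CharCore.irr_isCharacter χ) i).choose_spec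

theorem vec_eq_wt_sub (χ : Cfsg.IrrCharacter G) (i : ZMod q) :
    hS.qs.vec χ i = (hS.wt χ i : ℤ) - hS.wt χ 0 := by
  apply Int.cast_injective (α := ℂ)
  push_cast
  rw [← hS.wt_spec, ← hS.wt_spec, hS.qs.vec_spec, hS.qs.vecC_eq_sub, wtC, wtC]
  ring

theorem sum_wt (χ : Cfsg.IrrCharacter G) :
    ∑ i : ZMod q, (hS.wt χ i : ℤ) = mu hS.ps χ 0 := by
  apply Int.cast_injective (α := ℂ)
  push_cast
  rw [← Finset.sum_congr rfl fun i _ => hS.wt_spec χ i, ← mu_spec]
  show ∑ i : ZMod q, hS.wtC (χ : G → ℂ) i = _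
  simp only [wtC, Finset.sum_sub_distrib, Finset.sum_const, Finset.card_univ, ZMod.card,
    nsmul_eq_mul]
  have h := hS.qs.phi_eq_sum_mult (χ : G → ℂ) 0
  simp only [phi_eq_apply hS.qs rfl, hS.qs.zp_zero, mul_zero, AddChar.map_zero_eq_one, mul_one] at h
  rw [← h]
  have hq0 : (q : ℂ) ≠ 0 := Nat.cast_ne_zero.mpr hS.qpos.ne'
  field_simp
  ring

theorem mult_sum {r : ℕ} [Fact r.Prime] (s : SelfCent.Setup G r) (hK : s.K = ⊥)
    (m : Cfsg.IrrCharacter G → ℂ) (i : ZMod r) :
    s.mult (∑ χ, m χ • (χ : G → ℂ)) i = ∑ χ, m χ * s.mult (χ : G → ℂ) i := by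
  simp only [SelfCent.Setup.mult, phi_eq_apply s hK, Finset.sum_apply, Pi.smul_apply, smul_eq_mul,
    Finset.sum_mul, Finset.mul_sum]
  rw [Finset.sum_comm]
  exact Finset.sum_congr rfl fun χ _ => Finset.sum_congr rfl fun k _ => by ring

/-- Weights of a sum. -/
theorem wtC_sum {f : G → ℂ} {m : Cfsg.IrrCharacter G → ℕ}
    (hf : f = ∑ χ, (m χ : ℂ) • (χ : G → ℂ)) (i : ZMod q) :
    hS.wtC f i = ∑ χ, (m χ : ℂ) * hS.wt χ i := by
  subst hf
  simp only [← hS.wt_spec, wtC, hS.mult_sum hS.qs rfl, hS.mult_sum hS.ps rfl, Finset.sum_apply,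
    Pi.smul_apply, smul_eq_mul, mul_sub, Finset.sum_sub_distrib, sub_div, Finset.sum_div,
    mul_div_assoc]

end Setup

end Cfsg.Agent.Half51
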